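import Cfsg.Agent.Lib.LyIndex.Index
import Cfsg.Prelude.Def_Sporadic
import Mathlib.GroupTheory.QuotientGroup.Basic

/-!
# The presented Lyons group is simple of the expected order
-/

set_option autoImplicit false
set_option maxRecDepth 100000
set_option synthInstance.maxHeartbeats 400000

namespace CfsgLib.LyIndex

open CfsgLib.LyGTwo Finset
open scoped Classical

theorem ly_card : Nat.card Cfsg.Spor.Ly = 51765179004000000 := by
  rw [← Subgroup.index_mul_card hLy, hLy_index, hLy_card]

theorem ly_finite : Finite Cfsg.Spor.Ly := Nat.finite_of_card_ne_zero (by rw [ly_card]; norm_num)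

/-- No sum of some orbit sizes with the first is a proper divisor of the index. -/
theorem block_check : ((List.range 32).all fun b =>
    !b.testBit 0 || !Nat.beq (8835156 % (((List.range 5).filter fun j => b.testBit j).map orbSize).sum) 0 ||
      Nat.beq b 1 || Nat.beq b 31) = true := by decide +kernel

theorem bits_five : ∀ p : Fin 5 → Bool, ∃ b : Fin 32, ∀ j : Fin 5, p j = b.val.testBit j.val := by
  decide +kernel

theorem sub_cases (M : Subgroup Cfsg.Spor.Ly) (hM : hLy ≤ M) : M = hLy ∨ M = ⊤ := by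
  haveI := ly_finite
  set X := Cfsg.Spor.Ly ⧸ hLy
  let Y : Set X := QuotientGroup.mk '' (M : Set Cfsg.Spor.Ly)
  have hpre : (QuotientGroup.mk ⁻¹' Y : Set Cfsg.Spor.Ly) = M := by
    ext g
    constructor
    · rintro ⟨m, hm, e⟩
      have := M.mul_mem hm (hM (QuotientGroup.eq.1 e))
      rwa [mul_inv_cancel_left] at this
    · exact fun h => ⟨g, h, rfl⟩
  have hMY : Nat.card ↥M = Nat.card ↥hLy * Nat.card ↥Y := by
    rw [← Nat.card_prod]
    exact (Nat.card_congr (Equiv.setCongr hpre.symm)).trans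
      (Nat.card_congr (QuotientGroup.preimageMkEquivSubgroupProdSet hLy Y))
  have hdvd : Nat.card ↥Y ∣ 8835156 := by
    have h := Subgroup.card_subgroup_dvd_card M
    rw [hMY, ly_card, hLy_card] at h
    exact Nat.dvd_of_mul_dvd_mul_left (show 0 < 5859000000 by norm_num)
      (h.trans (dvd_of_eq (by norm_num)))
  let S := (range 5).filter fun j => vert lyCtx j ∈ Y
  have hYpsi : ∀ (m : Mt) (x : X), x ∈ Y → psiLy m • x ∈ Y := by
    rintro m x ⟨g, hg, rfl⟩
    exact ⟨psiLy m * g, M.mul_mem (hM ⟨m, rfl⟩) hg, rfl⟩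
  have hin : ∀ j x, x ∈ orbF lyCtx j → (x ∈ Y ↔ vert lyCtx j ∈ Y) := by
    intro j x hx
    obtain ⟨m, rfl⟩ := (mem_orbF lyCtx).1 hx
    refine ⟨fun h => ?_, fun h => hYpsi m _ h⟩
    have := hYpsi m⁻¹ _ h
    rw [map_inv] at this
    change (psiLy m)⁻¹ • psiLy m • vert lyCtx j ∈ Y at this
    rwa [inv_smul_smul] at this
  have hY : Y = ↑(S.biUnion (orbF lyCtx)) := by
    ext x
    obtain ⟨j, hj, e, m, rfl⟩ := ly_cover x
    rw [lyCtx_lab, one_smul]
    have hx : lyCtx.psi m • vert lyCtx j ∈ orbF lyCtx j := (mem_orbF lyCtx).2 ⟨m, rfl⟩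
    simp only [coe_biUnion, Set.mem_iUnion, mem_coe, S, mem_filter, mem_range, exists_prop]
    refine ⟨fun h => ⟨j, ⟨hj, (hin j _ hx).1 h⟩, hx⟩, ?_⟩
    rintro ⟨k, ⟨hk, hkY⟩, hxk⟩
    exact (hin k _ hxk).2 hkY
  have hcard : Nat.card ↥Y = ∑ j ∈ S, orbSize j := by
    rw [hY, Nat.card_coe_set_eq, Set.ncard_coe_finset, card_biUnion]
    · exact sum_congr rfl fun j hj =>
        orb_card lyCtx lyCtx_lab ly_vert (mem_range.1 (mem_filter.1 hj).1)
    · intro a ha b hb hne
      rw [Function.onFun, disjoint_left]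
      intro x hxa hxb
      rw [mem_orbF] at hxa hxb
      obtain ⟨m, rfl⟩ := hxa
      exact hne (orb_inj lyCtx lyCtx_lab ly_vert (mem_range.1 (mem_filter.1 ha).1)
        (mem_range.1 (mem_filter.1 hb).1) ((mem_orb_iff lyCtx m a b).1 hxb))
  have h0 : vert lyCtx 0 ∈ Y := ⟨1, M.one_mem, rfl⟩
  obtain ⟨b, hb, hbS⟩ : ∃ b : ℕ, b < 32 ∧ S = (range 5).filter fun j => b.testBit j = true := by
    obtain ⟨b, hb⟩ := bits_five fun j => decide (vert lyCtx j.val ∈ Y)
    refine ⟨b.val, b.isLt, filter_congr fun j hj => ?_⟩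
    rw [← hb ⟨j, mem_range.1 hj⟩, decide_eq_true_iff]
  have hc := List.all_eq_true.1 block_check b (List.mem_range.2 hb)
  have h0S : 0 ∈ S := mem_filter.2 ⟨mem_range.2 (by norm_num), h0⟩
  rw [hbS] at h0S
  have hb0 : b.testBit 0 = true := (mem_filter.1 h0S).2
  have hsum : (((List.range 5).filter fun j => b.testBit j).map orbSize).sum = Nat.card ↥Y := by
    rw [hcard, hbS, ← List.sum_toFinset _ (List.Nodup.filter _ List.nodup_range)]
    exact sum_congr (by ext j; simp) fun _ _ => rfl
  simp only [hb0, hsum, Nat.mod_eq_zero_of_dvd hdvd, Bool.not_true, Bool.false_or, Nat.beq_eq,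
    Bool.or_eq_true] at hc
  have hM0 := Subgroup.card_eq_card_quotient_mul_card_subgroup hLy
  rcases hc with (h | h) | h
  · simp at h
  · left
    have : Nat.card ↥Y = 1 := by rw [← hsum, h]; decide +kernel
    refine (Subgroup.eq_of_le_of_card_ge hM ?_).symm
    rw [hMY, this, mul_one]
  · right
    have : Nat.card ↥Y = 8835156 := by rw [← hsum, h]; decide +kernel
    refine Subgroup.eq_top_of_card_eq _ ?_
    rw [hMY, this, hLy_card, ly_card]

theorem ly_simple : IsSimpleGroup Cfsg.Spor.Ly := by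
  haveI := ly_finite
  haveI : Nontrivial Cfsg.Spor.Ly := ⟨⟨fLy 0, 1, fLy_ne_one⟩⟩
  refine ⟨fun N hN => ?_⟩
  haveI := hN
  have hsimple := gTwo_simple
  rcases IsSimpleGroup.eq_bot_or_eq_top_of_normal (N.comap psiLy) (hN.comap psiLy) with hc | hc
  · have hdis : ∀ m, psiLy m ∈ N → m = 1 := fun m hm => by
      have : m ∈ N.comap psiLy := hm
      rwa [hc, Subgroup.mem_bot] at this
    rcases sub_cases (N ⊔ hLy) le_sup_right with h | h
    · left
      refine eq_bot_iff.2 fun x hx => ?_
      obtain ⟨m, rfl⟩ := (h ▸ Subgroup.mem_sup_left hx : x ∈ hLy)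
      rw [hdis m hx, map_one]
      exact one_mem _
    · exfalso
      have hz : lyCtx.z ∈ N ⊔ hLy := h ▸ Subgroup.mem_top _
      rw [← SetLike.mem_coe, Subgroup.normal_mul, Set.mem_mul] at hz
      obtain ⟨a, ha, _, ⟨g, rfl⟩, hzg⟩ := hz
      obtain ⟨e, -⟩ := lyCtx.z_conj (g := 0) (by norm_num)
      obtain ⟨hx, hk, -, -⟩ := fixNum_checks
      rw [lyCtx_lab, mul_one, ← lyCtx.psi_W hx, ← lyCtx.psi_W hk, ← hzg] at e
      have eq := congrArg (QuotientGroup.mk' N) e
      have h1 : QuotientGroup.mk' N a = 1 := (QuotientGroup.eq_one_iff a).2 ha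
      simp only [map_mul, h1, one_mul] at eq
      change QuotientGroup.mk' N (psiLy g) * QuotientGroup.mk' N (psiLy (gv (xW.getD 0 []))) =
        QuotientGroup.mk' N (psiLy (gv (kW.getD 0 []))) * QuotientGroup.mk' N (psiLy g) at eq
      rw [← map_mul, ← map_mul, ← map_mul, ← map_mul, QuotientGroup.mk'_apply, QuotientGroup.mk'_apply,
        QuotientGroup.eq, ← map_inv, ← map_mul] at eq
      exact not_conj g (inv_mul_eq_one.1 (hdis _ eq))
  · have hle : hLy ≤ N := by
      rintro _ ⟨m, rfl⟩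
      exact (hc ▸ Subgroup.mem_top m : m ∈ N.comap psiLy)
    rcases sub_cases N hle with h | h
    · exfalso
      obtain ⟨hv, hok⟩ := lyCtx.loop_val (i := 0) (by norm_num)
      obtain ⟨g1, g2, e⟩ : ∃ g1 g2, loopG 0 = [g1, g2] := ⟨_, _, rfl⟩
      rw [e] at hv hok
      simp only [loopWord, lyCtx.W_append, lyCtx.W_z, lyCtx.W_nil, one_mul, lyCtx_lab] at hv
      rw [← lyCtx.psi_W (hok g1 (by simp)), ← lyCtx.psi_W (hok g2 (by simp))] at hv
      have hz2 : (QuotientGroup.mk' N lyCtx.z) * QuotientGroup.mk' N lyCtx.z = 1 := by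
        have eq := congrArg (QuotientGroup.mk' N) hv
        have hp : ∀ m : Mt, QuotientGroup.mk' N (lyCtx.psi m) = 1 := fun m =>
          (QuotientGroup.eq_one_iff _).2 (hle ⟨m, rfl⟩)
        simp only [map_mul, map_one, hp, one_mul, mul_one] at eq
        exact eq
      have htop : Subgroup.zpowers (QuotientGroup.mk' N lyCtx.z) = ⊤ := by
        have := fLy_top ((Subgroup.zpowers (QuotientGroup.mk' N lyCtx.z)).comap (QuotientGroup.mk' N))
          fun g hg => by
            rcases eq_or_ne g 4 with rfl | h4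
            · exact Subgroup.mem_zpowers _
            · rw [Subgroup.mem_comap, show fLy g = psiLy (gG g) from (psiLy_gen g (by omega)).symm,
                show QuotientGroup.mk' N (psiLy (gG g)) = 1 from
                  (QuotientGroup.eq_one_iff _).2 (hle ⟨_, rfl⟩)]
              exact one_mem _
        refine eq_top_iff.2 fun x _ => ?_
        obtain ⟨y, rfl⟩ := QuotientGroup.mk'_surjective N x
        exact (this ▸ Subgroup.mem_top y :)
      have hle2 : Nat.card (Cfsg.Spor.Ly ⧸ N) ≤ 2 := by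
        rw [← Subgroup.card_top, ← htop, Nat.card_zpowers]
        exact orderOf_le_of_pow_eq_one (by norm_num) (by rw [pow_two]; exact hz2)
      rw [← Subgroup.index_eq_card, h, hLy_index] at hle2
      omega
    · exact Or.inr h

/-- The presented group is a group of the order of the Lyons group, and simple. -/
theorem ly_isLy : Cfsg.IsLy Cfsg.Spor.Ly := ⟨ly_simple, ly_card⟩

end CfsgLib.LyIndex
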