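import Cfsg.Agent.Lib.LyIndex.CertData

/-!
# The facts are derived (part 0)
-/

set_option autoImplicit false
set_option maxRecDepth 100000
set_option Elab.async false

namespace CfsgLib.LyIndex

theorem facts_ok0 : ((List.range 320).all fun i =>
    Nat.ble itemCount (0 * 320 + i) || chkItem tab (0 * 320 + i) (tab (0 * 320 + i))) = true := by
  decide +kernel

end CfsgLib.LyIndex
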