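import Cfsg.Agent.Lib.LyIndex.Item

/-!
# The derived facts (generated)
-/

set_option autoImplicit false
set_option maxRecDepth 100000

namespace CfsgLib.LyIndex

/-- Chunk 0 of the facts. -/
def items0 : List Item := [
  .defn 0 [] 1,
  .root [],
  .conv 0 [] 1 [] [0, 0, 0, 0, 0, 0, 0, 0, 0, 0, 0, 0, 0, 0] 0 [] 1,
  .root [2, 0, 7, 5, 7, 6, 5, 1, 5],
  .conv 0 [2, 0, 7, 5, 7, 6, 5, 1, 5] 1 [] [0, 0, 0, 0, 0, 0, 0, 0, 0, 0, 0, 0, 0, 0] 0 [] 3,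
  .root [5, 6, 7, 5, 1, 2],
  .conv 0 [5, 6, 7, 5, 1, 2] 1 [] [0, 0, 0, 0, 0, 0, 0, 0, 0, 0, 0, 0, 0, 0] 0 [] 5,
  .root [7, 5, 6, 2, 2, 6, 5, 1, 1, 5],
  .conv 0 [7, 5, 6, 2, 2, 6, 5, 1, 1, 5] 1 [] [0, 0, 0, 0, 0, 0, 0, 0, 0, 0, 0, 0, 0, 0] 0 [] 7,
  .root [2, 1, 7, 5, 2, 1, 7, 5, 2],
  .conv 0 [2, 1, 7, 5, 2, 1, 7, 5, 2] 1 [] [0, 0, 0, 0, 0, 0, 0, 0, 0, 0, 0, 0, 0, 0] 0 [] 9,
  .root [7, 6, 6, 0, 6, 7, 3, 6, 7, 1, 0, 7, 1, 3],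
  .conv 0 [7, 6, 6, 0, 6, 7, 3, 6, 7, 1, 0, 7, 1, 3] 1 [] [0, 0, 0, 0, 0, 0, 0, 0, 0, 0, 0, 0, 0, 0] 0 [] 11,
  .loopT 1 [] 0 [7, 7, 6, 6, 5, 6, 2, 3, 6, 2, 1, 0, 2, 1, 8] [0, 0, 0, 0, 0, 0, 0, 0, 1, 0, 0, 0, 0, 0] 0 [12],
  .prod 1 [] [0, 0, 0, 0, 0, 0, 0, 0, 0, 0, 0, 0, 0, 0] [],
  .conv 1 [7, 5, 5, 1, 5, 1, 1, 7, 1, 1] 0 [1, 0, 6, 7, 3, 7, 5, 5, 1, 3, 2, 6, 7, 3, 6, 7] [0, 1, 0, -1, 1, 0, -1, 0, 1, 0, 0, 0, 0, 0] 13 [3, 6, 9, 12] 14,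
  .root [7, 5, 1, 5, 6, 7, 5, 2, 8, 2, 0, 7, 5, 7, 6],
  .conv 0 [7, 5, 1, 5, 6, 7, 5, 2, 8, 2, 0, 7, 5, 7, 6] 1 [] [0, 0, 0, 0, 0, 0, 0, 0, 0, 0, 0, 0, 0, 0] 0 [] 16,
  .loopS 1 [6, 6, 2, 0, 0, 6, 6, 0, 6, 2] [0, -1, 0, 1, -1, 0, 1, 0, 0, 0, 0, 0, 0, 0] 1 [15, 17],
  .conv 1 [5, 7, 5, 1, 7, 1, 5, 6, 6] 0 [5, 2, 3, 7, 7, 6, 6, 5, 3, 2, 2, 3, 7, 0, 7, 0] [-1, 0, 0, 0, 0, 0, 0, -1, 1, 0, 0, 0, 0, 0] 13 [7, 0] 14,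
  .root [5, 8, 7, 8, 5, 7, 6, 6, 5, 3, 6, 7, 1, 0],
  .conv 0 [5, 8, 7, 8, 5, 7, 6, 6, 5, 3, 6, 7, 1, 0] 1 [] [0, 0, 0, 0, 0, 0, 0, 0, 0, 0, 0, 0, 0, 0] 0 [] 20,
  .conv 1 [1, 5, 1, 1, 5, 2, 5, 1, 2, 1] 0 [6, 5, 6, 6, 7, 1, 7, 3, 2, 3, 2, 0, 2, 3, 7] [0, -1, 0, 0, 0, 0, -1, 0, 1, 0, 0, 0, 0, 0] 13 [6, 1] 14,
  .root [5, 1, 1, 2, 1, 2, 5, 2, 8, 7, 6, 0, 1, 7, 0],
  .conv 0 [5, 1, 1, 2, 1, 2, 5, 2, 8, 7, 6, 0, 1, 7, 0] 1 [] [0, 0, 0, 0, 0, 0, 0, 0, 0, 0, 0, 0, 0, 0] 0 [] 23,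
  .loopT 1 [6, 7, 8, 5, 7, 5, 1, 7, 1, 0, 1, 3, 2, 5] 1 [8, 0, 2, 8, 7, 1, 3, 2, 3, 2, 1, 3, 7] [0, 1, 0, 0, 0, 0, 1, 0, -1, 0, 1, 0, 0, 0] 6 [22, 24],
  .conv 1 [6, 7, 8, 5, 7, 5, 1, 7, 1, 0, 1, 3, 2, 5] 1 [8, 0, 2, 8, 7, 1, 3, 2, 3, 2, 1, 3, 7] [0, 1, 0, 0, 0, 0, 1, 0, -1, 0, 1, 0, 0, 0] 25 [] 14,
  .loopS 1 [6, 6, 5, 2, 1, 2, 2, 5, 7, 5, 5] [1, -1, 0, 0, 0, 0, -1, 1, 0, 0, 0, 0, 0, 0] 6 [19, 21, 26],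
  .prod 1 [2, 1, 5, 2, 1, 7, 0, 6, 0, 6] [4, -7, 0, 3, -3, 0, -1, 4, 0, 0, 0, 0, 0, 0] [(false, 18), (false, 18), (false, 27), (false, 27), (false, 27), (false, 18), (false, 27)],
  .conv 1 [6, 5, 8, 6, 6, 7, 5, 1, 7, 1, 1, 8, 7, 1, 1] 1 [8, 6, 6, 2, 2, 8, 7, 0, 7, 1, 5, 2, 3, 0, 2] [4, -5, 1, 3, -3, 0, -1, 3, -1, 0, 1, 0, 0, 0] 25 [5, 6, 7, 10, 13, 9] 28,
  .prod 1 [6, 2, 6, 6, 2, 2, 0, 6, 6] [3, -6, 0, 3, -3, 0, 0, 3, 0, 0, 0, 0, 0, 0] [(false, 27), (false, 27), (false, 18), (false, 27), (false, 18), (false, 18)],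
  .conv 1 [3, 2, 0, 7, 8, 5, 6, 7, 5, 2, 3, 7, 5, 6, 5] 1 [8, 0, 6, 7, 6, 0, 7, 6, 8, 7, 5, 2, 5, 1, 2] [2, -6, 0, 3, -3, -1, 0, 2, -1, 0, 1, 0, 0, 0] 25 [0, 6, 1, 7, 5] 30]

/-- Chunk 1 of the facts. -/
def items1 : List Item := [
  .prod 1 [7, 1, 2, 1, 2, 0, 2, 6, 6] [1, -4, 0, 3, -3, 0, 2, 1, 0, 0, 0, 0, 0, 0] [(false, 27), (false, 18), (false, 18), (false, 18)],
  .conv 1 [8, 6, 0, 7, 1, 7, 3, 6, 6, 7, 1, 1, 8] 1 [0, 7, 7, 1, 2, 8, 7, 5, 1, 7, 5, 3, 7, 0, 2] [1, -2, 0, 4, -3, 1, 3, 0, -1, 0, 1, 0, 0, 0] 25 [6, 13, 11, 7, 14, 9] 32,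
  .loopS 1 [2, 6, 5, 1, 5, 7, 5, 2, 1, 0] [-7, 13, -1, -10, 9, 0, -2, -5, 3, 0, -2, 0, 0, 0] 5 [29, 31, 33],
  .conv 1 [] 0 [7, 7, 6, 6, 5, 6, 2, 3, 6, 2, 1, 0, 2, 1, 8] [0, 0, 0, 0, 0, 0, 0, 0, 1, 0, 0, 0, 0, 0] 13 [] 14,
  .conv 1 [1, 2, 2, 1, 7, 6, 6, 7] 0 [0, 1, 5, 7, 1, 0, 7, 8, 7, 5, 7, 1, 1, 7] [-1, 0, 0, 0, 1, 0, 0, 0, 1, 0, 0, 0, 0, 0] 13 [0, 12] 14,
  .root [5, 6, 7, 1, 7, 5, 1, 3, 7, 1, 0, 7, 1, 3],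
  .conv 0 [5, 6, 7, 1, 7, 5, 1, 3, 7, 1, 0, 7, 1, 3] 1 [] [0, 0, 0, 0, 0, 0, 0, 0, 0, 0, 0, 0, 0, 0] 0 [] 37,
  .loopT 1 [6, 6, 0, 1, 1] 1 [6, 6, 5, 7, 1, 2, 2, 1, 7] [1, 0, 0, 0, -1, 0, 0, 0, -1, 1, 0, 0, 0, 0] 3 [36, 38],
  .conv 1 [2, 0, 7, 5, 7, 6, 5, 1, 5] 1 [3, 3, 2, 1, 2, 2] [2, -1, -2, -1, -1, 1, -2, 0, -1, 1, 0, 0, 0, 0] 39 [3, 2, 13, 2, 6, 7] 27,
  .prod 1 [2, 5, 2, 6, 6, 7, 0, 1, 7, 7] [-14, 26, -2, -20, 18, 0, -4, -10, 6, 0, -4, 0, 0, 0] [(false, 34), (false, 34)],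
  .conv 1 [5, 6, 7, 5, 1, 2] 1 [2, 0, 1, 1, 7, 6, 5, 7] [-13, 27, -3, -20, 17, -1, -3, -11, 5, 1, -4, 0, 0, 0] 39 [14, 2, 7, 9, 5] 41,
  .conv 1 [7, 5, 6, 2, 2, 6, 5, 1, 1, 5] 1 [6, 6, 2, 2, 5, 2, 1, 7, 1, 2] [3, 2, 0, -1, -1, 0, 0, 0, -1, 1, 0, 0, 0, 0] 39 [3, 8, 9, 9, 8] 14,
  .conv 1 [2, 1, 7, 5, 2, 1, 7, 5, 2] 1 [1, 7, 5, 6, 7, 0, 1, 0, 7, 0, 2] [-7, 14, -2, -9, 8, 0, -2, -4, 2, 1, -2, 0, 0, 0] 39 [0, 2, 9, 11, 15] 34,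
  .conv 1 [3, 2, 1, 0, 3, 6, 2, 3] 1 [2, 3, 2, 1, 0, 7, 8, 1, 5, 6, 7, 1, 5, 3, 7] [1, 0, 0, 2, 0, 0, 1, 3, -1, 0, 1, 0, 0, 0] 25 [14, 15, 11, 11, 15] 27,
  .prod 1 [7, 1, 7, 7, 1, 1, 0, 1, 0] [1, -3, 0, 2, -2, 0, 1, 1, 0, 0, 0, 0, 0, 0] [(false, 18), (false, 18), (false, 27)],
  .conv 1 [6, 7, 1, 8, 7, 5, 1, 7, 1, 8, 7, 7, 5, 2] 1 [7, 3, 5, 7, 1, 8, 5, 6, 7, 0, 6, 7, 3, 6, 5] [0, -3, 0, 2, -2, -3, 2, 2, -1, 0, 1, 0, 0, 0] 25 [5, 6, 5, 0, 15, 14, 1, 5] 46,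
  .prod 1 [6, 5, 5, 2, 6, 5, 2, 2, 1, 7, 5] [-12, 24, -2, -20, 18, 0, -6, -8, 6, 0, -4, 0, 0, 0] [(false, 34), (false, 27), (false, 27), (false, 34)],
  .conv 1 [5, 6, 7, 5, 1, 2, 3, 2, 1, 0, 3, 6, 2, 3] 1 [8, 2, 5, 6, 6, 7, 5, 2, 3, 2, 0, 7, 6, 7, 7] [-11, 25, -2, -21, 18, 0, -6, -6, 5, 0, -3, 0, 0, 0] 25 [15, 8, 3, 6, 15] 48,
  .prod 1 [7, 7, 6, 0, 1, 0, 2, 1, 1, 2, 0] [-14, 25, -2, -19, 17, 0, -3, -10, 6, 0, -4, 0, 0, 0] [(false, 18), (false, 34), (false, 34)],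
  .conv 1 [3, 6, 6, 5, 7, 1, 8, 5, 6, 7, 8, 7, 1, 2, 2] 1 [5, 1, 7, 8, 5, 7, 6, 0, 7, 0, 8, 2, 5, 7, 7] [-13, 27, -2, -19, 16, 1, -1, -10, 5, 0, -3, 0, 0, 0] 25 [4, 14, 13, 9, 8] 50,
  .prod 1 [6, 2, 2, 6, 2, 0, 7, 1, 0] [-12, 22, -2, -18, 16, 0, -4, -8, 6, 0, -4, 0, 0, 0] [(false, 18), (false, 18), (false, 34), (false, 27), (false, 27), (false, 34)],
  .conv 1 [7, 0, 6, 2, 8, 5, 6, 2, 1, 0, 3, 6, 2, 1, 3] 1 [8, 5, 5, 7, 8, 6, 6, 2, 1, 2, 1, 8, 2, 5, 1] [-11, 23, -2, -19, 16, 1, -2, -8, 5, 0, -3, 0, 0, 0] 25 [14, 8, 3, 13] 52,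
  .defn 2 [2, 3, 1, 1, 7, 8, 2, 2, 0, 1, 1, 0, 7, 0] 3,
  .conv 1 [0, 7, 5, 1, 2, 6] 0 [8, 7, 0, 1, 1, 7, 6, 0, 6, 6, 8, 2, 0, 7, 5] [0, 0, 2, 0, 0, 0, 0, 0, 1, 0, 0, 0, 0, 0] 13 [10, 10] 14,
  .root [7, 7, 6, 0, 1, 5, 7, 6, 6, 2, 8, 2, 0, 7, 5],
  .conv 0 [7, 7, 6, 0, 1, 5, 7, 6, 6, 2, 8, 2, 0, 7, 5] 1 [] [0, 0, 0, 0, 0, 0, 0, 0, 0, 0, 0, 0, 0, 0] 0 [] 56,
  .defn 1 [2, 0, 7, 5, 7, 6, 0, 1, 0, 8, 2, 1, 0, 6] 2,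
  .prod 1 [5, 2, 6, 6, 7, 0, 1, 7] [-10, 18, -2, -16, 14, 0, -4, -6, 6, 0, -4, 0, 0, 0] [(false, 18), (false, 27), (false, 34), (false, 18), (false, 18), (false, 27), (false, 27), (false, 27), (false, 18), (false, 34)],
  .conv 1 [7, 7, 3, 6, 7, 7, 5, 1, 2, 1, 0, 2, 3, 6, 2] 2 [7, 0, 6, 5, 1, 7, 0, 1, 1, 2, 5, 2] [-10, 18, -4, -16, 14, -1, -6, -7, 6, 0, -4, 0, 0, 0] 58 [5, 6, 13, 2, 7, 2, 6, 5] 59,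
  .loopT 2 [0, 1, 8, 5, 2, 6, 0, 6, 2, 6, 0, 2] 1 [2, 5, 7, 1, 2, 8, 6, 5, 7, 6, 5, 1, 5, 7, 0] [10, -18, 2, 16, -14, 1, 6, 7, -5, 0, 4, 0, 0, 1] 16 [55, 57, 60],
  .prod 2 [] [0, 0, 0, 0, 0, 0, 0, 0, 0, 0, 0, 0, 0, 0] [],
  .conv 2 [5, 8, 7, 1, 1, 5, 2, 1, 3, 2, 3, 2, 2, 1] 1 [0, 1, 2, 6, 7, 6, 0, 8, 2, 6, 7, 7, 1, 0] [10, -17, 3, 16, -15, -1, 5, 6, -5, 0, 4, 0, 0, 1] 61 [4, 7, 9, 10, 5, 6, 5] 62]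

/-- Chunk 2 of the facts. -/
def items2 : List Item := [
  .prod 1 [1, 5, 1, 7, 0, 7, 6, 6, 5] [-11, 18, -2, -15, 13, 0, -2, -7, 6, 0, -4, 0, 0, 0] [(false, 18), (false, 18), (false, 27), (false, 18), (false, 18), (false, 34), (false, 34), (false, 27), (false, 18), (false, 27)],
  .conv 1 [5, 1, 2, 6, 7, 6, 0, 8, 2, 6, 7, 7, 1, 0] 2 [5, 1, 1, 2, 6, 0, 1, 1, 0, 1] [-11, 18, -2, -16, 13, -1, -4, -9, 6, 0, -4, 0, 0, 0] 58 [7, 6, 3, 5, 6, 7] 64,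
  .loopS 2 [5, 7, 1, 8, 2, 6, 6, 7, 3, 7, 0, 6, 0, 1, 3, 0] [1, -1, -1, 0, 2, 2, -1, 3, 0, 0, 0, 0, 0, -1] 1 [63, 65],
  .conv 2 [3, 2, 1, 5, 8, 7, 5, 7, 7, 1, 3, 2, 2, 6, 7] 1 [5, 6, 7, 5, 6, 2, 6, 3, 6, 7, 5, 2, 1, 2, 3] [9, -17, 2, 16, -13, 1, 7, 7, -5, 0, 4, 0, 0, 1] 61 [0, 12, 14, 9] 62,
  .prod 1 [0, 6, 5, 2, 1, 1, 5, 1, 2, 0, 6] [-13, 21, -2, -16, 14, 0, -1, -9, 6, 0, -4, 0, 0, 0] [(false, 18), (false, 18), (false, 27), (false, 34), (false, 18), (false, 18), (false, 34)],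
  .conv 1 [6, 2, 8, 7, 5, 7, 5, 1, 7, 3, 0, 7] 2 [6, 6, 0, 7, 6, 2, 0, 1, 0] [-13, 21, -2, -17, 13, 1, -2, -8, 6, 0, -4, 0, 0, 0] 58 [6, 4, 15, 14, 13, 3, 6] 68,
  .loopT 2 [6, 2, 1, 0, 7, 8, 7, 3, 2, 3, 7, 1, 3, 2] 2 [1, 0, 1, 8, 7, 8, 7, 7, 1, 2, 6, 7, 1, 8] [4, -4, 0, 1, 0, -2, -5, 1, -1, 0, 1, 0, 0, -1] 7 [67, 69],
  .conv 1 [1, 5, 1, 5, 7, 5, 1, 7, 1, 1] 0 [0, 6, 6, 0, 7, 8, 5, 2, 0, 7, 1, 7, 5, 3] [0, -1, 0, 0, 0, 0, -1, 0, 1, 0, 0, 0, 0, 0] 13 [1, 6] 14,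
  .root [7, 5, 7, 5, 1, 1, 5, 6, 2, 3, 7, 5, 7, 1, 1],
  .conv 0 [7, 5, 7, 5, 1, 1, 5, 6, 2, 3, 7, 5, 7, 1, 1] 1 [] [0, 0, 0, 0, 0, 0, 0, 0, 0, 0, 0, 0, 0, 0] 0 [] 72,
  .prod 1 [1, 1, 0, 6, 6, 5, 2] [-5, 5, -1, -4, 3, 0, 2, -3, 3, 0, -2, 0, 0, 0] [(false, 18), (false, 18), (false, 27), (false, 34), (false, 18), (false, 18), (false, 27), (false, 18), (false, 18)],
  .conv 1 [1, 3] 2 [7, 1, 0, 6, 5, 7, 5, 2, 2] [-5, 6, -1, -3, 3, 0, 3, -3, 3, 0, -2, 0, 0, 0] 58 [9, 14, 15, 11, 7] 74,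
  .loopT 2 [3, 7, 7, 1, 1, 7, 6, 5, 7, 8, 2, 5, 2, 0, 6, 2] 1 [8, 6, 2, 2, 6, 6, 2, 5, 7, 6] [5, -5, 1, 3, -3, 0, -2, 3, -2, 0, 2, 0, 0, 1] 19 [71, 73, 75],
  .conv 2 [5, 7, 5, 7, 0, 2, 0, 3, 7, 5, 6, 7, 6, 0] 1 [2, 1, 2, 8, 7, 3, 7, 8, 2, 6, 6, 0] [5, -5, 0, 3, -3, 0, -3, 2, -2, 0, 2, 0, 0, 1] 76 [0, 5, 6, 13, 2, 7, 8] 62,
  .prod 1 [5, 6, 2, 6, 0, 1, 7, 5, 2] [-24, 47, -4, -39, 35, 0, -11, -16, 12, 0, -8, 0, 0, 0] [(false, 34), (false, 34), (false, 34), (false, 27), (false, 34), (false, 27), (false, 27), (false, 18), (false, 27)],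
  .conv 1 [2, 1, 2, 8, 7, 3, 7, 8, 2, 6, 6, 0] 2 [0, 6, 0, 7, 1, 5, 1, 7, 1, 7] [-24, 47, -5, -38, 35, -2, -13, -17, 12, 0, -8, 0, 0, 0] 58 [5, 6, 5, 7, 11, 2, 6] 78,
  .loopS 2 [1, 7, 6, 6, 2, 0, 1, 8, 7, 0, 2, 5, 7] [19, -42, 5, 35, -32, 2, 16, 15, -9, 0, 6, 0, 0, -1] 0 [77, 79],
  .prod 2 [7, 1, 5, 7, 6, 3, 2, 0, 2, 0, 7, 7, 8] [79, -171, 17, 140, -122, 14, 61, 69, -36, 0, 24, 0, 0, -7] [(false, 66), (false, 80), (false, 80), (false, 66), (false, 80), (false, 66), (false, 80)],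
  .conv 2 [7, 8, 6, 7, 8, 7, 6, 7, 0, 2, 3, 2, 3, 6, 0] 2 [2, 1, 8, 7, 0, 7, 3, 2, 1, 7, 7, 1, 3] [83, -175, 18, 140, -122, 12, 55, 70, -37, 0, 25, 0, 0, -8] 70 [13, 10, 6, 5, 3] 81,
  .prod 1 [6, 6, 0, 0, 7, 0, 2, 6, 0, 1] [-2, 6, -1, -8, 7, 0, -5, 0, 3, 0, -2, 0, 0, 0] [(false, 27), (false, 27), (false, 27), (false, 34), (false, 27), (false, 27), (false, 18), (false, 18)],
  .conv 1 [6, 2, 6, 5, 2, 8, 7, 0, 3, 2, 8, 7, 7, 1, 0] 2 [6, 7, 6, 5, 6, 2, 6, 5, 6, 6, 7, 0] [-1, 6, -1, -8, 7, 0, -6, 2, 3, 0, -2, 0, 0, 0] 58 [1, 15, 9, 6, 8, 15] 83,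
  .loopT 2 [6, 7, 6, 5, 6, 2, 6, 5, 6, 6, 7, 0] 1 [7, 1, 8, 7, 6, 7, 8, 1, 0, 6, 7, 0, 2, 0, 2] [1, -6, 1, 8, -7, 0, 6, -2, -2, 0, 2, 0, 0, 0] 0 [84],
  .conv 2 [7, 5, 5, 5, 2, 6, 5, 2, 1, 1] 1 [2, 0, 2, 0, 6, 2, 0, 8, 7, 0, 7, 5, 7, 1, 7] [0, -6, 2, 7, -7, 2, 6, -1, -2, 0, 2, 0, 0, 0] 85 [0, 13, 13, 3, 15, 10] 62,
  .prod 1 [5, 6, 6, 5, 1, 7, 5, 2] [-11, 20, -2, -17, 15, 0, -4, -7, 6, 0, -4, 0, 0, 0] [(false, 34), (false, 18), (false, 27), (false, 18), (false, 18), (false, 27), (false, 27), (false, 34)],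
  .conv 1 [1, 7, 0, 1, 1, 8, 7, 0, 3, 6, 2, 0, 7, 3] 2 [1, 5, 1, 2, 0, 7, 6, 2, 6, 7] [-9, 19, -2, -17, 15, 0, -3, -8, 6, 0, -4, 0, 0, 0] 58 [8, 14, 8, 1, 7] 87,
  .conv 1 [0, 0] 0 [2, 6, 6, 0, 6, 2, 3, 6, 2, 1, 0, 2, 1, 8] [0, 0, 0, 0, 0, -2, 0, 0, 1, 0, 0, 0, 0, 0] 13 [5, 5] 14,
  .root [2, 0, 2, 5, 7, 5, 6, 3, 2, 0, 7, 0, 2, 3, 2],
  .conv 0 [2, 0, 2, 5, 7, 5, 6, 3, 2, 0, 7, 0, 2, 3, 2] 1 [] [0, 0, 0, 0, 0, 0, 0, 0, 0, 0, 0, 0, 0, 0] 0 [] 90,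
  .prod 1 [0, 6, 6, 0, 2, 6, 5, 2, 1] [-20, 33, -3, -25, 22, 0, -2, -14, 9, 0, -6, 0, 0, 0] [(false, 18), (false, 18), (false, 18), (false, 34), (false, 34), (false, 18), (false, 34), (false, 18), (false, 27)],
  .conv 1 [0, 0, 6, 8] 2 [0, 6, 5, 2, 1, 0, 7, 1, 1, 2, 0] [-20, 33, -3, -27, 22, -2, -4, -16, 9, 0, -6, 0, 0, 0] 58 [6, 3, 5, 7, 3, 6, 7, 5] 92,
  .loopT 2 [5, 2, 0, 1, 0, 7, 3, 2, 5, 6, 6, 7, 7, 3] 1 [0, 0, 3, 6] [20, -33, 3, 27, -22, 4, 4, 16, -8, 0, 6, 0, 0, 1] 17 [89, 91, 93],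
  .conv 2 [8, 6, 6, 5, 6, 7, 5, 2, 3, 2, 6, 7, 0, 6, 0] 1 [1, 7, 0, 1, 1, 5, 2, 6, 5, 3] [21, -34, 4, 27, -22, 3, 5, 15, -8, 0, 6, 0, 0, 1] 94 [1, 10, 8, 7, 5, 14] 62]

/-- Chunk 3 of the facts. -/
def items3 : List Item := [
  .prod 1 [5, 1, 0, 1, 1, 0, 1, 7, 5] [-27, 47, -4, -36, 32, 0, -5, -19, 12, 0, -8, 0, 0, 0] [(false, 34), (false, 34), (false, 18), (false, 18), (false, 34), (false, 27), (false, 34), (false, 18), (false, 18)],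
  .conv 1 [2, 2, 1, 0, 7, 1, 7, 0, 8] 2 [5, 7, 7, 6, 7, 5, 1, 1, 5, 2] [-29, 48, -4, -36, 32, 1, -6, -20, 12, 0, -8, 0, 0, 0] 58 [0, 0, 6, 9, 7, 13] 96,
  .loopT 2 [6, 0, 6, 6, 2, 0, 6, 2, 1, 1, 2] 2 [3, 1, 1, 7, 5, 2, 3, 2, 6, 7, 0, 6, 0] [8, -14, 0, 9, -10, -4, 1, 5, -4, 1, 2, 0, 0, -1] 3 [95, 97],
  .conv 2 [5, 7, 1, 1, 5, 2, 6, 0, 1] 2 [7, 6, 7, 5, 6, 2, 3, 7, 1, 5, 2, 3, 6, 7] [7, -14, 0, 9, -10, -2, 2, 5, -4, 1, 2, 0, 0, -1] 98 [9, 0, 13, 14, 1, 13] 62,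
  .loopS 2 [6, 2, 5, 7, 5, 2, 3, 0, 1, 7, 0, 2, 5, 7] [2, 1, 0, 1, 2, 0, -5, 4, 0, 0, 0, 0, 0, 1] 4 [86, 88, 99],
  .prod 2 [7, 5, 7, 6, 7, 0, 1, 1, 2, 3, 7, 5, 2, 5] [43, -83, 9, 72, -58, 6, 21, 41, -18, 0, 12, 0, 0, -1] [(false, 80), (false, 66), (false, 100), (false, 100), (false, 80)],
  .conv 2 [7, 3, 6, 6, 7, 1, 2, 3, 2, 8, 7, 5, 6, 6] 2 [2, 5, 1, 8, 7, 6, 3, 6, 0, 7, 5, 3, 2, 6] [45, -87, 9, 72, -58, 1, 15, 42, -19, 0, 13, 0, 0, -2] 70 [0, 5, 3, 5, 5, 6, 0] 101,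
  .loopT 2 [6, 7, 6, 5, 6, 7, 0, 8, 2, 5, 2, 2, 1, 1] 2 [7, 3, 6, 6, 7, 1, 2, 3, 2, 8, 7, 5, 6, 6] [-45, 87, -9, -72, 58, -1, -15, -42, 20, 0, -13, 0, 0, 2] 1 [102],
  .prod 2 [2, 5, 1, 7, 1, 2, 6, 5, 3, 2, 2, 1, 2, 0, 1, 1] [62, -128, 12, 106, -88, 12, 40, 58, -27, 0, 18, 0, 0, -5] [(false, 66), (false, 80), (false, 80), (false, 66), (false, 80), (false, 66), (false, 100)],
  .conv 2 [6, 7, 1, 2, 3, 7, 1, 5, 6, 7, 6, 0, 2, 5] 2 [2, 0, 7, 6, 6, 7, 5, 1, 3, 2, 1, 1, 7, 0, 3] [18, -41, 3, 34, -31, 11, 23, 17, -7, 0, 5, 0, 0, -3] 103 [4, 6, 15, 8, 6] 104,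
  .prod 2 [7, 5, 7, 6, 2, 5, 1, 1, 3, 7, 5, 2, 5] [62, -125, 14, 107, -90, 8, 37, 56, -27, 0, 18, 0, 0, -2] [(false, 80), (false, 80), (false, 66), (false, 100), (false, 80), (false, 100)],
  .conv 2 [2, 0, 1, 0, 7, 5, 1, 7, 3, 2, 6, 6, 7, 5] 2 [1, 0, 7, 1, 8, 7, 0, 6, 7, 1, 8, 7, 6, 0] [67, -128, 14, 108, -90, 5, 33, 56, -28, 0, 19, 0, 0, -3] 70 [8, 7, 9, 5, 14] 106,
  .loopS 2 [7, 5, 6, 7, 1, 8, 5, 2, 5, 2, 3, 7, 1, 7, 3] [-168, 344, -35, -282, 243, -28, -111, -143, 72, 1, -49, 0, 0, 14] 2 [82, 105, 107],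
  .prod 2 [1, 0, 1, 7, 1, 5, 3, 7, 1, 2, 3, 2, 3, 6] [-331, 689, -71, -562, 492, -54, -233, -275, 144, 2, -98, 0, 0, 29] [(false, 66), (false, 108), (false, 108), (false, 100), (false, 100)],
  .conv 2 [6, 2, 3, 7, 7, 5, 6, 6, 7, 3, 7, 1, 2, 8] 3 [1, 2, 1, 5, 6, 2, 6, 2] [-332, 689, -71, -564, 492, -54, -233, -274, 144, 2, -98, 0, 0, 29] 54 [3, 15, 3, 0] 109,
  .conv 2 [2, 2, 5, 2, 0, 7, 7, 6, 8, 7, 0, 2, 5, 7] 1 [5, 2, 1, 2, 5, 2, 6, 0, 3, 6] [19, -33, 5, 27, -22, 6, 5, 16, -8, 0, 6, 0, 0, 1] 94 [0, 13, 10, 14, 10, 13] 62,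
  .prod 1 [6, 5, 1, 2, 6, 7, 5, 1] [-21, 39, -3, -30, 27, 0, -6, -15, 9, 0, -6, 0, 0, 0] [(false, 34), (false, 34), (false, 34)],
  .conv 1 [2, 1, 7, 6, 2, 5, 2, 8, 2, 0, 1, 7, 7, 1] 2 [7, 6, 0, 1, 1, 2, 0, 7, 0, 7] [-22, 38, -3, -31, 27, 1, -5, -16, 9, 0, -6, 0, 0, 0] 58 [0, 13, 14, 1, 3, 7] 112,
  .loopT 2 [2, 8, 7, 7, 8, 5, 7, 0, 2, 3, 7, 5, 1, 7, 3] 2 [1, 8, 7, 7, 8, 2, 0, 7, 5, 3, 7, 0, 6] [3, -5, -2, 4, -5, -7, 0, 0, -1, 0, 1, 0, 0, -1] 6 [111, 113],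
  .prod 2 [8, 2, 8, 7, 7, 3, 2, 1, 7, 3, 2, 6, 8] [-159, 347, -36, -278, 253, -26, -132, -124, 72, 1, -49, 0, 0, 17] [(false, 100), (false, 100), (false, 66), (false, 108), (false, 100), (false, 100)],
  .conv 2 [7, 6, 6, 0, 2, 8, 1, 1, 7, 0, 2, 8, 7, 5] 2 [1, 7, 7, 1, 8, 1, 7, 7, 8, 2, 1, 2, 5] [-157, 342, -38, -274, 248, -31, -134, -125, 71, 1, -48, 0, 0, 16] 114 [0, 6, 13, 1, 7, 9, 6, 13] 115,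
  .prod 2 [0, 6, 7, 8, 5, 7, 3, 6, 2, 3, 0, 7, 5, 2] [-145, 301, -32, -246, 217, -22, -102, -118, 63, 1, -43, 0, 0, 12] [(false, 80), (false, 100), (false, 108), (false, 66), (false, 66)],
  .conv 2 [7, 3, 5, 6, 7, 5, 6, 5, 7, 3, 6, 7, 5, 1, 1, 7] 2 [0, 7, 3, 5, 7, 5, 1, 2, 1, 2, 3, 7, 0, 7] [-141, 297, -32, -246, 216, -25, -107, -118, 62, 1, -42, 0, 0, 11] 70 [5, 6, 3, 4, 7, 14] 117,
  .prod 2 [1, 1, 0, 6, 7, 3, 7, 1, 7, 7, 1, 8, 2, 2, 1] [-163, 345, -36, -280, 249, -26, -122, -132, 72, 1, -49, 0, 0, 15] [(false, 100), (false, 66), (false, 108), (false, 100)],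
  .conv 2 [1, 0, 7, 6, 5, 6, 3, 2, 5, 7, 0, 6, 5, 2] 2 [1, 1, 0, 7, 1, 7, 8, 5, 7, 6, 0, 6, 2, 0, 1, 5] [-159, 341, -37, -279, 249, -27, -126, -131, 71, 1, -48, 0, 0, 14] 70 [14, 2, 2, 13, 10] 119,
  .prod 2 [8, 7, 6, 6, 5, 6, 7, 8, 7, 5, 7, 6, 2, 6] [-329, 690, -71, -561, 494, -54, -238, -271, 144, 2, -98, 0, 0, 30] [(false, 100), (false, 108), (false, 100), (false, 108), (false, 100), (false, 66)],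
  .conv 2 [6, 6, 2, 3, 5, 7, 1, 5, 2, 6, 0, 2, 3, 2, 2] 2 [0, 6, 2, 8, 6, 7, 8, 1, 5, 7, 6, 7, 0, 7, 3] [-325, 687, -72, -560, 494, -55, -245, -271, 143, 2, -97, 0, 0, 29] 70 [6, 2, 7, 6, 13, 9] 121,
  .loopT 2 [7, 1, 2, 6, 7, 5, 8, 2, 3, 2, 2, 1, 7, 1, 2] 2 [1, 0, 2, 3, 2, 8, 7, 5, 1, 0, 6, 6, 2, 8, 2, 5] [625, -1325, 141, 1085, -959, 107, 478, 520, -274, -4, 187, 1, 0, -54] 9 [118, 120, 122],
  .prod 2 [5, 1, 7, 3, 1, 7, 6, 7, 6, 0, 3, 2, 1, 1] [23, -43, 3, 36, -26, 6, 9, 25, -9, 0, 6, 0, 0, -2] [(false, 66), (false, 80), (false, 100), (false, 66)],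
  .conv 2 [8, 0, 1, 7, 1, 1, 2, 2, 3, 2, 3, 7] 2 [6, 5, 6, 2, 8, 5, 6, 7, 3, 6, 2, 3, 2, 3, 6] [649, -1368, 143, 1120, -985, 112, 486, 545, -283, -4, 193, 1, 0, -56] 123 [3, 8, 6, 5, 2] 124,
  .loopT 2 [8, 5, 1, 2, 0, 7, 1, 1, 2, 3, 0, 1, 7, 5] 2 [2, 1, 8, 7, 5, 1, 5, 2, 1, 8, 2, 2, 1, 1, 5] [-492, 1026, -105, -846, 737, -81, -352, -420, 212, 3, -144, -1, 0, 40] 6 [116, 125],
  .prod 2 [5, 6, 2, 3, 7, 6, 3, 6, 2, 3, 6, 2, 2, 6] [-500, 1031, -107, -845, 735, -80, -340, -419, 216, 3, -147, 0, 0, 41] [(false, 66), (false, 108), (false, 108), (false, 66), (false, 100), (false, 108)]]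

/-- Chunk 4 of the facts. -/
def items4 : List Item := [
  .conv 2 [5, 2, 6, 6, 0, 2, 3, 2, 3, 2, 5, 3, 6] 2 [6, 6, 5, 6, 7, 3, 7, 6, 2, 2, 5, 1, 7, 1] [-992, 2056, -212, -1692, 1472, -161, -692, -839, 428, 6, -291, -1, 0, 81] 126 [1, 5, 7, 6, 13, 3, 15, 14] 127,
  .prod 2 [1, 2, 5, 8, 7, 5, 6, 5, 2, 3, 6, 6, 0, 2, 6] [-144, 300, -33, -246, 219, -20, -103, -115, 63, 1, -43, 0, 0, 11] [(false, 66), (false, 108), (false, 80), (false, 66), (false, 100), (false, 66)],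
  .conv 2 [1, 8, 2, 8, 6, 7, 5, 7, 3, 2, 6, 5, 6, 2, 6] 2 [6, 7, 1, 1, 7, 5, 7, 3, 2, 6, 5, 1, 5, 7, 5] [481, -1026, 108, 839, -740, 86, 373, 406, -211, -3, 144, 1, 0, -43] 123 [1, 6, 11, 15, 3, 5, 6] 129,
  .loopT 2 [6, 7, 1, 8, 5, 2, 2, 1, 2, 1, 8, 7, 6] 2 [2, 8, 0, 1, 1, 7, 5, 3, 7, 0, 6, 2, 1, 5, 6] [511, -1030, 104, 853, -732, 75, 319, 433, -217, -3, 148, 0, 0, -38] 6 [128, 130],
  .prod 2 [7, 0, 6, 6, 7, 8, 5, 2, 6, 2, 0, 2, 2, 3, 6] [-330, 688, -72, -562, 494, -52, -234, -272, 144, 2, -98, 0, 0, 28] [(false, 100), (false, 100), (false, 108), (false, 108), (false, 66), (false, 66)],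
  .conv 2 [3, 7, 1, 7, 5, 3, 2, 0, 6, 6, 2, 6] 2 [2, 1, 2, 2, 3, 7, 0, 7, 0, 1, 1, 3, 7, 0] [181, -342, 33, 290, -238, 24, 87, 162, -73, -1, 50, 0, 0, -10] 131 [10, 13, 14, 15, 3, 14] 132,
  .prod 2 [3, 7, 1, 0, 7, 5, 3, 7, 6, 6, 0, 3, 7, 6] [-108, 218, -21, -176, 151, -20, -69, -91, 45, 1, -31, 0, 0, 11] [(false, 80), (false, 66), (false, 100), (false, 80), (false, 80), (false, 108)],
  .conv 2 [5, 1, 1, 5, 1, 7, 7, 8, 7, 0, 1, 5, 2, 6, 2] 2 [7, 3, 7, 7, 5, 6, 5, 7, 3, 6, 5, 7, 0, 2, 5] [517, -1105, 121, 908, -808, 88, 409, 429, -229, -3, 156, 1, 0, -43] 123 [10, 9, 13, 3, 9] 134,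
  .prod 2 [8, 6, 5, 7, 1, 3, 7, 3, 6, 0, 7, 8] [-296, 605, -60, -493, 424, -52, -195, -252, 126, 2, -86, 0, 0, 27] [(false, 80), (false, 108), (false, 100), (false, 108), (false, 80)],
  .conv 2 [6, 7, 7, 8, 6, 5, 6, 2, 6, 5, 7, 0, 3, 7] 2 [2, 1, 2, 3, 7, 6, 6, 2, 2, 5, 3, 2, 0, 7, 0] [-292, 600, -60, -492, 424, -55, -201, -250, 125, 2, -85, 0, 0, 26] 70 [1, 2, 15, 10, 5, 6] 136,
  .loopT 2 [0, 7, 3, 7, 8, 6, 5, 2, 0, 2, 0, 8, 2, 5] 2 [1, 7, 5, 7, 3, 7, 7, 5, 7, 8, 7, 7, 6, 5, 1, 1] [-406, 847, -94, -706, 622, -57, -295, -341, 179, 2, -121, -1, 0, 28] 16 [133, 135, 137],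
  .prod 2 [3, 2, 2, 5, 7, 5, 7, 1, 8, 2, 0, 6, 2] [-313, 648, -65, -527, 458, -54, -216, -263, 135, 2, -92, 0, 0, 29] [(false, 100), (false, 100), (false, 80), (false, 108), (false, 108)],
  .conv 2 [3, 7, 5, 8, 6, 2, 3, 6, 6, 0, 2, 2, 1] 2 [1, 0, 1, 2, 8, 2, 0, 7, 8, 2, 2, 6, 6] [-719, 1495, -160, -1232, 1080, -113, -511, -605, 314, 4, -213, -1, 0, 57] 138 [6, 2, 5, 7, 14, 11, 5] 139,
  .prod 2 [2, 8, 6, 0, 7, 5, 6, 6, 2, 3, 0, 7, 5, 1, 7] [-129, 259, -26, -212, 181, -22, -80, -110, 54, 1, -37, 0, 0, 11] [(false, 80), (false, 108), (false, 66), (false, 80)],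
  .conv 2 [1, 2, 0, 7, 5, 2, 0, 1, 8, 2, 6, 6, 5, 2] 2 [2, 3, 2, 5, 7, 8, 7, 0, 3, 6, 5, 2, 5, 7, 1] [-126, 254, -28, -207, 176, -30, -79, -110, 53, 1, -36, 0, 0, 10] 114 [1, 15, 9, 14, 11, 7, 5] 141,
  .prod 2 [0, 6, 2, 6, 2, 8, 0, 7, 1, 5, 2, 6, 2, 6, 5] [-143, 302, -32, -245, 219, -22, -107, -114, 63, 1, -43, 0, 0, 13] [(false, 100), (false, 80), (false, 108), (false, 100), (false, 66), (false, 66)],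
  .conv 2 [1, 0, 2, 6, 7, 8, 7, 7, 0, 6, 0, 3, 2, 5, 6] 2 [2, 8, 7, 8, 7, 5, 7, 0, 7, 5, 3, 7, 5, 7] [482, -1024, 110, 840, -739, 86, 372, 406, -211, -3, 144, 1, 0, -41] 123 [1, 12, 13, 14, 10] 143,
  .loopT 2 [6, 2, 0, 7, 8, 7, 0, 1, 8, 7, 1, 2, 5, 1] 2 [1, 2, 1, 5, 7, 3, 5, 2, 2, 1, 1, 2, 6, 5, 2] [363, -725, 78, 599, -517, 57, 218, 309, -154, -2, 105, 0, 1, -26] 13 [140, 142, 144],
  .conv 2 [2, 1, 2, 6, 2, 5, 2, 3, 7, 0, 8, 7, 7] 2 [1, 0, 1, 5, 7, 8, 5, 2, 0, 7, 3, 7, 5, 1] [362, -725, 77, 599, -515, 59, 218, 313, -154, -2, 105, 0, 1, -27] 145 [15, 0, 0, 9, 14] 66,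
  .prod 2 [7, 8, 2, 5, 2, 5, 7, 7, 3, 2, 1, 0, 3, 6, 6] [-333, 688, -71, -563, 490, -54, -228, -279, 144, 2, -98, 0, 0, 28] [(false, 108), (false, 108), (false, 100), (false, 66)],
  .conv 2 [5, 2, 8, 6, 5, 7, 3, 6, 5, 2, 0, 7, 6] 2 [1, 7, 3, 7, 7, 5, 8, 7, 1, 0, 6, 8, 7, 6, 5] [-825, 1714, -175, -1409, 1226, -138, -582, -700, 356, 5, -242, -1, 0, 68] 126 [5, 6, 4, 10, 5, 7, 6, 5] 147,
  .loopT 2 [1, 2, 2, 8, 7, 8, 5, 7, 1, 0, 6, 8, 7, 6, 5] 2 [5, 2, 8, 6, 5, 7, 3, 6, 5, 2, 0, 7, 6] [825, -1714, 175, 1409, -1226, 138, 582, 700, -355, -5, 242, 1, 0, -68] 1 [148],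
  .prod 2 [0, 7, 0, 2, 5, 3, 2, 0, 1, 1, 5, 6, 6] [-163, 342, -38, -281, 251, -22, -119, -130, 72, 1, -49, 0, 0, 12] [(false, 66), (false, 108), (false, 66), (false, 100), (false, 66)],
  .conv 2 [2, 0, 7, 6, 5, 8, 7, 0, 2, 3, 2, 6, 5, 6, 6] 2 [1, 5, 5, 7, 6, 7, 3, 2, 3, 6, 6, 0, 2, 1] [662, -1372, 136, 1128, -975, 116, 464, 571, -283, -4, 193, 1, 0, -56] 149 [3, 2, 14, 15, 11] 150,
  .loopT 2 [0, 2, 5, 2, 1, 8, 7, 3, 6, 5, 2, 6, 7, 6] 2 [1, 7, 6, 7, 8, 2, 3, 6, 7, 1, 7, 5, 7] [-1024, 2097, -213, -1727, 1490, -175, -682, -884, 437, 7, -298, -1, -1, 83] 3 [146, 151],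
  .prod 2 [2, 0, 7, 6, 6, 2, 8, 7, 7, 5, 6, 7, 0, 2] [43, -83, 9, 72, -58, 6, 21, 41, -18, 0, 12, 0, 0, -1] [(false, 100), (false, 80), (false, 66), (false, 80), (false, 100)],
  .conv 2 [2, 6, 0, 6, 2, 0, 2, 3, 0, 7, 0, 2, 6, 8, 2] 2 [1, 2, 5, 2, 5, 8, 2, 1, 0, 7, 0, 3, 2, 6] [-981, 2013, -204, -1656, 1433, -168, -662, -843, 419, 7, -286, -1, -1, 82] 152 [3, 13, 1, 12, 6] 153,
  .prod 2 [1, 2, 3, 1, 7, 5, 2, 1, 3, 7, 7, 0, 6, 6] [-144, 303, -31, -245, 217, -24, -106, -117, 63, 1, -43, 0, 0, 14] [(false, 80), (false, 108), (false, 100), (false, 66), (false, 100)],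
  .conv 2 [1, 2, 0, 2, 8, 6, 7, 0, 3, 2, 5, 2, 1, 0, 2] 2 [8, 2, 5, 7, 5, 8, 6, 2, 1, 7, 5, 7, 3, 7, 0] [-637, 1328, -135, -1091, 954, -106, -458, -537, 275, 4, -187, -1, 0, 54] 126 [0, 15, 10, 1, 5, 7] 155,
  .prod 2 [7, 6, 7, 0, 2, 0, 7, 5, 3, 7, 6, 7, 0, 3, 6, 6] [-296, 605, -60, -493, 424, -52, -195, -252, 126, 2, -86, 0, 0, 27] [(false, 100), (false, 80), (false, 108), (false, 108), (false, 80)],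
  .conv 2 [1, 5, 6, 7, 3, 6, 7, 3, 0, 7, 0, 2, 0, 7, 3] 3 [6, 5, 2, 6, 7, 7, 0, 1, 5, 1] [-296, 604, -60, -494, 424, -51, -195, -252, 126, 2, -86, 0, 0, 27] 54 [7, 6, 1, 13, 14, 3, 15] 157,
  .loopT 3 [8, 5, 6, 6, 0, 2, 6, 7, 5, 7] 2 [3, 2, 1, 7, 5, 2, 1, 0, 7, 1, 1, 3, 7] [1914, -3945, 399, 3241, -2811, 325, 1315, 1632, -818, -13, 559, 2, 1, -162] 16 [154, 156, 158]]

/-- Chunk 5 of the facts. -/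
def items5 : List Item := [
  .prod 2 [0, 7, 0, 2, 8, 5, 6, 7, 0, 6, 6, 5, 6] [-504, 1032, -105, -846, 729, -84, -333, -429, 216, 3, -147, 0, 0, 42] [(false, 108), (false, 108), (false, 108)],
  .conv 2 [3, 1, 5, 7, 6, 6, 5, 2, 0, 3, 2, 1, 1, 5, 3] 1 [5, 2, 3, 7, 8, 7, 0, 6, 7, 3, 6, 2, 0, 6, 2] [-502, 1026, -103, -839, 722, -84, -328, -432, 214, 3, -145, 0, 0, 42] 85 [3, 8, 10, 7, 6] 160,
  .prod 1 [6, 5, 7, 0, 6, 7, 5, 1, 2, 5] [-10, 20, -2, -18, 16, 0, -6, -6, 6, 0, -4, 0, 0, 0] [(false, 27), (false, 18), (false, 34), (false, 18), (false, 27), (false, 27), (false, 34), (false, 27)],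
  .conv 1 [2, 5, 1, 7, 8, 5, 6, 5, 6, 2, 5, 7, 1, 2, 3, 2] 2 [6, 7, 5, 7, 1, 5, 1, 1, 5, 2, 0] [-10, 21, -2, -20, 16, -1, -8, -5, 6, 0, -4, 0, 0, 0] 58 [3, 3, 6, 5, 15, 9, 6] 162,
  .prod 2 [7, 0, 7, 1, 8, 5, 6, 5, 2, 5, 2, 5, 2, 8, 7, 7] [-141, 306, -30, -243, 219, -26, -115, -112, 63, 1, -43, 0, 0, 17] [(false, 100), (false, 80), (false, 100), (false, 108), (false, 100), (false, 100)],
  .conv 2 [0, 2, 2, 6, 2, 5, 7, 8, 2, 0, 1, 1, 7, 1] 2 [6, 6, 0, 7, 1, 7, 0, 8, 2, 6, 7, 5, 7, 1, 2] [-635, 1332, -135, -1089, 955, -107, -467, -531, 275, 4, -187, -1, 0, 57] 126 [0, 6, 0, 5, 4, 15, 14, 13] 164,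
  .loopT 2 [5, 6, 2, 8, 2, 6, 7, 0, 1, 2, 8, 2, 6, 5, 2] 2 [6, 2, 6, 5, 6, 2, 6, 7, 0, 6, 7, 8, 7] [1147, -2379, 240, 1948, -1693, 192, 803, 968, -493, -7, 336, 1, 0, -98] 18 [161, 163, 165],
  .prod 2 [1, 7, 3, 2, 5, 7, 1, 2, 1, 3, 0, 1, 7, 6] [9, 0, -3, 3, 12, 6, -18, 21, 0, 0, 0, 0, 0, 0] [(false, 100), (false, 66), (false, 100), (false, 100), (false, 66), (false, 66)],
  .conv 2 [7, 5, 2, 8, 6, 7, 5, 2, 3, 2, 2, 1, 5, 2, 6] 2 [1, 5, 2, 5, 6, 7, 1, 7, 8, 7] [1156, -2380, 238, 1952, -1681, 199, 785, 990, -493, -7, 336, 1, 0, -98] 166 [1, 10, 13, 14, 15, 11, 6] 167,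
  .prod 2 [2, 1, 2, 0, 1, 8, 2, 0, 7, 3, 2, 6, 7, 5] [-297, 603, -61, -494, 424, -50, -191, -253, 126, 2, -86, 0, 0, 25] [(false, 80), (false, 108), (false, 108), (false, 66), (false, 80)],
  .conv 2 [0, 6, 6, 5, 2, 5, 7, 5, 6, 2, 3, 7, 6, 2, 6] 2 [1, 0, 6, 0, 2, 5, 7, 3, 6, 5, 7, 1, 3, 7, 3] [-294, 600, -61, -492, 424, -53, -195, -253, 125, 2, -85, 0, 0, 24] 70 [0, 6, 7, 14, 9, 5, 11, 14] 169,
  .prod 2 [1, 5, 8, 2, 8, 7, 0, 2, 0, 7, 1, 0, 3, 2, 5] [24, -41, 4, 37, -26, 4, 5, 26, -9, 0, 6, 0, 0, 0] [(false, 66), (false, 100), (false, 100), (false, 80)],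
  .conv 2 [7, 7, 5, 7, 3, 7, 6, 7, 6, 2, 3, 0, 2, 3] 2 [5, 7, 6, 2, 8, 6, 7, 1, 7, 6, 2, 8, 7, 7] [32, -55, 4, 47, -35, -1, 8, 30, -13, 1, 8, 0, 0, -1] 98 [12, 14, 11, 5, 7, 14] 171,
  .loopT 2 [1, 2, 2, 1, 0, 2, 2, 1, 3, 2, 6, 7, 1, 0, 3] 2 [3, 6, 5, 7, 0, 7, 5, 7, 3, 7, 0, 2, 1, 2] [262, -545, 57, 445, -389, 54, 187, 223, -112, -3, 78, 0, 0, -23] 6 [170, 172],
  .prod 2 [1, 1, 5, 2, 5, 3, 2, 0, 2, 1, 7, 1, 1] [-144, 300, -33, -246, 219, -20, -103, -115, 63, 1, -43, 0, 0, 11] [(false, 66), (false, 108), (false, 100), (false, 66), (false, 66), (false, 80)],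
  .conv 2 [7, 8, 7, 1, 7, 0, 6, 2, 1, 1, 3, 7, 1, 8] 2 [7, 1, 7, 0, 6, 2, 5, 8, 7, 5, 2, 6, 7, 6, 7] [117, -243, 24, 199, -170, 33, 82, 108, -49, -2, 35, 0, 0, -12] 173 [0, 6, 9, 5, 6, 9] 174,
  .loopT 2 [7, 1, 7, 0, 6, 2, 5, 8, 7, 5, 2, 6, 7, 6, 7] 2 [7, 7, 5, 8, 6, 7, 1, 5, 1, 2, 3, 0, 1, 7, 1, 8] [-117, 243, -24, -199, 170, -33, -82, -108, 50, 2, -35, 0, 0, 12] 0 [175],
  .prod 2 [6, 6, 5, 2, 6, 2, 3, 2, 1, 7, 3, 2, 3, 0] [40, -86, 8, 70, -60, 8, 30, 36, -18, 0, 12, 0, 0, -4] [(false, 66), (false, 80), (false, 66), (false, 80)],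
  .conv 2 [2, 0, 7, 6, 7, 8, 5, 7, 1, 3, 2, 3, 0, 7] 2 [5, 1, 2, 6, 5, 1, 7, 3, 7, 7, 3, 0, 2, 2, 3] [-77, 158, -16, -130, 110, -26, -53, -74, 32, 2, -23, 0, 0, 8] 176 [5, 7, 3, 6, 9, 7] 177,
  .prod 2 [2, 3, 2, 1, 8, 5, 7, 5, 1, 0, 3, 2, 1, 1, 0, 3] [-146, 302, -31, -246, 215, -24, -101, -121, 63, 1, -43, 0, 0, 13] [(false, 66), (false, 108), (false, 80), (false, 100)],
  .conv 2 [6, 5, 1, 7, 8, 5, 6, 2, 0, 3, 7, 0, 7, 6] 3 [7, 1, 7, 7, 0, 6, 5, 7, 5] [-144, 303, -31, -245, 215, -24, -100, -121, 63, 1, -43, 0, 0, 13] 54 [14, 8, 8, 9, 11] 179,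
  .loopT 3 [7, 6, 2, 8, 5, 6, 7, 3, 2, 2, 5, 7, 7, 6] 2 [1, 2, 1, 7, 5, 8, 7, 5, 1, 7, 1, 2, 8, 7, 6, 7] [-935, 1919, -191, -1577, 1356, -149, -632, -795, 400, 4, -270, -1, 1, 77] 12 [168, 178, 180],
  .prod 3 [] [0, 0, 0, 0, 0, 0, 0, 0, 0, 0, 0, 0, 0, 0] [],
  .conv 3 [3, 7, 1, 7, 0, 7, 6, 3, 7, 5, 2, 3, 7, 7, 8] 2 [6, 7, 8, 7, 1, 7, 6, 3, 7, 5, 7, 0, 3, 6, 6] [-934, 1918, -191, -1578, 1355, -150, -632, -794, 400, 4, -270, -1, 1, 77] 181 [1, 3, 5, 4, 15, 8] 182,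
  .prod 2 [2, 3, 5, 7, 8, 7, 5, 5, 1, 2, 3, 2, 5, 2, 3, 0] [-162, 344, -37, -280, 251, -24, -123, -129, 72, 1, -49, 0, 0, 14] [(false, 66), (false, 100), (false, 100), (false, 66), (false, 108)],
  .conv 2 [6, 2, 2, 8, 7, 1, 1, 7, 1, 5, 7, 6, 8, 7] 2 [6, 6, 7, 1, 2, 2, 3, 2, 2, 1, 3, 7, 1, 1] [662, -1370, 140, 1129, -975, 114, 461, 572, -283, -4, 193, 1, 0, -54] 149 [0, 14, 10, 15, 10, 14] 184,
  .prod 2 [1, 5, 8, 7, 5, 8, 7, 8, 7, 6, 7, 6, 2, 5, 1] [-331, 689, -71, -562, 492, -54, -233, -275, 144, 2, -98, 0, 0, 29] [(false, 100), (false, 108), (false, 66), (false, 100), (false, 108)],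
  .conv 2 [8, 2, 8, 2, 5, 8, 7, 3, 6, 7, 0, 2, 1, 2, 6] 3 [1, 7, 7, 0, 1, 0, 6, 2, 2, 6] [-332, 689, -71, -563, 492, -54, -234, -276, 144, 2, -98, 0, 0, 29] 54 [0, 0, 6, 7, 8, 3] 186,
  .loopS 3 [2, 3, 1, 7, 1, 0, 2, 3, 7, 3, 7, 1, 2, 1] [604, -1237, 122, 1012, -872, 90, 405, 498, -261, -2, 176, 0, -1, -52] 5 [183, 185, 187],
  .conv 3 [7, 8, 7, 5, 1, 7, 6, 0, 1, 3, 2, 6, 7, 7, 5] 2 [1, 7, 8, 2, 5, 7, 3, 6, 7, 7, 8, 2, 5, 2] [-331, 683, -68, -565, 484, -59, -227, -298, 139, 2, -94, -1, 0, 25] 181 [6, 9, 7, 5, 14, 10, 13] 188,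
  .prod 2 [0, 7, 7, 6, 7, 6, 7, 7, 8, 2, 5, 6, 2, 0, 7] [-334, 686, -72, -564, 490, -52, -224, -280, 144, 2, -98, 0, 0, 26] [(false, 108), (false, 108), (false, 66), (false, 66)],
  .conv 2 [2, 5, 1, 2, 5, 7, 3, 6, 2, 5, 6, 2, 0, 7] 2 [5, 6, 7, 7, 8, 7, 6, 7, 0, 1, 8, 2, 6, 5] [-325, 673, -72, -555, 480, -56, -225, -276, 140, 3, -96, 0, 0, 25] 98 [7, 9, 6, 8, 6] 190]

/-- Chunk 6 of the facts. -/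
def items6 : List Item := [
  .prod 2 [3, 2, 8, 7, 7, 1, 7, 6, 2, 6, 8, 2, 1, 7, 6, 2] [2, -2, -2, 0, 4, 4, -2, 6, 0, 0, 0, 0, 0, -2] [(false, 66), (false, 66)],
  .conv 2 [7, 7, 5, 2, 1, 7, 8, 5, 6, 7, 3, 7, 8, 2, 1, 5] 2 [7, 3, 2, 2, 1, 8, 7, 1, 1, 8, 2, 2, 6, 5, 7] [628, -1328, 138, 1085, -955, 111, 477, 527, -274, -4, 187, 1, 0, -56] 123 [1, 2, 15, 8, 14] 192,
  .prod 1 [6, 0, 1, 2, 1, 0, 7, 0] [-11, 22, -2, -19, 17, 0, -6, -7, 6, 0, -4, 0, 0, 0] [(false, 27), (false, 27), (false, 18), (false, 34), (false, 34), (false, 27)],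
  .conv 1 [0, 7, 8, 7, 1, 0, 6, 7, 3, 7, 1, 5, 7, 1, 3] 2 [5, 5, 6, 7, 5, 1, 5, 7, 0, 1] [-11, 21, -3, -19, 16, -1, -7, -6, 6, 0, -4, 0, 0, 0] 58 [1, 4, 5, 6, 2, 15] 194,
  .conv 2 [7, 8, 5, 2, 6, 7, 3, 2, 3, 2, 8, 2, 6, 5] 2 [2, 2, 1, 5, 7, 3, 0, 7] [851, -1776, 179, 1453, -1269, 143, 612, 716, -367, -5, 250, 1, 0, -73] 166 [8, 13, 14, 15, 3, 6] 169,
  .prod 2 [8, 5, 1, 1, 7, 6, 7, 0, 8, 2, 1, 7, 5, 6, 7] [-165, 341, -38, -282, 249, -22, -114, -134, 72, 1, -49, 0, 0, 11] [(false, 66), (false, 108), (false, 66), (false, 66)],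
  .conv 2 [8, 7, 7, 1, 5, 2, 5, 3, 7] 3 [6, 6, 7, 5, 2, 0, 2, 0, 1, 0] [-166, 341, -37, -282, 250, -22, -113, -133, 72, 1, -49, 0, 0, 11] 54 [10, 12, 15, 0, 14] 197,
  .loopT 3 [5, 7, 0, 6, 7, 7, 3, 7, 8, 2, 6, 2, 5] 1 [7, 1, 1, 7, 8, 6, 7, 5, 7, 3, 0, 2, 6, 6] [-674, 1414, -139, -1152, 1003, -120, -492, -577, 291, 4, -197, 0, 0, 62] 9 [195, 196, 198],
  .conv 3 [1, 1, 8, 5, 7, 0, 7, 1, 3, 2, 8, 7, 0, 2, 2] 1 [6, 5, 8, 7, 5, 7, 3, 7, 0, 6, 7, 8, 2, 1] [-674, 1413, -139, -1153, 1003, -121, -493, -579, 291, 4, -197, 0, 0, 62] 199 [3, 5, 7, 1, 6, 7] 182,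
  .prod 1 [6, 7, 0, 6, 6, 7, 5, 7, 6] [-6, 6, -1, -4, 3, 0, 3, -4, 3, 0, -2, 0, 0, 0] [(false, 18), (false, 18), (false, 18), (false, 18), (false, 18), (false, 18), (false, 27), (false, 34)],
  .conv 1 [2, 1, 1, 2, 5, 7, 8, 7, 6, 7, 1, 0, 2] 2 [5, 1, 2, 6, 2, 2, 0, 7, 0] [-5, 6, -2, -6, 3, -1, 3, -4, 3, 0, -2, 0, 0, 0] 58 [3, 5, 2, 3, 8] 201,
  .prod 2 [3, 5, 7, 1, 7, 3, 6, 7, 0, 7, 0, 6, 0] [-332, 687, -72, -563, 492, -52, -229, -276, 144, 2, -98, 0, 0, 27] [(false, 66), (false, 108), (false, 108), (false, 66), (false, 100)],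
  .conv 2 [6, 0, 7, 1, 0, 7, 7, 3, 2, 1, 3, 2, 1, 3] 2 [3, 7, 7, 1, 1, 5, 6, 0, 1, 7, 3, 2, 1, 0] [180, -343, 32, 291, -240, 21, 90, 156, -73, -1, 50, 0, 0, -11] 131 [5, 8, 14, 11, 7, 6, 5] 203,
  .loopT 2 [1, 2, 2, 1, 1, 5, 6, 0, 1, 2, 8, 2, 1, 0] 3 [6, 7, 8, 2, 0, 7, 5, 1, 3, 0, 2, 0, 7, 7, 1] [499, -1076, 109, 868, -766, 101, 400, 427, -219, -3, 149, 0, 0, -50] 16 [200, 202, 204],
  .prod 2 [3, 5, 6, 2, 8, 7, 5, 2, 8, 2, 2, 5, 7, 1, 1] [-144, 303, -31, -245, 217, -24, -106, -117, 63, 1, -43, 0, 0, 14] [(false, 100), (false, 100), (false, 80), (false, 108), (false, 66)],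
  .conv 2 [2, 0, 7, 8, 2, 8, 7, 6, 2, 3, 6, 5, 7, 8, 7] 3 [8, 0, 7, 1, 5, 6, 7, 0, 8, 2, 6, 6, 0, 6] [354, -773, 78, 623, -550, 77, 293, 308, -156, -2, 106, 0, 0, -36] 205 [6, 4, 7, 0, 7] 206,
  .loopS 3 [0, 2, 6, 6, 2, 6, 3, 0, 2, 3, 0, 7, 8, 7] [-326, 745, -76, -588, 541, -73, -318, -261, 153, 1, -103, 0, 0, 43] 16 [189, 191, 193, 207],
  .prod 2 [6, 6, 7, 0, 1, 7, 0, 2, 3, 7, 7, 0, 2, 5] [-311, 649, -65, -526, 460, -54, -221, -259, 135, 2, -92, 0, 0, 30] [(false, 100), (false, 108), (false, 108), (false, 100), (false, 100), (false, 80)],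
  .conv 2 [2, 8, 0, 2, 1, 7, 5, 3, 7, 5, 6, 7, 1, 2, 8] 2 [1, 0, 2, 0, 2, 5, 6, 3, 2, 1, 1, 5, 7, 1, 0] [52, -77, 13, 73, -57, 3, -2, 49, -19, 0, 13, 0, 1, 4] 145 [1, 14, 8, 7, 0] 209,
  .prod 2 [8, 7, 6, 5, 1, 8, 7, 1, 2, 5, 2, 1, 3, 7, 3] [-125, 261, -26, -210, 185, -22, -90, -102, 54, 1, -37, 0, 0, 13] [(false, 80), (false, 80), (false, 108), (false, 100), (false, 100), (false, 66)],
  .conv 2 [3, 6, 2, 1, 7, 6, 5, 2, 3, 2, 0, 7, 0, 1, 8] 3 [7, 5, 5, 6, 2, 6, 2, 0, 7, 1] [-125, 261, -27, -210, 185, -23, -91, -103, 54, 1, -37, 0, 0, 13] 54 [0, 7, 2, 6, 5, 8] 211,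
  .loopT 3 [2, 3, 1, 2, 8, 7, 3, 7, 1, 3, 2, 1, 5, 2] 2 [2, 0, 2, 1, 1, 0, 7, 1, 2, 3, 2, 6, 7, 6, 5] [73, -184, 14, 137, -128, 20, 93, 54, -35, -1, 25, 0, -1, -17] 7 [210, 212],
  .prod 3 [0, 7, 3, 1, 7, 5, 7, 6, 0, 1, 2, 3, 2, 0, 3] [2224, -3936, 368, 3392, -2648, 136, 696, 1896, -864, -8, 584, 0, -8, -72] [(false, 188), (false, 208), (false, 188), (false, 188), (false, 188), (false, 208), (false, 188), (false, 208), (false, 208), (false, 188), (false, 208), (false, 208), (false, 188), (false, 208), (false, 188), (false, 208)],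
  .conv 3 [1, 2, 1, 7, 6, 6, 2, 3, 7, 0, 2, 2, 6, 6] 2 [7, 7, 1, 5, 7, 7, 6, 8, 2, 5, 7, 0, 7, 0, 1] [2297, -4120, 381, 3527, -2776, 155, 788, 1949, -899, -9, 609, 0, -9, -89] 213 [5, 3, 2, 6, 7, 3] 214,
  .prod 2 [7, 5, 2, 3, 7, 5, 6, 5, 2, 5, 2, 3, 6, 7, 7, 1] [25, -42, 3, 37, -24, 6, 4, 29, -9, 0, 6, 0, 0, -1] [(false, 100), (false, 80), (false, 100), (false, 66), (false, 66)],
  .conv 2 [6, 5, 7, 1, 7, 6, 8, 7, 1, 2, 2, 5, 6, 6] 3 [6, 6, 0, 1, 1, 2, 0, 7, 6, 5] [24, -41, 3, 36, -24, 7, 5, 30, -9, 0, 6, 0, 0, -1] 54 [0, 15, 3, 13, 14, 9] 216,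
  .prod 2 [2, 8, 2, 1, 8, 5, 7, 5, 3, 6, 0, 2, 0, 2, 2, 3] [-126, 259, -27, -211, 185, -20, -86, -103, 54, 1, -37, 0, 0, 11] [(false, 108), (false, 100), (false, 66), (false, 66), (false, 80), (false, 80)],
  .conv 2 [1, 1, 5, 7, 1, 7, 1, 2, 5, 2, 3, 7, 3, 0, 7] 2 [1, 7, 0, 2, 3, 7, 5, 7, 5, 2, 3, 7, 0, 2, 3] [499, -1066, 113, 873, -774, 88, 391, 418, -220, -3, 150, 1, 0, -43] 123 [15, 2, 3, 6, 13] 218,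
  .prod 2 [1, 0, 1, 7, 5, 7, 5, 7, 0, 8, 7, 6, 5, 6, 2] [-110, 217, -21, -177, 149, -20, -64, -95, 45, 1, -31, 0, 0, 10] [(false, 66), (false, 80), (false, 80), (false, 108), (false, 80)],
  .conv 2 [7, 8, 7, 5, 7, 5, 8, 7, 5, 2, 3, 0, 2, 5, 6] 2 [7, 7, 3, 2, 2, 6, 7, 5, 8, 7, 0, 2, 5, 6, 7, 0] [-227, 460, -47, -376, 318, -52, -147, -203, 95, 3, -66, 0, 0, 22] 176 [2, 2, 6, 4, 13] 220,
  .prod 2 [3, 5, 2, 6, 6, 7, 1, 3, 2, 3, 0, 7, 5, 1] [-298, 604, -60, -494, 422, -52, -190, -256, 126, 2, -86, 0, 0, 26] [(false, 108), (false, 108), (false, 80), (false, 80)],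
  .conv 2 [0, 1, 2, 8, 0, 7, 1, 2, 3, 6, 5, 6, 2, 1, 3] 3 [6, 2, 0, 2, 5, 2, 0, 1, 1] [-298, 604, -58, -493, 422, -51, -189, -255, 126, 2, -86, 0, 0, 26] 54 [13, 10, 11, 14, 10, 15] 222]

/-- Chunk 7 of the facts. -/
def items7 : List Item := [
  .loopT 3 [5, 5, 7, 6, 7, 8, 1, 1, 7, 3, 7, 0, 2, 6] 2 [1, 8, 5, 7, 6, 6, 7, 8, 2, 1, 2, 5, 1, 7] [26, 2, -8, -4, 34, 15, -55, 40, 1, -2, 2, -1, 1, -5] 14 [219, 221, 223],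
  .prod 3 [8, 7, 7, 0, 6, 7, 6, 0, 3, 2, 2, 1, 7, 7, 6] [2320, -4442, 428, 3720, -3068, 248, 1158, 1944, -954, -8, 644, 0, -6, -140] [(false, 208), (false, 188), (false, 188), (false, 188), (false, 208), (false, 188), (false, 188), (false, 208), (false, 208), (false, 188)],
  .conv 3 [6, 6, 5, 1, 1, 8, 2, 0, 7, 6, 5] 2 [8, 2, 1, 7, 8, 7, 5, 1, 1, 7, 3, 6, 6] [2346, -4439, 419, 3716, -3034, 260, 1103, 1983, -953, -10, 646, -1, -5, -145] 224 [2, 5, 6, 7, 5, 14, 9, 5] 225,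
  .prod 2 [0, 2, 0, 2, 2, 3, 7, 6, 7, 0, 6, 6, 2, 8, 7, 1] [-126, 262, -25, -210, 183, -24, -89, -105, 54, 1, -37, 0, 0, 14] [(false, 80), (false, 108), (false, 100), (false, 100), (false, 80)],
  .conv 2 [5, 6, 2, 0, 7, 6, 5, 3, 6, 7, 6, 7, 5, 6, 2] 3 [5, 6, 5, 7, 5, 1, 5, 2, 2] [-127, 262, -26, -211, 183, -26, -91, -105, 54, 1, -37, 0, 0, 14] 54 [0, 5, 5, 2, 6, 3, 6] 227,
  .loopS 3 [2, 3, 7, 1, 5, 2, 5, 3, 2, 0, 2, 1, 0] [-4540, 8338, -777, -7068, 5651, -396, -1805, -3857, 1809, 18, -1224, 2, 14, 221] 9 [215, 217, 226, 228],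
  .prod 3 [7, 0, 1, 0, 7, 5, 1, 0, 3, 7, 0, 6, 6, 2] [-4914, 9336, -883, -7820, 6402, -525, -2354, -4142, 2007, 19, -1357, 2, 13, 298] [(false, 188), (false, 208), (false, 229), (false, 208), (false, 208)],
  .conv 3 [7, 8, 7, 0, 1, 3, 2, 1, 8, 7] 2 [6, 0, 7, 1, 8, 7, 5, 6, 2, 6, 5, 6, 7, 3, 6] [-3000, 5390, -484, -4580, 3591, -200, -1038, -2511, 1189, 6, -798, 4, 14, 136] 159 [5, 14, 3, 13, 1, 7] 230,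
  .prod 3 [3, 7, 0, 6, 7, 5, 8, 7, 1, 5, 7, 5, 2, 1] [-4914, 9336, -883, -7820, 6402, -525, -2354, -4142, 2007, 19, -1357, 2, 13, 298] [(false, 208), (false, 208), (false, 188), (false, 208), (false, 229)],
  .conv 3 [7, 0, 1, 2, 2, 6, 6, 2, 8, 7, 5, 7, 5, 2, 2] 2 [7, 0, 2, 8, 2, 8, 6, 7, 1, 2, 5, 6, 2, 5, 1] [-3000, 5391, -484, -4579, 3590, -199, -1038, -2510, 1189, 6, -798, 4, 14, 136] 159 [4, 14, 2, 13, 10] 232,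
  .prod 2 [6, 0, 7, 5, 8, 7, 8, 2, 1, 0, 7, 0, 8, 7, 7] [-128, 261, -25, -211, 181, -24, -84, -109, 54, 1, -37, 0, 0, 13] [(false, 80), (false, 100), (false, 108), (false, 80)],
  .conv 2 [7, 6, 2, 8, 1, 2, 2, 8, 7, 5, 6, 2] 2 [6, 2, 3, 7, 6, 7, 0, 7, 1, 7, 5, 1, 2] [-245, 504, -48, -409, 351, -58, -166, -217, 104, 3, -72, 0, 0, 25] 176 [11, 6, 7, 5, 14, 10, 15] 234,
  .loopT 2 [2, 2, 1, 0, 2, 8, 6, 2, 2, 3, 2, 6, 7, 7, 8] 3 [8, 6, 2, 5, 7, 8, 1, 2, 1, 2, 2, 1, 3, 7] [3245, -5895, 532, 4988, -3941, 257, 1204, 2727, -1293, -8, 870, -4, -14, -161] 2 [233, 235],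
  .prod 2 [1, 5, 6, 2, 3, 2, 6, 6, 2, 2, 0, 1, 5] [-464, 949, -95, -775, 667, -80, -306, -395, 198, 3, -135, 0, 0, 41] [(false, 80), (false, 108), (false, 108), (false, 108), (false, 80), (false, 100)],
  .conv 2 [7, 3, 7, 1, 7, 6, 5, 7, 8, 2, 6, 7, 1, 5, 6] 3 [2, 2, 0, 6, 6, 7, 5, 3, 2, 6, 2, 0, 7, 8, 2] [2780, -4946, 439, 4213, -3274, 177, 899, 2333, -1095, -5, 735, -4, -14, -120] 236 [10, 0, 15, 14, 10] 237,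
  .loopT 3 [0, 2, 8, 0, 7, 1, 8, 7, 3, 6, 6, 7, 1, 7, 3] 2 [7, 6, 6, 7, 1, 7, 5, 2, 3, 6, 7, 0, 6, 7, 1] [552, -1133, 116, 931, -809, 77, 372, 452, -236, -3, 161, 1, 0, -45] 10 [110, 231, 238],
  .prod 3 [3, 7, 0, 7, 6, 6, 2, 3, 7, 1, 2, 6, 0, 1] [-4310, 8099, -761, -6808, 5530, -435, -1949, -3644, 1746, 17, -1181, 2, 12, 246] [(false, 208), (false, 188), (false, 208), (false, 208), (false, 229), (false, 188)],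
  .conv 3 [2, 8, 2, 1, 1, 7, 7, 1, 8, 2, 6, 7, 0, 7, 5] 2 [8, 0, 7, 6, 0, 1, 7, 1, 5, 3, 7, 1, 7, 1] [-3757, 6966, -645, -5876, 4721, -359, -1579, -3193, 1510, 14, -1020, 3, 12, 201] 239 [5, 8, 6, 5, 7, 11, 6, 13] 240,
  .conv 2 [1, 0, 2, 3, 5, 7, 0, 2, 0, 8, 2, 6, 7, 0] 2 [1, 2, 8, 6, 7, 7, 5, 7, 1, 7, 1, 3, 7, 8, 2] [366, -727, 72, 608, -515, 51, 212, 315, -154, -2, 105, 0, 0, -24] 131 [5, 7, 2, 0, 6, 13] 155,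
  .prod 2 [5, 7, 8, 6, 7, 5, 2, 0, 7, 1, 8, 2, 0] [-149, 302, -30, -247, 211, -26, -95, -128, 63, 1, -43, 0, 0, 13] [(false, 108), (false, 80)],
  .conv 2 [7, 7, 0, 6, 2, 8, 6, 5, 6, 7, 0, 2, 3, 7, 6, 2] 1 [2, 2, 5, 8, 6, 5, 7, 3, 0, 2, 2, 3, 6, 6] [-148, 295, -29, -238, 205, -27, -90, -130, 61, 1, -41, 0, 0, 13] 85 [1, 5, 12, 15, 11, 6, 7] 243,
  .loopT 1 [0, 2, 8, 2, 8, 6, 2, 2, 0, 2, 0, 7, 5, 7] 3 [2, 0, 2, 6, 5, 1, 8, 7, 1, 0, 7, 1, 5, 3, 7] [3539, -6534, 602, 5506, -4411, 335, 1457, 3008, -1415, -13, 956, -3, -12, -189] 19 [241, 242, 244],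
  .prod 1 [0, 1, 1, 0, 1, 1, 2, 1, 7, 7] [-26, 48, -4, -38, 34, 0, -8, -18, 12, 0, -8, 0, 0, 0] [(false, 34), (false, 34), (false, 27), (false, 18), (false, 18), (false, 27), (false, 34), (false, 34)],
  .conv 1 [3, 2, 1, 0, 3, 6, 2] 3 [7, 0, 6, 0, 7, 1, 5, 8, 2, 6, 2, 0, 1, 2, 0] [3514, -6485, 598, 5468, -4377, 335, 1449, 2989, -1403, -13, 948, -3, -12, -189] 245 [5, 14, 8, 7, 13, 9, 6] 246,
  .prod 1 [7, 7, 6, 0, 2, 1, 5, 7, 1, 1] [-4, 8, -1, -8, 7, 0, -3, -2, 3, 0, -2, 0, 0, 0] [(false, 34), (false, 27), (false, 18), (false, 27), (false, 27), (false, 18)],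
  .conv 1 [2, 3, 1, 1, 7, 8, 7, 5, 1, 2, 1, 5, 7, 7, 6] 3 [1, 0, 7, 3, 7, 0, 6, 2, 8, 7, 5, 2, 0, 2, 5] [3535, -6525, 601, 5498, -4404, 336, 1453, 3005, -1412, -13, 954, -3, -12, -189] 245 [9, 7, 3, 13, 11, 6] 248,
  .prod 1 [6, 0, 7, 6, 6, 0, 6, 5, 7, 7] [-18, 35, -3, -29, 26, 0, -8, -12, 9, 0, -6, 0, 0, 0] [(false, 34), (false, 27), (false, 27), (false, 34), (false, 27), (false, 34), (false, 18)],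
  .conv 1 [5, 6, 7, 5, 1, 2, 3, 2, 1, 0, 3, 6, 2] 3 [1, 5, 8, 7, 6, 7, 3, 2, 2, 0, 7, 0, 6, 0] [3521, -6500, 598, 5477, -4385, 335, 1447, 2995, -1406, -13, 950, -3, -12, -189] 245 [1, 6, 7, 2, 5, 6, 13] 250,
  .prod 1 [7, 1, 2, 1, 5, 6, 6, 2, 5] [-11, 21, -2, -18, 16, 0, -5, -7, 6, 0, -4, 0, 0, 0] [(false, 34), (false, 27), (false, 18), (false, 27), (false, 18), (false, 27), (false, 34)],
  .conv 1 [6, 0, 1, 7, 1, 7, 5, 3, 2, 1, 5, 3, 7, 1, 7] 3 [6, 2, 2, 6, 5, 7, 5, 3, 2, 6, 2, 0, 1, 2, 0] [3528, -6514, 601, 5487, -4395, 333, 1452, 3001, -1409, -13, 952, -3, -12, -189] 245 [1, 5, 10, 5, 3] 252,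
  .prod 1 [1, 0, 2, 1, 7, 6, 7, 6] [-18, 35, -3, -29, 26, 0, -8, -12, 9, 0, -6, 0, 0, 0] [(false, 34), (false, 34), (false, 34), (false, 18), (false, 27), (false, 27), (false, 27)],
  .conv 1 [7, 0, 6, 2, 8, 5, 6, 2, 1, 0, 3, 6, 2, 1] 3 [5, 2, 2, 8, 7, 6, 2, 8, 7, 7, 1, 7, 5] [3521, -6499, 600, 5477, -4385, 334, 1449, 2997, -1406, -13, 950, -3, -12, -189] 245 [0, 5, 10, 8, 15] 254]

/-- Chunk 8 of the facts. -/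
def items8 : List Item := [
  .prod 2 [1, 8, 7, 6, 6, 5, 7, 1, 1, 3, 7, 7, 6, 2] [23, -40, 5, 37, -28, 2, 6, 23, -9, 0, 6, 0, 0, 1] [(false, 100), (false, 100), (false, 80)],
  .conv 2 [0, 1, 7, 5, 2, 5, 6, 5, 3, 2, 5, 7, 0, 8, 2, 2] 1 [0, 2, 3, 7, 1, 1, 0, 7, 0, 8, 2, 1, 1, 2, 6] [24, -47, 7, 45, -35, 1, 12, 22, -11, 0, 8, 0, 0, 1] 85 [6, 5, 15, 14, 1, 10] 256,
  .prod 1 [7, 6, 5, 6, 2, 0, 1, 0, 2, 1, 5] [-3, 7, -1, -8, 7, 0, -4, -1, 3, 0, -2, 0, 0, 0] [(false, 27), (false, 34), (false, 27), (false, 27), (false, 18), (false, 18), (false, 27)],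
  .conv 1 [1, 2, 2, 1, 2, 5, 7, 7, 3, 7, 0, 2, 5, 2, 0] 2 [0, 7, 6, 2, 1, 2, 2] [-4, 7, -2, -8, 6, -1, -4, -1, 3, 0, -2, 0, 0, 0] 58 [4, 5, 2, 0] 258,
  .prod 3 [6, 2, 0, 6, 2, 6, 2, 6, 7, 3, 2, 5, 2, 2] [-12738, 23285, -2163, -19768, 15750, -1081, -4923, -10836, 5058, 51, -3423, 6, 40, 602] [(false, 229), (false, 208), (false, 229), (false, 188), (false, 188), (false, 229)],
  .conv 3 [0, 6, 2, 5, 6, 2, 8, 7, 1, 7, 0, 2, 0, 7] 2 [7, 7, 1, 5, 6, 6, 2, 0, 3, 2, 1, 1, 3, 2, 1] [-10824, 19340, -1764, -16527, 12939, -756, -3609, -9205, 4240, 38, -2864, 8, 41, 440] 159 [13, 11, 6, 7, 5, 3] 260,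
  .prod 2 [5, 7, 1, 1, 5, 8, 7, 3, 2, 5, 6, 7, 1, 3, 2] [-671, 1375, -141, -1128, 974, -110, -445, -569, 288, 4, -196, 0, 0, 55] [(false, 66), (false, 108), (false, 108), (false, 108), (false, 108)],
  .conv 2 [7, 1, 2, 1, 0, 7, 7, 3, 7, 0, 1, 7, 6, 2, 3] 3 [6, 5, 1, 7, 5, 7, 7, 1, 1, 2, 5] [-672, 1374, -141, -1128, 974, -110, -445, -570, 288, 4, -196, 0, 0, 55] 54 [6, 5, 0, 7, 14, 13, 1] 262,
  .defn 3 [3, 2, 0, 6, 2, 2, 3] 4,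
  .prod 3 [8, 5, 6, 5, 7, 6, 6, 0, 2, 3, 2, 3, 6, 0, 2] [1486, -2966, 290, 2448, -2075, 197, 897, 1233, -630, -5, 425, 0, -3, -113] [(false, 208), (false, 188), (false, 188), (false, 188)],
  .conv 3 [7, 5, 2, 1, 7, 8, 1, 0, 6, 0, 2, 0, 1, 2] 4 [6, 6, 7, 7, 5, 2, 6, 5, 1, 5, 2] [1485, -2967, 290, 2447, -2075, 195, 897, 1234, -630, -5, 425, 0, -3, -113] 264 [1, 14, 0, 15, 3, 5, 6, 5] 265,
  .loopT 4 [1, 1, 8, 7, 0, 7, 6, 0, 1, 0, 2] 3 [0, 7, 7, 3, 7, 8, 7, 1, 1, 2, 5, 3, 7, 6, 6] [10011, -17747, 1615, 15208, -11838, 671, 3157, 8541, -3896, -37, 2635, -8, -38, -381] 18 [261, 263, 266],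
  .prod 4 [] [0, 0, 0, 0, 0, 0, 0, 0, 0, 0, 0, 0, 0, 0] [],
  .conv 4 [5, 7, 3, 1, 7, 7, 5, 6, 7, 3, 6, 7, 7, 0, 7] 3 [3, 2, 5, 7, 8, 7, 6, 2, 1, 7, 1, 8, 7, 0, 2] [10011, -17747, 1616, 15208, -11838, 673, 3159, 8541, -3896, -37, 2635, -8, -38, -381] 267 [1, 13, 14, 13, 10, 9, 14] 268,
  .prod 3 [7, 1, 2, 1, 7, 6, 6, 3, 7, 7, 3, 6, 0, 7, 5] [-12460, 22793, -2117, -19344, 15419, -1064, -4836, -10599, 4950, 50, -3350, 6, 39, 593] [(false, 229), (false, 208), (false, 229), (false, 208), (false, 229), (false, 188), (false, 188), (false, 188)],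
  .conv 3 [3, 7, 1, 5, 7, 7, 3, 7, 7, 6, 2, 3, 2, 8] 2 [2, 2, 3, 5, 7, 6, 6, 2, 3, 2, 0, 3, 2, 6] [-12387, 22609, -2104, -19209, 15291, -1045, -4743, -10546, 4915, 49, -3325, 6, 38, 576] 213 [2, 3, 5, 3, 7] 270,
  .prod 2 [0, 1, 2, 0, 6, 2, 5, 2, 8, 7, 5, 6, 7, 6, 0] [-295, 604, -61, -493, 426, -50, -196, -249, 126, 2, -86, 0, 0, 26] [(false, 108), (false, 80), (false, 80), (false, 108), (false, 100), (false, 66)],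
  .conv 2 [1, 1, 0, 7, 8, 5, 7, 0, 2, 0, 3, 2, 3, 2, 2] 2 [3, 2, 5, 2, 6, 7, 5, 3, 2, 6, 6, 7, 1, 7, 5] [-292, 599, -65, -488, 421, -56, -195, -250, 125, 2, -85, 0, 0, 25] 114 [2, 2, 7, 14, 11, 13] 272,
  .loopT 2 [6, 2, 0, 2, 3, 2, 5, 7, 6, 8, 7] 4 [2, 2, 0, 2, 8, 7, 5, 2, 3, 7, 7, 1, 0, 2, 6] [2668, -5461, 553, 4489, -3874, 428, 1779, 2255, -1142, -14, 775, 2, 1, -220] 14 [269, 271, 273],
  .prod 2 [0, 1, 2, 3, 1, 5, 7, 5, 1, 0, 7, 3, 2, 6, 6, 8] [-315, 644, -67, -529, 458, -50, -208, -265, 135, 2, -92, 0, 0, 25] [(false, 108), (false, 66), (false, 108), (false, 66), (false, 80)],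
  .conv 2 [6, 0, 3, 7, 6, 2, 1, 2, 2] 4 [3, 7, 8, 6, 7, 7, 5, 1, 1, 3, 2, 3, 6, 7, 1] [2353, -4816, 486, 3961, -3416, 379, 1570, 1989, -1007, -12, 683, 2, 1, -195] 274 [6, 11, 7, 6, 9, 13, 14] 275,
  .loopT 4 [2, 8, 7, 0, 1, 8, 5, 2, 0, 3, 2, 1, 5, 7, 6] 2 [2, 6, 2, 3, 1, 7, 3, 6, 2, 6, 2, 5, 7, 6] [-2373, 4856, -491, -3998, 3445, -379, -1578, -2010, 1017, 12, -689, -2, -1, 195] 17 [257, 259, 276],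
  .prod 2 [5, 7, 0, 2, 1, 8, 7, 6, 7, 0, 2, 1, 0, 3] [42, -85, 8, 71, -58, 8, 25, 40, -18, 0, 12, 0, 0, -3] [(false, 80), (false, 66), (false, 66), (false, 100), (false, 80)],
  .conv 2 [0, 7, 1, 7, 3, 7, 5, 6, 3, 6, 7, 1, 5, 1, 3, 7] 2 [3, 7, 1, 7, 5, 8, 7, 5, 3, 6, 2, 2, 1, 8, 2, 1] [-364, 763, -85, -635, 564, -52, -270, -301, 161, 2, -109, -1, 0, 25] 138 [9, 5, 10, 5, 5] 278,
  .prod 2 [2, 5, 7, 1, 5, 7, 7, 8, 7, 1, 2, 2, 1, 7, 0] [-331, 686, -73, -563, 494, -50, -230, -273, 144, 2, -98, 0, 0, 26] [(false, 108), (false, 66), (false, 108), (false, 66), (false, 100), (false, 66)],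
  .conv 2 [2, 1, 2, 8, 0, 7, 5, 3, 6, 2, 2, 1, 8, 2, 1] 2 [2, 2, 8, 6, 0, 1, 7, 0, 3, 7, 1, 1, 2, 2, 8] [-327, 682, -73, -562, 494, -54, -233, -274, 143, 2, -97, 0, 0, 25] 70 [2, 5, 7, 14, 10, 7, 5, 14] 280,
  .prod 2 [5, 5, 2, 1, 1, 5, 6, 2, 5, 6] [-331, 689, -71, -562, 492, -54, -233, -275, 144, 2, -98, 0, 0, 29] [(false, 108), (false, 100), (false, 108), (false, 100), (false, 66)],
  .conv 2 [5, 1, 2, 0, 6, 6, 7, 7, 3, 7, 6, 7, 7, 1, 2] 2 [2, 5, 2, 5, 8, 7, 5, 6, 5, 2, 0, 3, 7, 3, 6] [-737, 1536, -165, -1270, 1114, -111, -528, -617, 323, 4, -219, -1, 0, 57] 138 [6, 3, 7, 3, 14] 282,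
  .loopT 2 [2, 1, 1, 5, 6, 7, 8, 6, 2, 6, 7, 6, 2, 8, 7, 5] 2 [2, 8, 0, 7, 1, 7, 8, 7, 3, 6, 2, 0, 7, 5, 3] [1428, -2981, 323, 2467, -2172, 217, 1031, 1192, -625, -8, 425, 3, 0, -107] 8 [279, 281, 283],
  .prod 2 [5, 6, 7, 3, 5, 7, 5, 6, 3, 7, 5, 2, 3, 6, 6, 0] [-148, 301, -31, -247, 213, -24, -96, -125, 63, 1, -43, 0, 0, 12] [(false, 108), (false, 80), (false, 66)],
  .conv 2 [8, 0, 7, 5, 8, 7, 8, 5, 1, 1, 7, 7, 1, 1, 2, 3] 2 [1, 2, 0, 2, 3, 7, 5, 3, 0, 7, 1, 8, 2, 0, 1] [1280, -2680, 292, 2219, -1959, 194, 936, 1066, -562, -7, 382, 3, 0, -95] 284 [13, 9, 7, 14, 1, 3] 285,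
  .prod 2 [1, 7, 8, 7, 0, 6, 7, 1, 7, 1, 0, 8, 7] [-125, 261, -26, -210, 185, -22, -90, -102, 54, 1, -37, 0, 0, 13] [(false, 80), (false, 66), (false, 100), (false, 80), (false, 108), (false, 100)]]

/-- Chunk 9 of the facts. -/
def items9 : List Item := [
  .conv 2 [0, 7, 0, 1, 5, 7, 7, 3, 2, 6, 0, 2, 1, 5, 1] 4 [6, 6, 2, 8, 5, 2, 0, 7, 1, 8, 7, 0, 6] [2542, -5199, 527, 4279, -3690, 406, 1688, 2154, -1088, -13, 738, 2, 1, -207] 274 [4, 9, 6, 0, 15] 287,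
  .loopT 4 [6, 2, 3, 7, 7, 6, 7, 6, 3, 7, 5, 1, 7, 0, 6, 7] 2 [8, 7, 7, 1, 5, 6, 5, 2, 3, 6, 2, 0, 2, 3] [-3822, 7879, -819, -6498, 5649, -600, -2624, -3220, 1650, 20, -1119, -5, -1, 302] 5 [286, 288],
  .conv 4 [5, 1, 2, 5, 1, 5, 7, 0, 3, 2, 5, 7, 3, 6, 7] 2 [6, 2, 5, 2, 6, 6, 7, 8, 7, 1, 7, 5, 1, 1] [-3822, 7878, -820, -6499, 5649, -599, -2622, -3221, 1650, 20, -1119, -5, -1, 302] 289 [1, 14, 13, 2, 14, 3, 7] 268,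
  .prod 2 [7, 5, 1, 7, 0, 7, 1, 5, 2, 3, 2, 1, 0, 2, 5, 1] [-668, 1378, -140, -1126, 976, -112, -454, -564, 288, 4, -196, 0, 0, 58] [(false, 100), (false, 108), (false, 108), (false, 100), (false, 108), (false, 108)],
  .conv 2 [6, 7, 7, 0, 7, 6, 6, 2, 3, 7, 1, 7, 5, 1, 1] 4 [3, 6, 5, 6, 5, 7, 8, 7, 6, 2, 3, 0, 7, 0, 1] [2001, -4084, 413, 3362, -2898, 314, 1325, 1691, -854, -10, 579, 2, 1, -162] 274 [1, 3, 5, 5, 8] 291,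
  .loopS 4 [1, 1, 2, 2, 8, 5, 7, 8, 7, 6, 2, 1, 7, 6] [1821, -3794, 407, 3137, -2751, 285, 1297, 1530, -795, -10, 540, 3, 0, -140] 1 [290, 292],
  .prod 2 [1, 7, 6, 6, 2, 8, 2, 1, 7, 6, 5, 1] [25, -39, 5, 38, -26, 2, 1, 27, -9, 0, 6, 0, 0, 2] [(false, 100), (false, 100), (false, 80), (false, 100)],
  .conv 2 [6, 5, 1, 1, 2, 6, 2, 5, 2, 3, 2, 1, 0, 2, 0] 2 [0, 7, 8, 5, 1, 1, 7, 0, 2, 6, 7, 7, 8, 2, 5] [29, -43, 6, 38, -26, -1, -4, 29, -10, 0, 7, 0, 0, 1] 70 [5, 3, 15, 10] 294,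
  .prod 2 [1, 0, 2, 8, 0, 7, 5, 7, 3, 7, 1, 3, 2, 0, 3] [-333, 688, -71, -563, 490, -54, -228, -279, 144, 2, -98, 0, 0, 28] [(false, 108), (false, 66), (false, 108), (false, 100)],
  .conv 2 [7, 6, 0, 7, 8, 7, 1, 5, 7, 1, 2, 6, 8, 2, 1, 2] 2 [1, 1, 0, 1, 7, 6, 6, 3, 0, 2, 6, 7, 5, 1, 2] [-452, 931, -95, -762, 660, -86, -309, -387, 194, 4, -133, 0, 0, 40] 176 [0, 0, 14, 13] 296,
  .prod 2 [1, 5, 2, 6, 2, 2, 3, 7, 5, 2, 0, 2, 6, 0, 1] [-498, 1035, -105, -843, 735, -84, -348, -417, 216, 3, -147, 0, 0, 45] [(false, 100), (false, 100), (false, 108), (false, 108), (false, 100), (false, 108)],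
  .conv 2 [1, 1, 7, 3, 7, 8, 1, 0, 1, 2, 5, 2, 0, 7] 4 [1, 5, 2, 6, 2, 8, 7, 1, 7, 1, 1, 0, 3, 2] [2170, -4427, 448, 3645, -3139, 344, 1432, 1837, -926, -11, 628, 2, 1, -175] 274 [14, 1, 7, 3] 298,
  .loopT 4 [5, 2, 3, 5, 6, 7, 1, 1, 7, 0, 8, 7, 5, 2, 0] 2 [6, 6, 2, 8, 7, 5, 6, 7, 1, 8, 2, 1, 1, 2, 2] [-1747, 3539, -359, -2921, 2505, -257, -1119, -1479, 744, 7, -502, -1, -1, 134] 11 [295, 297, 299],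
  .conv 4 [2, 1, 5, 7, 5, 1, 8, 7, 1, 2, 2, 8, 2, 6, 2] 2 [0, 1, 8, 5, 2, 1, 7, 7, 3, 7, 3, 6, 2, 5, 3] [-1747, 3538, -359, -2922, 2505, -256, -1118, -1480, 744, 7, -502, -1, -1, 134] 300 [13, 14, 1, 7, 3] 268,
  .prod 2 [6, 7, 3, 7, 1, 5, 1, 7, 3, 6, 6, 2, 6, 7] [42, -85, 8, 71, -58, 8, 25, 40, -18, 0, 12, 0, 0, -3] [(false, 66), (false, 80), (false, 80), (false, 66), (false, 100)],
  .conv 2 [3, 2, 6, 6, 5, 5, 7, 3, 2, 1, 7, 0, 7, 7, 8] 2 [6, 7, 7, 3, 7, 8, 1, 7, 1, 0, 2, 1, 1, 8] [305, -629, 64, 516, -447, 62, 212, 265, -130, -3, 90, 0, 0, -26] 173 [8, 15, 2, 9, 15] 302,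
  .prod 2 [1, 8, 2, 1, 1, 0, 7, 5, 8, 7, 5, 2, 1, 2, 1, 1] [43, -86, 7, 71, -56, 10, 24, 43, -18, 0, 12, 0, 0, -4] [(false, 80), (false, 80), (false, 66), (false, 100), (false, 66), (false, 66)],
  .conv 2 [0, 6, 2, 5, 1, 7, 3, 7, 5, 2, 3, 6, 5] 2 [7, 6, 2, 6, 2, 8, 2, 0, 6, 0, 6, 7, 5, 6] [305, -631, 63, 516, -446, 62, 209, 265, -130, -3, 90, 0, 0, -27] 173 [5, 4, 6, 5, 7, 2, 6] 304,
  .prod 2 [0, 7, 0, 2, 8, 7, 1, 0, 6] [-166, 342, -37, -282, 247, -24, -113, -137, 72, 1, -49, 0, 0, 12] [(false, 108), (false, 66), (false, 66)],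
  .conv 2 [6, 7, 6, 2, 5, 8, 7, 1, 7, 3, 6, 2, 1, 0, 1] 4 [6, 7, 3, 5, 2, 8, 7, 3, 6, 5, 2, 2, 1, 7, 5] [2502, -5119, 515, 4206, -3627, 405, 1667, 2118, -1070, -13, 726, 2, 1, -208] 274 [14, 3, 2, 13] 306,
  .loopT 4 [6, 6, 0, 2, 8, 5, 7, 8, 2, 6, 2, 6, 7, 7, 0] 2 [1, 7, 1, 0, 2, 0, 2, 8, 7, 6, 0, 1, 1, 2] [-2807, 5750, -578, -4722, 4073, -467, -1876, -2383, 1200, 16, -815, -2, -1, 235] 5 [305, 307],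
  .conv 4 [2, 0, 1, 8, 2, 3, 7, 1, 7, 3, 7, 5] 2 [3, 6, 6, 5, 7, 1, 5, 7, 1, 3, 7, 1, 1, 2, 0] [-2807, 5749, -577, -4723, 4073, -469, -1877, -2383, 1200, 16, -815, -2, -1, 235] 308 [1, 6, 3, 5, 10, 5] 268,
  .loopT 2 [6, 6, 5, 8, 7, 1, 5, 7, 1, 3, 7, 1, 1, 2, 0] 4 [2, 0, 1, 8, 2, 3, 7, 1, 7, 3, 7, 5] [2807, -5749, 577, 4723, -4073, 469, 1877, 2383, -1199, -16, 815, 2, 1, -235] 1 [309],
  .prod 2 [6, 6, 7, 8, 2, 8, 7, 5, 6, 2, 2, 3, 2, 0, 2, 6] [-164, 340, -39, -282, 251, -20, -115, -131, 72, 1, -49, 0, 0, 10] [(false, 66), (false, 66), (false, 108), (false, 66), (false, 66)],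
  .conv 2 [8, 6, 5, 7, 1, 7, 5, 3, 2, 1, 0, 6, 6, 7] 4 [6, 2, 1, 5, 7, 3, 6, 7, 7, 0, 7, 8, 7] [2643, -5409, 538, 4441, -3822, 450, 1762, 2251, -1127, -15, 766, 2, 1, -225] 310 [7, 9, 13, 1] 311,
  .loopS 4 [2, 5, 6, 2, 5, 6, 6, 7, 3, 2, 5, 7, 0, 2, 5] [-1201, 2500, -243, -2035, 1764, -256, -856, -1036, 513, 11, -353, -1, 0, 117] 5 [301, 303, 312],
  .prod 4 [1, 1, 5, 6, 5, 7, 6, 2, 3, 6, 7, 3] [3139, -6558, 905, 5679, -5145, -53, 2231, 2422, -1461, 18, 956, 13, 0, -44] [(false, 293), (false, 293), (false, 313), (false, 313), (false, 293), (false, 313), (false, 293), (false, 313), (false, 313), (false, 293), (false, 313), (false, 313), (false, 293), (false, 293), (false, 313)],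
  .conv 4 [2, 8, 2, 1, 1, 7, 7, 3, 6, 6, 2, 6, 7, 7, 8] 2 [2, 6, 6, 2, 8, 5, 6, 7, 1, 3, 0, 7, 0, 2] [766, -1701, 413, 1681, -1700, -431, 655, 412, -444, 30, 267, 11, -1, 151] 277 [7, 14, 2, 13, 9, 14, 15] 314,
  .conv 2 [6, 2, 1, 1, 7, 8, 6, 7, 7, 0, 2, 3, 0, 7, 0, 1] 2 [8, 5, 1, 7, 8, 7, 6, 5, 6, 2, 0, 8, 7, 5, 1] [510, -1070, 107, 879, -768, 87, 372, 434, -220, -3, 150, 1, 0, -43] 149 [6, 2, 5, 6, 3, 7] 275,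
  .prod 2 [6, 6, 5, 7, 6, 7, 7, 5, 1, 3, 7, 6, 2, 6, 0, 7] [-336, 688, -70, -564, 486, -56, -222, -286, 144, 2, -98, 0, 0, 28] [(false, 108), (false, 108)],
  .conv 2 [0, 1, 2, 3, 7, 6, 5, 6, 2, 0, 8, 7, 5, 1] 1 [2, 5, 1, 5, 7, 8, 6, 5, 1, 2, 1, 1, 5, 6, 2, 5] [-335, 680, -68, -557, 479, -55, -216, -288, 142, 2, -96, 0, 0, 28] 85 [1, 10, 3, 13, 1] 317,
  .loopT 1 [7, 0, 2, 5, 7, 0, 1, 1, 8, 2, 1, 2, 5, 1] 4 [6, 2, 3, 1, 7, 5, 8, 1, 1, 7, 6, 6, 2, 8, 2] [-941, 2091, -452, -2003, 1989, 399, -811, -558, 524, -29, -321, -11, 1, -136] 11 [315, 316, 318]]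

/-- Chunk 10 of the facts. -/
def items10 : List Item := [
  .prod 1 [5, 1, 5, 2, 1, 0, 6, 6, 7] [-3, 6, -1, -7, 6, 0, -3, -1, 3, 0, -2, 0, 0, 0] [(false, 18), (false, 34), (false, 18), (false, 27), (false, 27), (false, 18), (false, 27), (false, 27)],
  .conv 1 [3, 2, 1, 0, 6] 4 [2, 5, 2, 8, 7, 6, 0, 7, 1, 8, 2, 6, 2, 0] [-945, 2095, -453, -2009, 1995, 400, -815, -559, 527, -29, -323, -11, 1, -136] 319 [0, 1, 6, 1, 11, 13] 320,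
  .conv 1 [2, 0, 7, 5, 7, 6, 0, 1, 0, 8, 2, 1, 0, 6] 2 [] [0, 0, 0, 0, 0, 0, 0, 0, 0, 0, 0, 0, 0, 0] 58 [] 14,
  .prod 1 [6, 2, 6, 0, 6, 2, 0, 1, 7] [-15, 33, -3, -30, 27, 0, -12, -9, 9, 0, -6, 0, 0, 0] [(false, 27), (false, 27), (false, 34), (false, 34), (false, 27), (false, 34), (false, 27), (false, 27), (false, 27)],
  .conv 1 [5, 6, 7, 5, 1, 2, 3, 2, 1, 0, 6] 2 [1, 2, 1, 0, 7, 6, 6, 0] [-14, 33, -3, -30, 27, -1, -12, -10, 9, 0, -6, 0, 0, 0] 58 [8, 10, 7, 2, 5] 323,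
  .prod 1 [7, 0, 1, 7, 1, 0, 6, 7, 6, 5, 2] [-20, 33, -3, -25, 22, 0, -2, -14, 9, 0, -6, 0, 0, 0] [(false, 18), (false, 18), (false, 34), (false, 34), (false, 34), (false, 18), (false, 18), (false, 27), (false, 18)],
  .conv 1 [7, 0, 6, 2, 8, 5, 2, 6, 5, 1, 5, 1, 1] 2 [1, 0, 1, 7, 1, 0, 2, 0, 0, 1] [-20, 33, -3, -25, 22, 1, -3, -14, 9, 0, -6, 0, 0, 0] 58 [7, 2, 6, 15, 10, 13] 325,
  .prod 1 [2, 0, 7, 7, 1, 0, 7, 6] [-10, 20, -2, -18, 16, 0, -6, -6, 6, 0, -4, 0, 0, 0] [(false, 27), (false, 18), (false, 34), (false, 27), (false, 27), (false, 27), (false, 18), (false, 34)],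
  .conv 1 [0, 2, 0, 7, 1, 0, 1, 2, 3, 0, 2, 1, 0, 6] 2 [6, 6, 7, 1, 2, 0, 1, 1, 0] [-11, 22, -2, -18, 16, -2, -7, -5, 6, 0, -4, 0, 0, 0] 58 [0, 5, 6, 9, 5, 9, 15] 327,
  .conv 2 [] 1 [8, 0, 1, 5, 7, 1, 1, 2, 0, 3, 2, 5, 1, 5] [1, -6, 0, 8, -7, 0, 7, 0, -2, 0, 2, 0, 0, 0] 85 [10, 15, 2, 14, 2, 15] 62,
  .prod 2 [5, 6, 0, 1, 2, 5, 2, 5, 7, 1] [25, -42, 3, 37, -24, 6, 4, 29, -9, 0, 6, 0, 0, -1] [(false, 66), (false, 100), (false, 100), (false, 80), (false, 66)],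
  .conv 2 [2, 0, 7, 5, 7, 6, 5, 1, 5] 2 [6, 2, 5, 7, 8, 5, 1, 7, 7, 6, 7, 8, 2] [33, -56, 2, 47, -34, 1, 5, 33, -13, 1, 8, 0, 0, -2] 98 [5, 14, 11, 7, 2, 5, 6, 13] 330,
  .conv 2 [6, 2, 6, 5, 2, 8, 5, 2, 6, 5, 2, 1, 7, 6, 0] 2 [5, 1, 5, 7, 6, 3, 2, 3, 0, 7, 1, 5, 7] [-1169, 2396, -246, -1973, 1709, -196, -785, -1001, 500, 8, -341, -1, -1, 94] 152 [1, 6, 5, 7, 14, 0, 7] 174,
  .prod 2 [2, 3, 2, 0, 7, 1, 7, 6, 5, 3, 7, 5, 7, 1, 2] [-332, 687, -72, -563, 492, -52, -229, -276, 144, 2, -98, 0, 0, 27] [(false, 100), (false, 66), (false, 108), (false, 66), (false, 108)],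
  .conv 2 [1, 7, 7, 5, 7, 3, 5, 1, 7, 1, 5, 7, 1, 2, 5] 2 [1, 2, 3, 2, 2, 8, 7, 0, 2, 3, 0, 2, 0, 1, 8] [-825, 1713, -176, -1408, 1229, -132, -580, -698, 356, 5, -242, -1, 0, 67] 126 [0, 7, 13, 10, 14, 11, 7] 333,
  .prod 2 [2, 6, 2, 8, 7, 7, 6, 7, 0, 2, 8, 7, 1, 5, 7] [25, -42, 3, 37, -24, 6, 4, 29, -9, 0, 6, 0, 0, -1] [(false, 100), (false, 66), (false, 100), (false, 80), (false, 66)],
  .conv 2 [5, 8, 7, 1, 1, 5, 1, 1, 0, 7, 1, 8, 2, 5, 7] 2 [0, 1, 2, 1, 7, 6, 2, 3, 2, 1, 1, 0, 1, 2, 6] [-467, 984, -102, -809, 713, -76, -349, -389, 203, 3, -138, -1, 0, 39] 126 [15, 3, 6, 11, 5, 15] 335,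
  .prod 2 [1, 7, 8, 0, 7, 5, 6, 5, 7, 8, 7, 6, 7, 7] [-145, 301, -32, -246, 217, -22, -102, -118, 63, 1, -43, 0, 0, 12] [(false, 66), (false, 80), (false, 108), (false, 100), (false, 66)],
  .conv 2 [7, 8, 5, 6, 7, 6, 6, 7, 3, 7, 7, 0, 2, 6, 0] 2 [5, 7, 1, 1, 0, 2, 8, 5, 2, 2, 3, 7, 3, 6, 2, 6] [-637, 1327, -138, -1091, 954, -102, -451, -539, 275, 4, -187, -1, 0, 52] 126 [14, 11, 7, 14, 2, 13, 14] 337,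
  .loopT 2 [5, 7, 5, 1, 2, 5, 7, 3, 7, 6, 7, 1, 7, 5, 1] 2 [5, 2, 3, 7, 0, 7, 6, 3, 6, 7, 8, 7, 7, 0, 1] [1929, -4024, 416, 3308, -2896, 310, 1380, 1626, -832, -12, 567, 3, 0, -157] 19 [334, 336, 338],
  .prod 2 [8, 0, 2, 0, 7, 7, 6, 7, 3, 6, 6, 7, 0, 3, 2] [-130, 260, -25, -212, 179, -24, -79, -113, 54, 1, -37, 0, 0, 12] [(false, 80), (false, 108), (false, 80)],
  .conv 2 [7, 1, 2, 8, 6, 7, 6, 5, 3, 2, 5, 2, 1, 0] 2 [6, 2, 8, 5, 7, 1, 7, 0, 6, 8, 2, 0, 7, 5] [1798, -3764, 392, 3097, -2717, 284, 1300, 1513, -778, -11, 530, 3, 0, -145] 339 [0, 11, 5, 10, 5, 6] 340,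
  .loopT 2 [5, 8, 7, 1, 7, 8, 5, 7, 3, 2, 1, 5, 2, 2, 8, 2] 2 [6, 7, 6, 2, 6, 7, 6, 5, 3, 7, 1, 8, 7, 6, 2, 1] [-629, 1368, -146, -1124, 1008, -88, -515, -512, 278, 3, -188, -2, 1, 51] 5 [332, 341],
  .prod 2 [2, 2, 6, 7, 6, 7, 5, 3, 7, 1, 2, 0, 2] [4, -1, -2, 1, 6, 4, -7, 10, 0, 0, 0, 0, 0, -1] [(false, 66), (false, 66), (false, 100)],
  .conv 2 [1, 2, 2, 0, 7, 5, 3, 6, 2, 6, 7, 5, 7, 3] 2 [7, 7, 8, 7, 7, 8, 7, 1, 0, 7, 6, 6, 5, 7] [-625, 1366, -149, -1123, 1014, -86, -523, -503, 278, 3, -188, -2, 1, 50] 342 [5, 6, 1, 5, 2, 7] 343,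
  .prod 2 [0, 2, 1, 2, 8, 7, 0, 7, 1, 1, 2, 1, 2, 3] [-142, 304, -31, -244, 219, -24, -111, -113, 63, 1, -43, 0, 0, 15] [(false, 108), (false, 100), (false, 100), (false, 80), (false, 66), (false, 100)],
  .conv 2 [0, 7, 1, 8, 5, 6, 6, 7, 5, 2, 1, 5, 3, 7, 1] 2 [8, 7, 1, 1, 7, 8, 2, 1, 7, 1, 0, 2, 5] [-549, 1151, -126, -951, 841, -82, -407, -456, 242, 3, -164, -1, 0, 43] 138 [3, 6, 2, 5, 7, 0, 7] 345,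
  .prod 2 [7, 6, 0, 7, 3, 1, 7, 6, 0, 1, 2, 0, 6, 8, 7] [42, -85, 8, 71, -58, 8, 25, 40, -18, 0, 12, 0, 0, -3] [(false, 66), (false, 66), (false, 100), (false, 80), (false, 80)],
  .conv 2 [2, 6, 7, 5, 8, 6, 7, 3, 6, 2, 3, 7, 1, 0, 7] 2 [0, 7, 3, 5, 6, 7, 6, 5, 2, 3, 7, 1, 7, 0, 8] [-452, 940, -98, -775, 679, -73, -327, -379, 194, 3, -132, -1, 0, 37] 126 [0, 2, 1, 0, 15] 347,
  .loopT 2 [3, 2, 2, 1, 1, 7, 7, 5, 3, 2, 1, 1, 2, 5, 7, 1] 2 [6, 0, 2, 8, 7, 6, 7, 6, 5, 7, 0, 8, 7, 1] [1001, -2091, 224, 1726, -1520, 155, 734, 835, -436, -5, 296, 2, 0, -80] 2 [346, 348],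
  .prod 2 [1, 5, 6, 2, 1, 3, 0, 1, 7, 0, 6, 6] [-144, 303, -31, -245, 217, -24, -106, -117, 63, 1, -43, 0, 0, 14] [(false, 108), (false, 100), (false, 66), (false, 80), (false, 100)],
  .conv 2 [1, 0, 1, 2, 3, 7, 5, 6, 2, 0, 1, 0, 7, 6, 7] 2 [2, 3, 7, 6, 7, 5, 7, 1, 3, 0, 7, 3, 7, 3, 0] [858, -1788, 193, 1482, -1303, 130, 627, 716, -373, -4, 253, 2, 0, -66] 349 [7, 11, 7, 5, 8, 6] 350]

/-- Chunk 11 of the facts. -/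
def items11 : List Item := [
  .prod 2 [1, 5, 7, 1, 0, 6, 5, 2, 0, 6] [-311, 646, -67, -527, 462, -50, -218, -257, 135, 2, -92, 0, 0, 27] [(false, 100), (false, 100), (false, 80), (false, 108), (false, 108), (false, 66), (false, 66)],
  .conv 2 [7, 3, 1, 7, 0, 6, 0, 7, 8, 7, 7, 6] 4 [5, 1, 7, 1, 1, 8, 7, 5, 6, 7, 0, 1, 3, 7, 7, 6] [2356, -4815, 486, 3961, -3412, 378, 1561, 1996, -1007, -12, 683, 2, 1, -193] 274 [7, 0, 7, 3] 352,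
  .loopT 4 [6, 7, 5, 2, 8, 7, 1, 2, 0, 2, 1, 2, 2, 1, 3] 2 [2, 0, 6, 7, 3, 7, 6, 6, 5, 1, 2, 3, 7, 0] [-2589, 5237, -530, -4320, 3701, -422, -1665, -2209, 1104, 13, -748, -2, -2, 210] 18 [344, 351, 353],
  .prod 4 [6, 5, 6, 2, 8, 7, 6, 5, 1, 5, 7, 0, 1, 7] [7982, -16646, 1962, 13988, -12411, 773, 5681, 6518, -3564, -13, 2389, 20, 0, -441] [(false, 293), (false, 313), (false, 293), (false, 313), (false, 293), (false, 313), (false, 293), (false, 313), (false, 293), (false, 293), (false, 313), (false, 313), (false, 293), (false, 293), (false, 313), (false, 293)],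
  .conv 4 [5, 1, 2, 0, 2, 8, 7, 7, 6, 7, 1, 2, 0, 8, 7] 2 [6, 6, 2, 1, 1, 5, 6, 3, 6, 7, 0, 2, 3, 7, 7] [5390, -11409, 1432, 9668, -8710, 351, 4015, 4307, -2460, 0, 1641, 18, -2, -231] 354 [0, 7, 0, 0, 7, 6] 355,
  .prod 2 [0, 7, 8, 7, 5, 1, 5, 2, 3, 6, 6, 5, 7, 7, 8] [23, -43, 3, 36, -26, 6, 9, 25, -9, 0, 6, 0, 0, -2] [(false, 66), (false, 100), (false, 66), (false, 80)],
  .conv 2 [8, 6, 7, 1, 1, 5, 6, 3, 6, 2, 0, 7, 8, 7, 7] 2 [5, 1, 7, 0, 6, 0, 7, 1, 0, 8, 7] [1169, -2422, 242, 1983, -1720, 198, 811, 992, -502, -7, 342, 1, 0, -100] 166 [0, 2, 4, 7, 6, 3] 357,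
  .conv 2 [8, 0, 6, 2, 8, 7, 1, 3, 2, 1, 0, 7, 5, 7] 2 [5, 6, 5, 8, 7, 6, 6, 2, 0, 7, 6] [-164, 341, -36, -281, 243, -32, -117, -141, 71, 1, -48, 0, 0, 13] 70 [5, 6, 9, 15, 2, 5] 108,
  .loopT 2 [0, 6, 2, 6, 6, 0, 1, 5, 7, 7] 4 [3, 7, 5, 7, 5, 8, 7, 3, 2, 1, 1, 7, 7, 0] [-6395, 13490, -1638, -11370, 10187, -517, -4709, -5158, 2893, 6, -1935, -19, 2, 319] 18 [356, 358, 359],
  .conv 2 [5, 6, 7, 5, 1, 2] 4 [2, 1, 1, 2, 5, 3, 2, 1, 2, 2, 0, 7, 3] [-6396, 13490, -1638, -11369, 10187, -519, -4711, -5159, 2893, 6, -1935, -19, 2, 319] 360 [6, 5, 7, 11, 0, 6, 5] 62,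
  .prod 2 [5, 5, 2, 6, 6, 7, 0, 1, 7, 5] [-335, 687, -71, -564, 488, -54, -223, -283, 144, 2, -98, 0, 0, 27] [(false, 66), (false, 108), (false, 108)],
  .conv 2 [7, 5, 6, 2, 2, 6, 5, 1, 1, 5] 2 [7, 0, 7, 5, 7, 3, 5, 1, 1, 0, 7, 0, 2, 5, 7] [-327, 673, -72, -555, 477, -59, -222, -278, 140, 3, -96, 0, 0, 26] 98 [6, 2, 4, 5, 14] 362,
  .conv 2 [2, 1, 7, 5, 2, 1, 7, 5, 2] 2 [2, 6, 6, 2, 8, 6, 2, 2, 1, 0, 7, 6, 8, 7] [8, -14, 0, 11, -10, -3, 1, 4, -4, 1, 2, 0, 0, -1] 98 [7, 13, 11, 11] 62,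
  .prod 2 [0, 2, 3, 7, 6, 7, 6, 5, 6, 6, 7, 3, 7, 0, 6, 7] [-145, 301, -32, -246, 217, -22, -102, -118, 63, 1, -43, 0, 0, 12] [(false, 80), (false, 108), (false, 66), (false, 100), (false, 66)],
  .conv 2 [3, 2, 1, 0, 3, 6, 2, 3] 2 [1, 2, 5, 7, 0, 7, 5, 3, 2, 3, 2, 5, 2, 3, 0] [117, -244, 27, 199, -172, 32, 85, 104, -49, -2, 35, 0, 0, -11] 173 [5, 6, 7, 10, 14, 10, 13] 365,
  .prod 2 [5, 1, 7, 5, 7, 5, 7, 8, 2, 5, 1, 7, 1, 2, 0] [-297, 603, -61, -494, 424, -50, -191, -253, 126, 2, -86, 0, 0, 25] [(false, 108), (false, 80), (false, 80), (false, 108), (false, 66)],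
  .conv 2 [6, 7, 1, 8, 7, 5, 1, 7, 1, 8, 7, 7, 5, 2] 3 [6, 6, 0, 2, 0, 7, 0, 7, 3, 2, 1, 7, 6, 7, 1, 5] [2948, -5292, 469, 4494, -3517, 206, 1012, 2476, -1167, -6, 784, -4, -14, -136] 236 [5, 2, 15, 2, 6, 15] 367,
  .prod 2 [5, 8, 2, 5, 2, 8, 7, 5, 2, 6, 0, 1, 1, 3, 2, 0] [24, -44, 2, 36, -24, 8, 8, 28, -9, 0, 6, 0, 0, -3] [(false, 80), (false, 66), (false, 100), (false, 66), (false, 66)],
  .conv 2 [5, 6, 7, 5, 1, 2, 3, 2, 1, 0, 3, 6, 2, 3] 2 [8, 2, 5, 8, 7, 5, 7, 6, 5, 2, 0, 3, 7, 7, 8, 7] [-93, 199, -23, -162, 147, -24, -74, -81, 41, 2, -29, 0, 0, 9] 176 [2, 13, 11, 12, 7] 369,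
  .prod 2 [7, 6, 6, 0, 7, 6, 3, 7, 3, 6, 7, 5, 3, 2] [-498, 1035, -105, -843, 735, -84, -348, -417, 216, 3, -147, 0, 0, 45] [(false, 100), (false, 100), (false, 108), (false, 108), (false, 108), (false, 100)],
  .conv 2 [3, 6, 6, 5, 7, 1, 8, 5, 6, 7, 8, 7, 1, 2, 2] 4 [1, 7, 6, 0, 2, 1, 5, 3, 6, 6, 2, 5, 2, 3, 7] [2309, -4713, 472, 3880, -3338, 384, 1528, 1965, -983, -13, 668, 2, 1, -190] 310 [1, 5, 6, 9, 9, 7] 371,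
  .prod 2 [1, 5, 7, 0, 1, 5, 6, 2, 0, 6] [-276, 562, -56, -458, 394, -48, -180, -234, 117, 2, -80, 0, 0, 25] [(false, 100), (false, 66), (false, 80), (false, 108), (false, 80), (false, 80), (false, 108)],
  .conv 2 [7, 0, 6, 2, 8, 5, 6, 2, 1, 0, 3, 6, 2, 1, 3] 2 [0, 2, 6, 5, 3, 7, 6, 7, 3, 0, 2, 8] [-275, 557, -57, -454, 389, -54, -178, -235, 116, 2, -79, 0, 0, 24] 114 [0, 7, 0, 14, 10, 13, 14] 373,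
  .prod 2 [7, 8, 7, 8, 7, 8, 5, 6, 6, 5, 1, 2, 1, 7, 3] [-313, 648, -65, -527, 458, -54, -216, -263, 135, 2, -92, 0, 0, 29] [(false, 100), (false, 108), (false, 100), (false, 108), (false, 80)],
  .conv 2 [3, 2, 1, 0, 3, 6] 2 [2, 8, 2, 1, 5, 7, 1, 7, 3, 7, 5, 3, 2, 6] [198, -384, 39, 325, -274, 22, 104, 170, -82, -1, 56, 0, 0, -9] 131 [1, 1, 14, 13, 3] 375,
  .prod 2 [1, 8, 5, 6, 7, 8, 5, 6, 2, 1, 1, 5, 7, 3] [27, -41, 3, 38, -22, 6, -1, 33, -9, 0, 6, 0, 0, 0] [(false, 100), (false, 66), (false, 100), (false, 66), (false, 80), (false, 100)],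
  .conv 2 [2, 0, 7, 5, 7, 6, 5, 1, 3, 0, 7, 1, 0, 6, 8] 4 [8, 2, 5, 1, 7, 1, 8, 2, 3, 0, 6, 6, 2, 1, 5] [2694, -5502, 557, 4527, -3896, 434, 1777, 2287, -1151, -14, 781, 2, 1, -220] 274 [0, 7, 10, 8, 6, 0] 377,
  .prod 2 [6, 6, 2, 6, 0, 2, 8, 6, 2, 1, 2, 1, 7, 3, 7, 7] [28, -39, 4, 39, -22, 4, -5, 34, -9, 0, 6, 0, 0, 2] [(false, 100), (false, 80), (false, 100), (false, 66), (false, 100), (false, 100)],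
  .conv 2 [5, 6, 7, 5, 1, 2, 3, 2, 1, 0, 3, 6] 3 [6, 2, 6, 0, 7, 8, 5, 2, 6, 0, 2, 6, 7, 0, 8] [527, -1115, 115, 907, -788, 105, 393, 460, -228, -3, 155, 0, 0, -48] 205 [10, 5, 6, 10, 7, 6, 13] 379,
  .prod 2 [6, 6, 2, 6, 7, 5, 7, 8, 7, 6, 7, 6, 2, 2] [-126, 259, -27, -211, 185, -20, -86, -103, 54, 1, -37, 0, 0, 11] [(false, 66), (false, 80), (false, 66), (false, 80), (false, 100), (false, 108)],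
  .conv 2 [7, 0, 6, 2, 8, 5, 2, 3, 6, 0, 1, 0, 1, 1] 2 [7, 1, 2, 8, 5, 7, 7, 1, 8, 2, 1, 5, 7, 6, 0] [384, -770, 77, 642, -547, 54, 233, 330, -163, -2, 111, 0, 0, -27] 131 [0, 10, 9, 5, 2] 381,
  .prod 2 [2, 3, 7, 5, 6, 7, 5, 3, 2, 6, 2, 3, 0, 7, 8] [-145, 301, -32, -246, 217, -22, -102, -118, 63, 1, -43, 0, 0, 12] [(false, 108), (false, 66), (false, 100), (false, 66), (false, 80)]]

/-- Chunk 12 of the facts. -/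
def items12 : List Item := [
  .conv 2 [2, 1, 1, 5, 2, 8, 5, 1, 1, 7, 7, 8, 7, 1, 0] 4 [1, 0, 7, 6, 7, 8, 6, 2, 3, 0, 2, 3, 0, 7, 7] [2523, -5160, 521, 4243, -3658, 406, 1676, 2138, -1079, -13, 732, 2, 1, -208] 274 [6, 4, 9, 15, 1] 383,
  .prod 2 [7, 6, 6, 2, 2, 3, 5, 6, 6, 7, 0, 7, 1, 0, 6, 5] [-145, 304, -30, -245, 215, -26, -105, -120, 63, 1, -43, 0, 0, 15] [(false, 80), (false, 108), (false, 100), (false, 100)],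
  .conv 2 [3, 2, 1] 2 [2, 1, 2, 1, 8, 7, 6, 5, 1, 2, 2, 3, 6, 7, 0, 7] [-551, 1151, -124, -949, 836, -85, -401, -461, 242, 3, -164, -1, 0, 43] 138 [5, 6, 4, 11, 11, 5] 385,
  .prod 2 [2, 2, 3, 7, 5, 1, 5, 6, 7, 6, 5, 7, 8, 2, 2] [-331, 689, -71, -562, 492, -54, -233, -275, 144, 2, -98, 0, 0, 29] [(false, 100), (false, 108), (false, 66), (false, 108), (false, 100)],
  .conv 2 [2, 0, 7, 5, 7, 3, 6, 0, 1, 0, 2, 1] 2 [3, 6, 2, 8, 6, 7, 6, 5, 1, 3, 0, 7, 1, 5, 2, 5] [-738, 1537, -165, -1269, 1114, -114, -528, -616, 323, 4, -219, -1, 0, 57] 138 [5, 5, 0, 9, 5, 3] 387,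
  .prod 2 [3, 2, 2, 5, 7, 8, 5, 2, 3, 7, 0, 7, 1, 2, 3] [-127, 260, -26, -211, 183, -22, -85, -106, 54, 1, -37, 0, 0, 12] [(false, 80), (false, 100), (false, 66), (false, 80), (false, 108)],
  .conv 2 [5, 6, 7, 5, 1, 2, 3, 2, 1] 2 [1, 1, 8, 7, 8, 6, 5, 7, 1, 8, 7, 7, 5, 6, 6] [-618, 1287, -131, -1057, 920, -103, -436, -527, 266, 4, -181, -1, 0, 52] 126 [7, 9, 14, 8] 389,
  .prod 2 [7, 3, 7, 5, 7, 5, 7, 3, 6, 6, 2, 6, 6, 0, 2] [-331, 689, -71, -562, 492, -54, -233, -275, 144, 2, -98, 0, 0, 29] [(false, 100), (false, 100), (false, 108), (false, 66), (false, 108)],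
  .conv 2 [7, 0, 6, 2, 6, 0, 1, 1, 3, 0, 2, 1] 2 [1, 5, 7, 0, 7, 8, 7, 6, 5, 3, 7, 6, 7, 7] [-1355, 2787, -284, -2290, 1983, -229, -914, -1160, 581, 9, -396, -1, -1, 112] 152 [3, 9, 7, 14, 12] 391,
  .conv 2 [2, 1, 7, 5, 2, 1, 7, 5, 2, 3, 2, 1] 2 [3, 1, 2, 5, 7, 7, 6, 3, 2, 2, 3, 2, 8, 2, 2] [-790, 1631, -164, -1340, 1158, -132, -541, -676, 338, 5, -230, -1, 0, 66] 126 [4, 14, 9, 13, 10] 222,
  .conv 2 [3, 2] 2 [1, 0, 7, 0, 1, 5, 7, 3, 7, 0, 2, 8, 7, 5, 1] [238, -466, 51, 389, -332, 35, 127, 206, -100, -1, 68, 0, 1, -13] 145 [6, 1, 7, 2, 1] 287,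
  .prod 2 [1, 2, 5, 1, 8, 7, 6, 7, 3, 7, 1, 2, 3, 0] [-160, 345, -37, -279, 253, -24, -128, -125, 72, 1, -49, 0, 0, 15] [(false, 100), (false, 66), (false, 108), (false, 66), (false, 100), (false, 100)],
  .conv 2 [2, 0, 7, 5, 7, 3, 6, 0, 1, 0, 2] 2 [5, 7, 1, 2, 1, 8, 2, 0, 3, 7, 6, 6, 0, 7] [663, -1370, 137, 1130, -973, 113, 453, 575, -283, -4, 193, 1, 0, -53] 149 [0, 5, 0, 6, 1, 2] 395,
  .prod 2 [7, 6, 2, 1, 0, 2, 5, 3, 7, 6, 7, 5, 2, 3, 7] [-315, 647, -65, -528, 456, -54, -211, -267, 135, 2, -92, 0, 0, 28] [(false, 80), (false, 108), (false, 108), (false, 100)],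
  .conv 2 [5, 6, 7, 5, 1, 2, 3, 2] 2 [2, 2, 5, 8, 7, 7, 1, 2, 3, 2, 6, 5, 3, 7, 6] [48, -77, 12, 71, -62, 2, 6, 42, -19, 0, 13, 0, 1, 2] 145 [2, 5, 4, 9, 6] 397,
  .prod 2 [5, 1, 7, 0, 7, 3, 2, 2, 0, 6, 5] [42, -85, 8, 71, -58, 8, 25, 40, -18, 0, 12, 0, 0, -3] [(false, 80), (false, 66), (false, 80), (false, 66), (false, 100)],
  .conv 2 [7, 0, 6, 2, 6, 0, 1, 1, 3, 0, 2] 2 [8, 2, 5, 7, 8, 5, 6, 2, 3, 2, 3, 7, 5, 5, 6] [867, -1800, 183, 1480, -1284, 146, 607, 741, -373, -5, 254, 1, 0, -71] 149 [6, 5, 15, 1, 14, 13] 399,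
  .conv 2 [2, 1, 7, 5, 2, 1, 7, 5, 2, 3, 2] 2 [6, 7, 0, 7, 7, 1, 2, 3, 7, 5, 2, 5, 6, 7, 1] [1043, -2175, 232, 1796, -1578, 162, 761, 874, -454, -5, 308, 2, 0, -83] 349 [5, 3, 14, 9, 7, 14] 399,
  .prod 2 [7, 5, 2, 1, 0, 7, 5, 3, 7, 6, 2, 6, 2, 5, 3] [4, -1, -2, 1, 6, 4, -7, 10, 0, 0, 0, 0, 0, -1] [(false, 66), (false, 100), (false, 66)],
  .conv 2 [8, 0, 7, 8, 5, 7, 6, 7, 3, 7, 7, 1, 0, 2, 1] 2 [7, 0, 6, 2, 8, 7, 1, 2, 2, 0, 3, 2, 3, 0] [1932, -4026, 414, 3311, -2890, 314, 1373, 1636, -832, -12, 567, 3, 0, -158] 339 [0, 1, 11, 11] 402,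
  .conv 2 [5, 7, 3, 6, 7, 0, 2, 8, 7, 0, 7, 6, 5, 2] 3 [5, 6, 0, 6, 6, 2, 5, 6, 7, 0] [22, -43, 4, 37, -26, 5, 7, 24, -9, 0, 6, 0, 0, -2] 54 [0, 10, 6, 7, 11, 6, 5] 357,
  .loopT 3 [0, 7, 1, 7, 3, 6, 7, 5, 1, 7, 8, 2, 1, 1, 2] 2 [0, 1, 0, 2, 1, 7, 8, 7, 1, 2, 3, 7, 7, 6, 8] [-1954, 4069, -418, -3348, 2916, -319, -1380, -1660, 841, 12, -572, -3, 0, 160] 7 [403, 404],
  .prod 3 [7, 6, 2, 3, 7, 6, 5, 2, 1, 2, 1, 7, 5, 2, 3] [4832, -9896, 976, 8096, -6976, 720, 3240, 3984, -2088, -16, 1408, 0, -8, -416] [(false, 188), (false, 188), (false, 188), (false, 188), (false, 188), (false, 188), (false, 188), (false, 188)],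
  .conv 3 [2, 0, 2, 3, 7, 8, 7, 0, 3, 6, 5, 1, 7, 7, 8] 2 [6, 2, 3, 7, 1, 5, 6, 2, 1, 2, 3, 6] [2878, -5827, 557, 4746, -4060, 400, 1860, 2324, -1247, -4, 836, -3, -8, -256] 405 [3, 6, 5, 2, 14, 3] 406,
  .prod 2 [0, 2, 1, 7, 3, 7, 5, 2, 6, 0, 3, 7, 6, 7] [42, -85, 8, 71, -58, 8, 25, 40, -18, 0, 12, 0, 0, -3] [(false, 66), (false, 100), (false, 80), (false, 66), (false, 80)],
  .conv 2 [1, 0, 1, 7, 5, 2, 3, 7, 7, 6, 7, 6, 0] 2 [1, 2, 1, 7, 7, 1, 7, 3, 7, 1, 3, 7, 3] [46, -91, 7, 72, -58, 5, 19, 40, -19, 0, 13, 0, 0, -4] 70 [1, 1, 6, 2, 7, 5] 408,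
  .loopT 2 [7, 1, 1, 7, 1, 7, 3, 0, 7, 1, 3, 7, 3] 3 [7, 3, 5, 7, 5, 7, 6, 0, 3, 2, 1, 2, 8, 7, 0] [-2924, 5918, -564, -4818, 4118, -405, -1879, -2364, 1266, 5, -849, 3, 8, 260] 4 [407, 409],
  .prod 2 [5, 7, 6, 7, 8, 2, 0, 1, 1, 5, 1, 7, 8] [-164, 343, -37, -281, 249, -24, -118, -133, 72, 1, -49, 0, 0, 13] [(false, 66), (false, 108), (false, 66), (false, 100)],
  .conv 2 [3, 2, 6, 0, 2, 1, 3, 7] 3 [2, 2, 0, 1, 5, 2, 8, 1, 7, 1, 5, 7, 8, 2, 1] [-3089, 6261, -601, -5099, 4367, -430, -1997, -2496, 1338, 6, -898, 3, 8, 273] 410 [3, 0, 15, 11, 5] 411,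
  .prod 2 [6, 7, 1, 5, 6, 7, 1, 2, 5] [-333, 685, -73, -564, 492, -50, -225, -277, 144, 2, -98, 0, 0, 25] [(false, 66), (false, 66), (false, 108), (false, 108), (false, 66)],
  .conv 2 [6, 7, 1, 5, 2, 5, 8, 7, 1, 1, 3, 2, 6, 2, 8] 2 [5, 7, 8, 2, 8, 7, 7, 1, 0, 7, 5, 1, 3, 7, 7] [-329, 681, -74, -562, 492, -53, -231, -275, 143, 2, -97, 0, 0, 24] 70 [2, 15, 11, 5, 6] 413,
  .prod 2 [6, 5, 1, 2, 3, 3, 6, 0, 7, 1] [40, -83, 10, 71, -62, 4, 27, 34, -18, 0, 12, 0, 0, -1] [(false, 100), (false, 80), (false, 80)]]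

/-- Chunk 13 of the facts. -/
def items13 : List Item := [
  .conv 2 [5, 8, 6, 7, 6, 0, 7, 8, 7, 5, 1, 1, 7] 2 [0, 6, 2, 5, 8, 7, 8, 7, 1, 1, 0, 3, 2, 8, 2] [45, -86, 10, 72, -62, -1, 21, 35, -19, 0, 13, 0, 0, -2] 70 [5, 5, 6, 5, 8, 9] 415,
  .conv 2 [8, 0, 2, 5, 1, 8, 7, 3, 2, 1, 8, 7, 0, 6, 5] 2 [8, 5, 7, 6, 7, 1, 5, 8, 7, 1, 2, 1, 0, 7, 1] [5, -5, 0, 1, 0, -1, -4, 2, -1, 0, 1, 0, 0, -1] 70 [13, 1, 14, 8, 15] 62,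
  .prod 2 [0, 7, 6, 2, 1, 0, 6, 2, 1] [-313, 645, -67, -528, 460, -50, -213, -261, 135, 2, -92, 0, 0, 26] [(false, 66), (false, 80), (false, 108), (false, 100), (false, 66), (false, 108)],
  .conv 2 [0, 2, 8, 7, 7, 8, 1, 0, 6, 2, 3, 7, 1, 0] 2 [7, 3, 7, 8, 7, 7, 5, 1, 3, 2, 1, 2, 1, 0] [-310, 642, -68, -527, 460, -52, -218, -259, 134, 2, -91, 0, 0, 25] 70 [0, 6, 15, 14, 9, 2] 418,
  .prod 2 [5, 2, 8, 6, 7, 1, 5, 2, 6, 7, 0, 8, 7, 1] [-313, 648, -65, -527, 458, -54, -216, -263, 135, 2, -92, 0, 0, 29] [(false, 100), (false, 80), (false, 100), (false, 108), (false, 108)],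
  .conv 2 [3, 2, 1, 0, 8, 2, 0] 2 [3, 6, 2, 1, 7, 8, 2, 0, 3, 7, 7, 1, 2, 3] [312, -677, 77, 559, -501, 50, 260, 258, -139, -2, 95, 1, 0, -25] 123 [5, 6, 5, 11, 15, 10, 6, 5] 420,
  .conv 2 [2, 3, 1, 1, 7, 8, 2, 2, 0, 1, 1, 0, 7, 0] 3 [] [0, 0, 0, 0, 0, 0, 0, 0, 0, 0, 0, 0, 0, 0] 54 [] 62,
  .prod 2 [5, 2, 3, 2, 0, 6, 7, 3, 7, 0, 1, 0, 7, 7, 1] [-164, 343, -37, -281, 249, -24, -118, -133, 72, 1, -49, 0, 0, 13] [(false, 100), (false, 108), (false, 66), (false, 66)],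
  .conv 2 [5, 6, 7, 5, 1, 2, 3, 2, 1, 0, 8, 2, 0] 2 [5, 7, 7, 6, 2, 8, 7, 0, 7, 1, 7, 3, 7, 5, 1] [460, -983, 103, 804, -710, 83, 359, 388, -202, -3, 138, 1, 0, -41] 123 [1, 0, 2, 6, 15] 423,
  .prod 2 [3, 6, 7, 8, 7, 5, 2, 3, 7, 0, 1, 2, 5, 7] [-127, 260, -26, -211, 183, -22, -85, -106, 54, 1, -37, 0, 0, 12] [(false, 100), (false, 66), (false, 80), (false, 108), (false, 80)],
  .conv 2 [0, 1, 0, 7, 8, 6, 6, 5, 6, 7, 1, 3, 0, 7, 5] 3 [1, 0, 6, 6, 7, 6, 0, 1, 7, 5] [-127, 261, -27, -211, 183, -22, -84, -104, 54, 1, -37, 0, 0, 12] 54 [15, 9, 14, 15, 2] 425,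
  .prod 2 [2, 8, 7, 0, 6, 5, 7, 1, 0, 1, 3, 7, 0, 7, 5] [-125, 261, -26, -210, 185, -22, -90, -102, 54, 1, -37, 0, 0, 13] [(false, 100), (false, 108), (false, 100), (false, 66), (false, 80), (false, 80)],
  .conv 2 [6, 6, 7, 8, 5, 2, 3, 0, 7, 5, 2, 8, 2] 3 [6, 7, 5, 6, 6, 2, 2, 6] [-126, 261, -26, -210, 185, -23, -91, -103, 54, 1, -37, 0, 0, 13] 54 [0, 5, 6, 11, 7, 3] 427,
  .loopT 3 [6, 7, 5, 6, 6, 2, 2, 6] 2 [6, 6, 7, 7, 5, 8, 2, 3, 0, 7, 5, 2, 8, 2] [126, -261, 26, 210, -185, 23, 91, 103, -53, -1, 37, 0, 0, -13] 0 [428],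
  .prod 3 [6, 5, 1, 1, 7, 8, 7, 5, 3, 7, 8, 2, 6, 6, 0, 1] [-3102, 5625, -517, -4784, 3786, -255, -1139, -2648, 1224, 13, -829, 2, 10, 142] [(false, 188), (false, 188), (false, 188), (false, 208), (false, 208), (false, 229), (false, 208), (false, 188)],
  .conv 3 [1, 2, 3, 6, 7, 7, 6, 7, 3, 7, 6, 2, 2, 1, 0] 2 [7, 0, 7, 1, 7, 8, 5, 1, 2, 5, 6, 2, 3, 6, 5] [-2977, 5365, -491, -4573, 3601, -232, -1048, -2546, 1171, 12, -792, 2, 10, 129] 429 [0, 9, 6, 11, 7, 14] 430,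
  .prod 2 [5, 5, 7, 6, 7, 5, 7, 6, 3, 2, 0, 1, 5, 2, 3, 7] [-129, 259, -26, -212, 181, -22, -80, -110, 54, 1, -37, 0, 0, 11] [(false, 108), (false, 80), (false, 80), (false, 66)],
  .conv 2 [8, 6, 7, 1, 0, 7, 8, 2, 2, 6, 2, 0, 7, 0] 2 [0, 7, 5, 2, 2, 3, 7, 1, 1, 2, 3, 7, 0, 7, 8] [496, -1066, 113, 873, -778, 85, 398, 411, -220, -3, 150, 1, 0, -43] 123 [2, 9, 15, 2, 1] 432,
  .loopT 2 [2, 6, 6, 7, 8, 5, 2, 6, 6, 7, 7, 0, 7, 8] 3 [6, 2, 6, 6, 2, 5, 5, 3, 7, 1, 7, 3, 6, 2, 1] [2481, -4299, 378, 3700, -2823, 147, 650, 2135, -951, -8, 642, -3, -10, -86] 3 [431, 433],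
  .prod 2 [8, 2, 5, 6, 7, 0, 7, 6, 0, 3, 7, 6, 7, 5, 1] [24, -44, 2, 36, -24, 8, 8, 28, -9, 0, 6, 0, 0, -3] [(false, 66), (false, 66), (false, 100), (false, 80), (false, 66)],
  .conv 2 [1, 2, 6, 0, 1, 5, 3, 6, 2, 8, 2, 6, 0, 1] 3 [2, 0, 1, 1, 0, 7, 8, 5, 2, 1, 2, 6, 8, 2, 1] [2506, -4343, 380, 3736, -2846, 154, 658, 2163, -960, -8, 648, -3, -10, -89] 434 [8, 12, 5] 435,
  .prod 2 [0, 7, 6, 7, 5, 2, 5, 7, 3, 7, 5, 7, 1, 0, 1] [-314, 646, -66, -528, 458, -52, -212, -264, 135, 2, -92, 0, 0, 27] [(false, 108), (false, 108), (false, 66), (false, 100), (false, 80)],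
  .conv 2 [1, 2, 6, 6, 0, 6, 7, 3, 7, 0, 7, 1, 0, 8] 2 [2, 6, 2, 3, 7, 6, 8, 2, 0, 2, 1, 5, 1] [-311, 640, -68, -525, 453, -60, -213, -264, 134, 2, -91, 0, 0, 26] 114 [5, 15, 1, 6, 3, 7] 437,
  .prod 2 [3, 1, 5, 7, 8, 7, 6, 7, 3, 2, 6, 8, 7, 1, 2] [-484, 989, -101, -811, 699, -80, -318, -411, 207, 3, -141, 0, 0, 40] [(false, 66), (false, 80), (false, 108), (false, 108), (false, 108)],
  .conv 2 [8, 2, 2, 1, 7, 8, 7, 7, 0, 7, 5, 7, 6, 6] 2 [1, 2, 2, 6, 7, 8, 5, 7, 5, 6, 7, 1, 1, 7, 3] [143, -336, 40, 274, -259, 27, 161, 110, -67, -1, 46, 1, 0, -14] 123 [12, 14, 8, 15, 8] 439,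
  .prod 2 [2, 3, 6, 2, 5, 7, 3, 6, 7, 1, 2, 8, 7, 6] [6, 0, -2, 2, 8, 4, -12, 14, 0, 0, 0, 0, 0, 0] [(false, 100), (false, 66), (false, 100), (false, 66)],
  .conv 2 [8, 2, 6, 2, 2, 8, 7, 5, 2, 0, 1, 0, 2, 5, 3] 2 [8, 5, 1, 7, 5, 7, 6, 7, 8, 7, 5, 2, 1, 7, 1] [268, -544, 55, 447, -381, 58, 174, 236, -112, -3, 78, 0, 0, -23] 173 [3, 7, 11, 5, 6, 9, 13] 441,
  .loopT 2 [2, 0, 2, 3, 5, 7, 8, 1, 7, 1, 1, 2, 5, 1, 2] 2 [3, 7, 6, 6, 0, 6, 2, 3, 2, 0, 2, 1, 0, 3] [-100, 240, -27, -196, 187, -25, -122, -82, 47, 2, -33, -1, 0, 12] 17 [438, 440, 442],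
  .prod 2 [5, 1, 5, 2, 8, 7, 7, 1, 5, 7, 1, 0, 1, 7] [22, -42, 4, 36, -28, 4, 10, 22, -9, 0, 6, 0, 0, -1] [(false, 66), (false, 80), (false, 100)],
  .conv 2 [3, 7] 2 [7, 3, 5, 7, 8, 7, 6, 2, 3, 2, 8, 7, 1, 2, 1] [-78, 198, -23, -160, 159, -20, -112, -61, 38, 2, -27, -1, 0, 11] 443 [5, 6, 7, 2, 13, 14, 10, 13] 444,
  .prod 2 [2, 6, 6, 7, 7, 8, 1, 7, 5, 6, 7, 3, 6, 6] [-332, 690, -70, -562, 490, -56, -232, -278, 144, 2, -98, 0, 0, 30] [(false, 108), (false, 100), (false, 100), (false, 108)],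
  .conv 2 [2, 0, 7, 5, 7, 3, 6, 0, 1, 0, 7] 2 [2, 6, 7, 6, 5, 6, 6, 0, 6, 2, 5, 3, 7] [815, -1688, 170, 1387, -1203, 138, 570, 690, -349, -5, 238, 1, 0, -68] 166 [13, 9, 6, 13, 11] 446]

/-- Chunk 14 of the facts. -/
def items14 : List Item := [
  .prod 3 [2, 8, 7, 0, 6, 7, 6, 0, 3, 7, 5, 6, 7, 6, 7] [-9176, 17182, -1614, -14464, 11722, -904, -4072, -7762, 3708, 36, -2508, 4, 26, 510] [(false, 188), (false, 208), (false, 188), (false, 208), (false, 229), (false, 208), (false, 229), (false, 208)],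
  .conv 3 [7, 3, 5, 2, 6, 7, 6, 0, 1, 2, 3, 7, 0, 1, 8] 2 [2, 1, 5, 7, 1, 5, 6, 3, 7, 0, 6, 0, 1, 7, 1] [-8624, 16049, -1499, -13535, 10913, -826, -3700, -7309, 3472, 33, -2347, 5, 26, 465] 239 [2, 6, 3, 15, 3, 13, 14] 448,
  .loopT 2 [5, 6, 2, 0, 6, 7, 6, 3, 7, 0, 6, 0, 1, 7, 1] 3 [7, 3, 5, 2, 6, 7, 6, 0, 1, 2, 3, 7, 0, 1, 8] [8624, -16049, 1499, 13535, -10913, 826, 3700, 7309, -3471, -33, 2347, -5, -26, -465] 1 [449],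
  .prod 2 [8, 2, 1, 2, 8, 5, 7, 5, 7, 5, 6, 6, 2, 8, 2, 1] [-146, 302, -31, -246, 215, -24, -101, -121, 63, 1, -43, 0, 0, 13] [(false, 108), (false, 66), (false, 80), (false, 100)],
  .conv 2 [5, 6, 7, 5, 1, 2, 3, 7] 3 [6, 2, 3, 7, 1, 0, 1, 2, 3, 7, 1, 7, 1, 8, 7] [8478, -15747, 1468, 13289, -10698, 803, 3599, 7188, -3408, -32, 2304, -5, -26, -452] 450 [7, 3, 13, 11, 15] 451,
  .prod 2 [2, 1, 1, 5, 8, 7, 5, 2, 1, 1, 3, 2, 1, 1, 7] [-143, 302, -32, -245, 219, -22, -107, -114, 63, 1, -43, 0, 0, 13] [(false, 100), (false, 66), (false, 108), (false, 66), (false, 100), (false, 80)],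
  .conv 2 [7, 0, 6, 2, 6, 0, 1, 1, 3, 0, 7] 2 [0, 1, 2, 1, 7, 5, 7, 6, 7, 3, 7] [1004, -2078, 206, 1703, -1474, 170, 695, 855, -430, -6, 293, 1, 0, -85] 166 [1, 2, 6, 2, 15] 453,
  .prod 2 [7, 1, 2, 2, 1, 2, 0, 3, 7, 0, 6, 6] [25, -42, 3, 37, -24, 6, 4, 29, -9, 0, 6, 0, 0, -1] [(false, 100), (false, 66), (false, 80), (false, 66), (false, 100)],
  .conv 2 [2, 1, 7, 5, 2, 1, 7, 5, 2, 3, 7] 3 [3, 2, 1, 5, 7, 8, 2, 1, 7, 1, 5, 1, 7] [8649, -16090, 1502, 13572, -10938, 831, 3703, 7339, -3480, -33, 2353, -5, -26, -466] 450 [6, 4, 15, 9, 5] 455,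
  .prod 2 [7, 8, 7, 1, 8, 7, 7, 3, 0, 1, 2, 1, 1, 3] [-503, 1031, -106, -846, 731, -82, -334, -426, 216, 3, -147, 0, 0, 41] [(false, 108), (false, 108), (false, 66), (false, 108)],
  .conv 2 [3, 2, 1, 0, 3, 6, 2, 0] 2 [5, 1, 2, 3, 7, 8, 5, 6, 2, 6, 7, 6, 7, 0, 8] [925, -1951, 216, 1622, -1441, 135, 696, 764, -409, -5, 278, 3, 0, -66] 284 [2, 7, 1, 6, 11, 7] 457,
  .prod 2 [0, 1, 5, 6, 2, 6, 7, 5, 7, 8, 2, 0, 6, 7, 0, 2] [43, -86, 7, 71, -56, 10, 24, 43, -18, 0, 12, 0, 0, -4] [(false, 66), (false, 80), (false, 80), (false, 66), (false, 66), (false, 100)],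
  .conv 2 [5, 2, 8, 5, 6, 7, 0, 1, 7, 0, 2, 8, 7, 1, 2] 2 [7, 3, 5, 2, 6, 6, 7, 0, 2, 1, 3, 2, 5, 7, 1] [555, -1116, 112, 923, -788, 85, 342, 476, -235, -3, 160, 0, 0, -42] 131 [8, 3, 6, 10] 459,
  .prod 2 [6, 2, 8, 6, 6, 7, 6, 3, 0, 7, 3, 0, 7, 1, 5] [-314, 646, -66, -528, 458, -52, -212, -264, 135, 2, -92, 0, 0, 27] [(false, 100), (false, 80), (false, 108), (false, 108), (false, 66)],
  .conv 2 [1, 7, 7, 0, 2, 5, 6, 7, 3, 7, 5, 6, 2, 0] 2 [2, 3, 2, 5, 1, 7, 6, 7, 8, 7, 5, 7, 5, 2, 2] [49, -79, 12, 72, -59, 5, 5, 44, -19, 0, 13, 0, 1, 1] 145 [7, 1, 6, 9, 11] 461,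
  .prod 2 [8, 2, 6, 5, 7, 1, 7, 5, 1, 1, 3, 2, 1, 1] [-144, 303, -31, -245, 217, -24, -106, -117, 63, 1, -43, 0, 0, 14] [(false, 100), (false, 66), (false, 80), (false, 108), (false, 100)],
  .conv 2 [1, 2, 2, 6, 2, 3, 5, 1, 7, 6, 2, 0, 7, 7, 6] 3 [6, 0, 0, 2, 0, 7, 0, 1, 7] [-144, 302, -30, -244, 217, -28, -106, -117, 63, 1, -43, 0, 0, 14] 54 [1, 5, 5, 11, 10, 5, 5] 463,
  .loopT 3 [7, 1, 5, 8, 6, 7, 5, 3, 7, 0, 2, 0, 2] 2 [8, 6, 7, 5, 6, 7, 3, 2, 6, 7, 7, 3, 7, 3] [-460, 893, -94, -751, 630, -62, -241, -403, 193, 2, -130, 0, 0, 27] 12 [460, 462, 464],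
  .prod 3 [0, 6, 6, 2, 8, 5, 1, 2, 0, 3, 6, 6, 2] [-13994, 26012, -2437, -21956, 17704, -1317, -5964, -11856, 5625, 55, -3805, 6, 41, 740] [(false, 208), (false, 208), (false, 229), (false, 188), (false, 229), (false, 208), (false, 229)],
  .conv 3 [5, 6, 7, 8, 5, 7, 1, 0, 2, 0, 3, 6, 7, 5] 2 [3, 6, 2, 5, 6, 6, 7, 3, 7, 6, 6, 2, 6, 0, 1] [-14456, 26905, -2531, -22708, 18334, -1380, -6206, -12260, 5818, 57, -3935, 6, 41, 767] 465 [0, 5, 6, 7, 0, 3] 466,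
  .prod 2 [1, 7, 8, 0, 7, 6, 3, 2, 5, 7, 3, 2, 0, 7] [5, -2, -3, 1, 8, 6, -8, 13, 0, 0, 0, 0, 0, -2] [(false, 66), (false, 100), (false, 66), (false, 66)],
  .conv 2 [0, 2, 6, 7, 1, 7, 8, 2, 6, 2, 2, 3, 2, 1, 5] 2 [6, 7, 6, 7, 8, 5, 6, 2, 6, 7, 6, 5, 2, 1, 8] [1935, -4026, 413, 3309, -2888, 315, 1372, 1638, -832, -12, 567, 3, 0, -159] 339 [2, 8, 7, 5, 10] 468,
  .loopT 2 [5, 2, 2, 3, 7, 5, 6, 5, 7, 5, 7, 3, 6, 5, 2, 5] 3 [5, 6, 2, 2, 1, 2, 3, 2, 0, 8, 2, 5, 2] [12521, -22879, 2118, 19399, -15446, 1065, 4834, 10622, -4986, -44, 3368, -9, -41, -608] 3 [467, 469],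
  .prod 2 [2, 3, 1, 7, 8, 5, 2, 0, 2, 6, 2, 3, 2, 0] [-144, 300, -33, -246, 219, -20, -103, -115, 63, 1, -43, 0, 0, 11] [(false, 100), (false, 66), (false, 66), (false, 108), (false, 66), (false, 80)],
  .conv 2 [0, 1, 7, 8, 7, 6, 7, 0, 7, 3, 2, 1, 2, 0, 1] 3 [5, 2, 2, 3, 7, 6, 2, 5, 1, 7, 8, 7, 1, 2] [12376, -22579, 2086, 19154, -15227, 1045, 4731, 10506, -4923, -43, 3325, -9, -41, -597] 470 [0, 6, 10, 7, 14, 11] 471,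
  .conv 2 [6, 2, 1, 1, 7, 8, 2, 3, 7, 3, 6, 7, 3, 2] 2 [1, 2, 2, 0, 6, 2, 8, 5, 7, 0, 2, 6, 8, 2, 2] [1633, -3419, 356, 2815, -2472, 258, 1184, 1372, -706, -10, 481, 3, 0, -130] 339 [5, 7, 9, 6, 1, 7, 13] 157,
  .prod 2 [2, 1, 1, 7, 6, 5, 3, 2, 0, 7, 3, 6, 7, 6] [-110, 217, -21, -177, 149, -20, -64, -95, 45, 1, -31, 0, 0, 10] [(false, 66), (false, 80), (false, 108), (false, 80), (false, 80)],
  .conv 2 [2, 5, 7, 5, 8, 7, 5, 7, 3, 7, 0, 2, 0, 2, 6] 2 [7, 3, 7, 5, 1, 7, 1, 0, 7, 7, 8] [1820, -3807, 395, 3131, -2748, 288, 1315, 1530, -787, -11, 536, 3, 0, -147] 339 [5, 5, 7, 4, 6, 8] 474,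
  .prod 2 [1, 2, 6, 5, 8, 6, 7, 6, 2, 0, 7, 8, 2, 6] [-315, 644, -67, -529, 458, -50, -208, -265, 135, 2, -92, 0, 0, 25] [(false, 66), (false, 108), (false, 66), (false, 108), (false, 80)],
  .conv 2 [7, 0, 6, 2, 8, 5, 6, 2, 1, 0, 3, 6, 2, 1, 0] 3 [7, 0, 2, 0, 6, 0, 7, 3, 7, 3, 2, 6, 2, 2, 0] [12205, -22234, 2051, 18869, -14988, 1013, 4626, 10356, -4851, -42, 3276, -9, -41, -583] 470 [0, 5, 6, 9, 5, 7, 3, 14] 476,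
  .prod 3 [0, 6, 2, 8, 5, 1, 5, 7, 0, 3, 2, 2, 8] [-7872, 14202, -1310, -12112, 9558, -612, -2800, -6718, 3096, 32, -2096, 4, 26, 338] [(false, 229), (false, 188), (false, 188), (false, 229)],
  .conv 3 [1, 8, 2, 0, 6, 7, 5, 7, 8, 2, 1, 1, 2, 5, 1] 2 [2, 6, 2, 3, 7, 6, 0, 6, 6, 7, 7, 1, 3, 2, 3] [-7799, 14017, -1295, -11975, 9430, -595, -2709, -6663, 3061, 31, -2071, 4, 25, 321] 213 [5, 6, 5, 15, 1, 6, 10, 5] 478]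

/-- Chunk 15 of the facts. -/
def items15 : List Item := [
  .prod 2 [2, 2, 6, 7, 8, 0, 7, 0, 2, 1, 2, 3, 2, 0, 7] [42, -85, 8, 71, -58, 8, 25, 40, -18, 0, 12, 0, 0, -3] [(false, 100), (false, 66), (false, 66), (false, 80), (false, 80)],
  .conv 2 [6, 7, 5, 8, 7, 6, 5, 1, 7, 0, 3, 2, 1, 5, 7] 2 [7, 0, 1, 7, 5, 2, 6, 5, 8, 2, 5, 2, 1, 1, 0, 6] [-74, 158, -16, -129, 111, -25, -58, -67, 32, 2, -23, 0, 0, 9] 176 [6, 4, 8, 15, 3] 480,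
  .prod 2 [3, 5, 7, 1, 7, 6, 6, 3, 7, 0, 2, 1, 2, 0, 6] [-127, 260, -26, -211, 183, -22, -85, -106, 54, 1, -37, 0, 0, 12] [(false, 108), (false, 80), (false, 80), (false, 66), (false, 100)],
  .conv 2 [3, 6, 7, 1, 5, 2, 1, 3, 7, 5, 2, 2, 8] 2 [2, 2, 6, 6, 7, 1, 8, 5, 2, 1, 2, 8, 2, 1, 1, 2] [873, -1831, 198, 1514, -1336, 133, 649, 730, -382, -4, 259, 2, 0, -68] 349 [0, 5, 12, 15, 3, 13] 482,
  .loopT 2 [2, 6, 6, 7, 1, 2, 3, 2, 0, 6, 6, 5, 2, 6, 0] 3 [1, 1, 7, 3, 7, 5, 1, 1, 3, 7, 1, 5, 3, 7] [7000, -12344, 1113, 10590, -8205, 487, 2118, 6000, -2709, -29, 1835, -6, -25, -261] 18 [479, 481, 483],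
  .conv 2 [3, 2, 6, 7, 1, 1, 8] 3 [2, 2, 6, 5, 1, 7, 8, 2, 2, 0, 6, 7, 5, 7] [7023, -12384, 1116, 10627, -8234, 489, 2124, 6025, -2718, -29, 1841, -6, -25, -260] 484 [4, 15, 2, 2, 15] 256,
  .prod 2 [7, 3, 2, 8, 6, 7, 1, 5, 7, 3, 7, 7, 3, 6, 2, 2] [25, -42, 3, 37, -24, 6, 4, 29, -9, 0, 6, 0, 0, -1] [(false, 66), (false, 100), (false, 66), (false, 80), (false, 100)],
  .conv 2 [2, 0, 7, 5, 7, 8, 6, 2, 2, 6, 5, 6, 7, 5, 3] 2 [6, 2, 6, 3, 0, 2, 3, 6, 5, 1, 7] [-604, 1325, -143, -1088, 984, -80, -512, -483, 269, 3, -182, -2, 1, 50] 342 [7, 13, 1, 6, 13, 3, 15] 486,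
  .prod 2 [3, 5, 7, 1, 2, 1, 1, 7, 3, 2, 6, 0] [41, -84, 9, 71, -60, 6, 26, 37, -18, 0, 12, 0, 0, -2] [(false, 80), (false, 100), (false, 66), (false, 80)],
  .conv 2 [5, 6, 7, 5, 1, 2, 3, 2, 6, 7, 1, 1, 8] 2 [1, 2, 1, 0, 2, 8, 5, 7, 5, 7, 3, 2, 0, 7, 3] [-588, 1283, -136, -1053, 948, -83, -491, -475, 260, 3, -176, -2, 1, 49] 342 [15, 10, 6, 5, 7, 1, 6] 488,
  .prod 2 [6, 0, 7, 5, 6, 7, 8, 7, 1, 0, 1, 2, 1, 5, 6] [-130, 260, -25, -212, 179, -24, -79, -113, 54, 1, -37, 0, 0, 12] [(false, 108), (false, 80), (false, 80)],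
  .conv 2 [7, 0, 6, 2, 6, 0, 1, 5, 3, 2, 6, 0, 6, 2, 3, 0] 3 [6, 6, 0, 1, 7, 3, 2, 5, 6, 6, 2, 6, 2, 2] [6869, -12085, 1089, 10378, -8026, 463, 2038, 5887, -2655, -28, 1798, -6, -25, -249] 484 [0, 5, 6, 13, 1, 10] 490,
  .prod 2 [0, 1, 0, 7, 3, 6, 0, 1, 7, 0, 6, 0] [-144, 303, -31, -245, 217, -24, -106, -117, 63, 1, -43, 0, 0, 14] [(false, 100), (false, 80), (false, 100), (false, 66), (false, 108)],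
  .conv 2 [3, 5, 7, 8, 7, 1, 5, 2, 3, 6, 5, 2, 2, 1, 1] 2 [1, 1, 0, 6, 2, 8, 5, 7, 1, 0, 2, 0, 1, 8, 2] [-773, 1670, -178, -1369, 1225, -112, -621, -630, 341, 4, -231, -2, 1, 65] 342 [5, 6, 13, 1, 7, 2, 14] 492,
  .conv 3 [] 2 [2, 2, 0, 1, 2, 0, 7, 1, 3, 2, 6, 6, 7, 6] [124, -260, 26, 210, -185, 22, 90, 104, -53, -1, 37, 0, 0, -13] 429 [0, 15, 9, 6, 0, 5] 182,
  .prod 3 [0, 1, 5, 2, 6, 7, 5, 6, 6, 5, 6] [-3706, 6862, -639, -5796, 4658, -345, -1544, -3146, 1485, 15, -1005, 2, 11, 194] [(false, 188), (false, 208), (false, 188), (false, 208), (false, 188), (false, 229), (false, 208)],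
  .conv 3 [2, 0, 7, 5, 7, 6, 5, 1, 5] 2 [2, 2, 1, 7, 8, 7, 5, 1, 5, 2, 8, 2, 6, 6, 0] [-3580, 6600, -614, -5587, 4473, -320, -1452, -3043, 1432, 14, -968, 2, 11, 181] 429 [1, 13, 14, 3, 2, 13] 495,
  .prod 2 [2, 5, 1, 1, 2, 5, 7, 1, 8, 2, 0, 6, 7, 0, 2] [-145, 301, -32, -246, 217, -22, -102, -118, 63, 1, -43, 0, 0, 12] [(false, 66), (false, 108), (false, 80), (false, 66), (false, 100)],
  .conv 2 [8, 2, 8, 7, 6, 6, 7, 0, 1, 7, 3, 7, 0, 1] 2 [8, 2, 0, 6, 7, 1, 8, 5, 2, 1, 7, 3, 6, 6, 2, 2] [218, -424, 47, 353, -299, 35, 114, 190, -91, -1, 62, 0, 1, -14] 145 [6, 12, 13, 10, 7, 6, 5] 497,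
  .prod 2 [5, 7, 5, 6, 6, 2, 8, 7, 5, 7, 3, 2, 3, 0, 6] [-296, 605, -60, -493, 424, -52, -195, -252, 126, 2, -86, 0, 0, 27] [(false, 80), (false, 80), (false, 108), (false, 108), (false, 100)],
  .conv 2 [2, 1, 1, 5, 6, 2, 2, 3, 2, 1, 5, 1, 2, 2, 6] 2 [1, 5, 6, 7, 1, 7, 5, 6, 3, 2, 6, 7, 5, 7, 1, 2] [-788, 1630, -164, -1339, 1162, -134, -546, -671, 338, 5, -230, -1, 0, 67] 126 [1, 15, 10, 5, 14, 12] 499,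
  .prod 2 [1, 7, 6, 6, 2, 5, 1, 8, 7, 1, 0, 7, 6, 7] [-126, 259, -27, -211, 185, -20, -86, -103, 54, 1, -37, 0, 0, 11] [(false, 66), (false, 108), (false, 100), (false, 66), (false, 80), (false, 80)],
  .conv 2 [0, 7, 8, 7, 6, 7, 7, 1, 2, 8, 2, 2, 1] 3 [7, 6, 2, 0, 2, 1, 5, 2, 0, 1] [-126, 258, -25, -211, 185, -19, -85, -102, 54, 1, -37, 0, 0, 11] 54 [10, 10, 13, 14, 1, 15] 501,
  .loopT 3 [8, 2, 6, 6, 5, 2, 6, 6, 2, 6] 2 [6, 5, 7, 5, 7, 8, 7, 3, 0, 1, 1, 7, 7, 6, 7] [696, -1464, 142, 1197, -1048, 118, 517, 583, -299, -5, 205, 1, -1, -63] 18 [498, 500, 502],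
  .prod 3 [6, 7, 6, 6, 2, 6, 5, 3, 6, 5, 1, 7, 1, 7, 3] [-8198, 14947, -1386, -12700, 10099, -685, -3118, -6979, 3249, 33, -2199, 4, 26, 381] [(false, 188), (false, 229), (false, 188), (false, 208), (false, 229)],
  .conv 3 [5, 6, 7, 5, 1, 2] 2 [1, 8, 7, 5, 8, 7, 6, 7, 8, 7, 5, 6, 6, 7, 7] [-7502, 13483, -1243, -11502, 9051, -569, -2601, -6396, 2950, 28, -1994, 5, 25, 318] 503 [5, 7, 6, 5, 11, 15, 10, 14] 504,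
  .prod 3 [7, 8, 5, 6, 7, 6, 5, 6, 6, 2, 6, 7, 7, 3, 2] [-8850, 16437, -1538, -13876, 11181, -831, -3754, -7501, 3555, 35, -2405, 4, 26, 467] [(false, 208), (false, 188), (false, 208), (false, 229), (false, 188), (false, 229), (false, 208)],
  .conv 3 [0, 2, 6, 2, 0, 7, 8, 1, 5, 6, 6, 7, 1, 0, 7] 2 [7, 7, 3, 7, 6, 6, 0, 6, 2, 6, 5, 3, 6, 7, 5] [-9311, 17330, -1633, -14628, 11811, -892, -3994, -7904, 3748, 37, -2535, 4, 26, 494] 465 [2, 0, 13, 3, 14] 506,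
  .prod 2 [7, 1, 2, 2, 1, 0, 6, 6] [-128, 258, -27, -212, 183, -20, -81, -107, 54, 1, -37, 0, 0, 10] [(false, 80), (false, 108), (false, 66), (false, 80), (false, 66)],
  .conv 2 [3, 2, 8, 6, 7, 6, 0, 6, 2, 3, 2, 6, 2, 0, 1] 2 [6, 5, 8, 7, 5, 3, 6, 5, 6, 2, 3, 7, 6] [-533, 1104, -122, -918, 804, -77, -377, -448, 233, 3, -158, -1, 0, 38] 138 [2, 8, 6, 1, 4] 508,
  .prod 2 [2, 5, 8, 2, 1, 7, 6, 5, 3, 6, 6, 2, 5, 6, 2, 8] [26, -43, 2, 37, -22, 8, 3, 32, -9, 0, 6, 0, 0, -2] [(false, 66), (false, 100), (false, 100), (false, 66), (false, 66), (false, 80)],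
  .conv 2 [6, 6, 5, 2, 5, 3, 6, 5, 6, 7, 8, 7, 6] 3 [6, 7, 6, 7, 8, 5, 7, 6, 7, 0, 2, 3, 2] [3270, -5937, 534, 5025, -3964, 264, 1206, 2758, -1302, -8, 876, -4, -14, -163] 236 [0, 5, 7, 9, 6, 4] 510]

/-- Chunk 16 of the facts. -/
def items16 : List Item := [
  .loopT 3 [7, 3, 7, 7, 6, 7, 5, 1, 1, 7, 1, 8, 7, 5, 6] 3 [2, 2, 1, 2, 8, 5, 2, 5, 7, 6, 7, 0, 1, 1] [6574, -12497, 1221, 10521, -8651, 705, 3165, 5594, -2677, -32, 1817, 1, -12, -368] 17 [507, 509, 511],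
  .prod 3 [2, 1, 7, 7, 0, 6, 5, 2, 8, 7, 5, 1, 7, 0, 6] [-11530, 20811, -1919, -17744, 14006, -901, -4113, -9840, 4536, 47, -3071, 6, 38, 498] [(false, 188), (false, 229), (false, 188), (false, 188), (false, 229), (false, 208), (false, 188), (false, 229)],
  .conv 3 [7, 5, 6, 2, 2, 6, 5, 1, 1, 5] 3 [7, 8, 6, 7, 1, 7, 6, 2, 0, 3, 2, 5, 2, 5, 1] [-4957, 8315, -698, -7223, 5355, -195, -950, -4247, 1859, 15, -1254, 7, 26, 130] 512 [0, 5, 6, 7, 13, 9, 6, 13] 513,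
  .prod 3 [2, 6, 6, 2, 2, 8, 5, 7, 1, 5, 6, 6, 7, 8, 7] [-6712, 11981, -1096, -10252, 8024, -488, -2221, -5746, 2619, 28, -1774, 4, 23, 268] [(false, 188), (false, 229), (false, 188), (false, 188), (false, 208), (false, 188), (false, 229), (false, 208), (false, 188)],
  .conv 3 [2, 1, 7, 5, 2, 1, 7, 5, 2] 3 [2, 1, 7, 3, 7, 6, 5, 6, 7, 5, 7, 3, 6, 7, 7] [-140, -516, 125, 270, -627, 216, 944, -152, -58, -4, 43, 5, 11, -100] 512 [0, 0, 7, 11, 5, 15] 515,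
  .prod 3 [1, 7, 7, 8, 5, 7, 3, 2, 5, 1, 7, 1, 5] [-96, 506, -60, -328, 420, -112, -462, -48, 90, 0, -60, 0, -2, 68] [(false, 208), (false, 208), (false, 188), (false, 208), (false, 188), (false, 208)],
  .conv 3 [3, 2, 1, 0, 3, 6, 2, 3] 2 [7, 6, 7, 5, 7, 8, 5, 6, 5, 7, 1, 2, 3, 6, 0] [-22, 322, -46, -191, 292, -92, -371, 5, 55, -1, -35, 0, -3, 51] 213 [1, 6, 7, 8, 9, 6] 517,
  .prod 2 [3, 2, 1, 8, 7, 8, 5, 7, 7, 1, 7, 3, 2, 2, 3] [-484, 989, -101, -811, 699, -80, -318, -411, 207, 3, -141, 0, 0, 40] [(false, 80), (false, 108), (false, 66), (false, 108), (false, 108)],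
  .conv 2 [2, 6, 6, 5, 2, 8, 2, 0, 6, 7, 7, 1, 7] 2 [6, 0, 1, 2, 3, 5, 7, 0, 2, 0, 1, 7, 3, 7, 7] [-120, 263, -23, -212, 182, -23, -100, -101, 53, 1, -36, 0, 1, 14] 145 [1, 1, 15, 9, 8] 519,
  .prod 2 [1, 0, 6, 7, 6, 5, 6, 2, 3, 2, 1, 0, 2, 5, 1] [-111, 218, -20, -177, 147, -22, -63, -98, 45, 1, -31, 0, 0, 11] [(false, 80), (false, 80), (false, 108), (false, 80)],
  .conv 2 [7, 3, 7, 8, 6, 7, 7, 1, 8, 7, 1, 2, 0] 2 [2, 8, 7, 1, 7, 8, 7, 6, 2, 1, 3, 2, 3, 7, 5] [-604, 1245, -126, -1023, 884, -102, -415, -519, 257, 4, -175, -1, 0, 51] 126 [0, 7, 14, 2, 13, 9, 6] 521,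
  .conv 2 [5, 6, 7, 5, 2, 6, 3, 6, 2, 6, 7, 6, 0, 2] 4 [5, 7, 0, 2, 8, 6, 7, 5, 2, 1, 3, 7, 6, 6, 5, 1] [2353, -4816, 487, 3959, -3416, 377, 1572, 1989, -1007, -12, 683, 2, 1, -195] 274 [3, 10, 5, 7, 9, 14] 275,
  .loopT 4 [2, 2, 5, 7, 6, 6, 5, 7, 6, 7, 3, 2, 1, 2, 0] 2 [2, 5, 2, 1, 1, 5, 2, 2, 3, 2, 5, 7, 1, 7] [-1629, 3308, -338, -2724, 2350, -252, -1057, -1369, 699, 7, -472, -1, -2, 131] 16 [520, 522, 523],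
  .conv 4 [8, 5, 7, 5, 1, 7, 5, 2, 6, 8, 7, 1, 5, 2, 0] 2 [3, 2, 2, 8, 7, 8, 5, 2, 1, 7, 7, 1, 5, 3, 7] [-1630, 3308, -337, -2723, 2350, -252, -1056, -1369, 699, 7, -472, -1, -2, 131] 524 [10, 14, 0, 11] 268,
  .prod 2 [6, 7, 0, 6, 0, 7, 3, 0, 7, 3, 0, 2, 3, 2] [27, -41, 3, 38, -22, 6, -1, 33, -9, 0, 6, 0, 0, 0] [(false, 100), (false, 66), (false, 80), (false, 100), (false, 66), (false, 100)],
  .conv 2 [1, 7, 7, 3, 7, 8, 5, 2, 1, 7, 7, 1, 5, 3, 7] 3 [2, 2, 5, 2, 3, 7, 5, 1, 7, 5, 6, 2, 6, 8] [2507, -4341, 381, 3737, -2845, 152, 648, 2168, -960, -8, 648, -3, -10, -86] 434 [0, 5, 7, 1, 6, 15, 3] 526,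
  .prod 3 [3, 6, 7, 8, 6, 7, 5, 2, 8, 2, 1, 5, 7, 6, 0] [-4636, 8844, -837, -7396, 6071, -508, -2267, -3905, 1899, 18, -1284, 2, 12, 289] [(false, 208), (false, 188), (false, 208), (false, 229), (false, 208), (false, 208), (false, 188)],
  .conv 3 [2, 6, 7, 1, 1, 8, 7, 6, 0, 7, 1, 0, 3, 7, 0] 3 [6, 6, 7, 3, 7, 1, 0, 7, 1, 5, 1, 3, 7, 6] [1938, -3652, 383, 3124, -2580, 198, 899, 1690, -778, -14, 533, 3, 0, -79] 512 [3, 9, 13, 2, 14, 15] 528,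
  .loopT 3 [7, 0, 1, 7, 5, 1, 1, 5, 2, 8, 2, 5, 2, 0, 2, 1] 4 [3, 6, 2, 0, 7, 5, 6, 3, 6, 2, 1, 2, 1, 7, 3] [-2815, 4685, -427, -4138, 3075, -98, -491, -2489, 1041, 15, -709, 1, 12, 35] 18 [525, 527, 529],
  .prod 3 [1, 7, 7, 0, 7, 6, 5, 6, 5, 3, 7, 1, 1, 7, 0] [2646, -5187, 504, 4308, -3609, 321, 1476, 2205, -1107, -9, 747, 0, -6, -183] [(false, 188), (false, 188), (false, 188), (false, 208), (false, 188), (false, 188), (false, 188), (false, 208), (false, 208)],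
  .conv 3 [6, 7, 1, 8, 7, 5, 1, 7, 1, 8, 7, 7, 5, 2] 4 [2, 2, 0, 1, 2, 3, 6, 2, 0, 2, 5, 6, 7] [-170, -503, 77, 171, -534, 224, 985, -283, -66, 6, 38, 1, 6, -148] 530 [1, 6, 13, 11, 0, 15, 14] 531,
  .prod 3 [1, 7, 1, 8, 0, 7, 6, 3, 7, 6, 5, 3, 7, 6, 7] [-3658, 6609, -609, -5632, 4448, -289, -1313, -3122, 1440, 15, -975, 2, 12, 160] [(false, 208), (false, 188), (false, 188), (false, 229)],
  .conv 3 [5, 6, 7, 5, 1, 2, 3, 2, 1, 0, 3, 6, 2, 3] 4 [7, 7, 3, 7, 5, 6, 6, 2, 0, 8, 7, 1, 2, 5, 2] [-6473, 11294, -1037, -9771, 7523, -387, -1805, -5610, 2481, 30, -1684, 3, 24, 195] 530 [5, 6, 13, 3, 15, 2] 533,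
  .prod 3 [0, 2, 5, 6, 7, 6, 2, 3, 6, 2, 1, 0, 1, 3] [-4310, 8099, -761, -6808, 5530, -435, -1949, -3644, 1746, 17, -1181, 2, 12, 246] [(false, 208), (false, 188), (false, 229), (false, 208), (false, 188), (false, 208)],
  .conv 3 [3, 6, 6, 5, 7, 1, 8, 5, 6, 7, 8, 7, 1, 2, 2] 2 [0, 2, 6, 2, 6, 5, 2, 3, 7, 1, 2, 3, 6, 0] [-4237, 7915, -747, -6671, 5402, -416, -1857, -3590, 1711, 16, -1156, 2, 11, 229] 213 [15, 11, 5, 3, 6, 7] 535,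
  .prod 3 [5, 2, 6, 6, 2, 0, 1, 2, 3, 2, 1, 0, 3] [-6990, 12473, -1142, -10676, 8355, -505, -2308, -5983, 2727, 29, -1847, 4, 24, 277] [(false, 188), (false, 208), (false, 229), (false, 188), (false, 188), (false, 188), (false, 229)],
  .conv 3 [7, 0, 6, 2, 8, 5, 6, 2, 1, 0, 3, 6, 2, 1, 3] 2 [2, 0, 6, 7, 5, 1, 5, 2, 3, 2, 6, 7, 6, 5] [-6917, 12288, -1129, -10539, 8227, -485, -2215, -5930, 2692, 28, -1822, 4, 23, 260] 213 [6, 5, 7, 1, 2, 14, 13] 537,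
  .prod 3 [6, 2, 2, 8, 6, 7, 5, 6, 2, 0, 7, 0, 8, 7, 5] [-7920, 14455, -1340, -12276, 9768, -668, -3031, -6742, 3141, 32, -2126, 4, 25, 372] [(false, 208), (false, 188), (false, 229), (false, 188), (false, 188), (false, 208), (false, 229)],
  .conv 3 [3, 2, 1, 0, 3, 6] 2 [8, 2, 5, 8, 7, 5, 7, 0, 1, 8, 2, 1, 1, 2] [-6006, 10509, -940, -9035, 6957, -344, -1716, -5110, 2323, 19, -1567, 6, 26, 210] 159 [6, 5, 15, 10, 14, 1, 7] 539,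
  .prod 3 [1, 2, 6, 7, 5, 7, 0, 3, 2, 1, 2, 6, 6, 2] [-9780, 18419, -1736, -15476, 12594, -994, -4477, -8260, 3969, 38, -2684, 4, 27, 562] [(false, 229), (false, 188), (false, 208), (false, 208), (false, 208), (false, 208), (false, 229)],
  .conv 3 [2, 6, 2, 3, 7, 6, 7, 3, 7, 1, 2, 6, 0, 3, 6] 2 [1, 0, 1, 1, 2, 1, 5, 3, 7, 6, 8, 7, 1, 5, 6] [-7866, 14475, -1338, -12234, 9783, -668, -3161, -6628, 3151, 25, -2125, 6, 28, 400] 159 [9, 11, 13, 2, 14] 541,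
  .prod 2 [0, 7, 5, 2, 2, 8, 7, 7, 6, 7, 1, 2] [20, -43, 4, 35, -30, 4, 15, 18, -9, 0, 6, 0, 0, -2] [(false, 66), (false, 80)]]

/-- Chunk 17 of the facts. -/
def items17 : List Item := [
  .conv 2 [3, 2, 2, 8, 6, 7, 5, 6, 7, 0, 6, 6, 8, 2, 2] 2 [8, 0, 6, 7, 5, 8, 7, 1, 0, 1, 1, 5, 1, 2, 8] [1448, -3023, 326, 2502, -2202, 222, 1046, 1211, -634, -8, 431, 3, 0, -109] 284 [6, 2, 9, 15, 14, 13] 543,
  .prod 2 [7, 7, 3, 7, 8, 5, 1, 1, 7, 3, 2, 2, 6, 7] [59, -128, 13, 105, -92, 10, 46, 51, -27, 0, 18, 0, 0, -5] [(false, 66), (false, 80), (false, 80), (false, 66), (false, 80)],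
  .conv 2 [5, 6, 7, 5, 8, 7, 1, 0, 1, 1, 5, 1, 2, 8] 4 [7, 7, 5, 2, 8, 7, 1, 1, 7, 1, 1, 3, 2] [2726, -5589, 567, 4594, -3966, 438, 1824, 2306, -1169, -14, 793, 2, 1, -225] 274 [0, 0, 6, 10, 8] 545,
  .loopT 4 [6, 6, 7, 1, 0, 7, 1, 1, 3, 7, 1, 3, 7, 3] 3 [2, 2, 0, 7, 8, 7, 6, 6, 5, 2, 1, 1, 7, 8, 7] [3692, -5863, 445, 5138, -3615, 8, 291, 3111, -1346, -3, 901, -10, -29, -66] 11 [542, 544, 546],
  .prod 4 [2, 2, 0, 1, 5, 6, 7, 8, 2, 0, 6, 7, 1, 7, 6] [1899, -3970, 577, 3475, -3171, -111, 1349, 1434, -897, 16, 582, 9, 0, 2] [(false, 293), (false, 313), (false, 293), (false, 313), (false, 313), (false, 293), (false, 313), (false, 313), (false, 313), (false, 293), (false, 293)],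
  .conv 4 [6, 6, 2, 2, 3, 6, 5, 2, 6, 8, 2, 2] 3 [6, 7, 8, 7, 6, 0, 7, 3, 6, 2, 6, 5, 7, 0, 3] [5591, -9833, 1022, 8613, -6786, -103, 1640, 4544, -2243, 13, 1483, -1, -29, -64] 547 [1, 7, 9] 548,
  .prod 1 [5, 6, 6, 7, 0, 7, 6, 0, 7, 1, 5] [-11, 19, -2, -16, 14, 0, -3, -7, 6, 0, -4, 0, 0, 0] [(false, 34), (false, 18), (false, 27), (false, 18), (false, 18), (false, 18), (false, 27), (false, 34), (false, 27)],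
  .conv 1 [1, 7, 8, 5, 2, 6, 7, 3, 0, 6, 2, 6, 7, 1, 2] 2 [0, 6, 0, 2, 1, 2, 1, 2, 5] [-10, 18, -2, -16, 14, -1, -4, -6, 6, 0, -4, 0, 0, 0] 58 [6, 5, 8, 15, 1] 550,
  .prod 2 [5, 7, 0, 7, 8, 6, 6, 2, 0, 3, 7, 6, 5, 7, 3] [-498, 1035, -105, -843, 735, -84, -348, -417, 216, 3, -147, 0, 0, 45] [(false, 100), (false, 108), (false, 108), (false, 100), (false, 108), (false, 100)],
  .conv 2 [8, 5, 6, 0, 2, 1, 2, 1, 2, 5] 2 [8, 0, 2, 8, 7, 7, 5, 3, 6, 2, 3, 6, 2, 0, 1] [-989, 2061, -211, -1689, 1472, -167, -702, -838, 428, 6, -291, -1, 0, 85] 126 [5, 6, 8, 2, 5, 7, 6] 552,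
  .prod 2 [2, 2, 1, 5, 8, 7, 7, 1, 2, 8, 7, 5, 2, 1, 5] [-499, 1033, -106, -844, 735, -82, -344, -418, 216, 3, -147, 0, 0, 43] [(false, 100), (false, 108), (false, 66), (false, 108), (false, 100), (false, 108)],
  .conv 2 [0, 6, 5, 2, 0, 3, 7, 6, 7, 5, 2, 6] 3 [6, 6, 0, 2, 6, 7, 0, 1, 0, 2] [-498, 1033, -105, -844, 735, -81, -345, -417, 216, 3, -147, 0, 0, 43] 54 [6, 15, 14, 13, 10, 6, 8] 554,
  .loopT 3 [6, 6, 5, 3, 7, 6, 2, 5, 1, 5, 2] 1 [2, 6, 6, 7, 7, 8, 7, 7, 1, 5, 3, 7, 5, 1, 2] [1497, -3112, 318, 2549, -2221, 249, 1051, 1261, -648, -9, 442, 2, 0, -128] 10 [551, 553, 555],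
  .conv 3 [1, 1, 0, 2, 0, 2, 0, 3, 2, 1, 1, 5, 7, 5] 1 [0, 2, 1, 1, 0, 2, 8, 5, 6, 2, 8, 2, 0, 6, 5, 2] [-3044, 5225, -459, -4519, 3430, -147, -755, -2595, 1161, 9, -782, 4, 14, 93] 556 [15, 1, 0, 6] 229,
  .prod 1 [0, 7, 1, 5, 6, 2, 5, 2, 5] [-20, 34, -3, -26, 23, 0, -3, -14, 9, 0, -6, 0, 0, 0] [(false, 18), (false, 18), (false, 18), (false, 34), (false, 34), (false, 27), (false, 18), (false, 34)],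
  .conv 1 [6, 0, 7, 5, 2, 1, 5, 2, 2, 3, 7, 3, 6, 2, 3] 2 [2, 2, 6, 0, 1, 7, 0, 1, 1] [-20, 33, -3, -26, 23, -1, -1, -13, 9, 0, -6, 0, 0, 0] 58 [1, 14, 2, 5, 15, 10, 14] 558,
  .prod 2 [2, 5, 7, 1, 0, 7, 3, 7, 1, 2, 2, 1, 7, 0] [-331, 689, -71, -562, 492, -54, -233, -275, 144, 2, -98, 0, 0, 29] [(false, 66), (false, 108), (false, 100), (false, 108), (false, 100)],
  .conv 2 [8, 2, 6, 5, 1, 7, 0, 1, 1] 3 [3, 2, 0, 2, 1, 7, 1, 0, 3, 6, 0, 7, 5, 1] [2914, -5205, 461, 4426, -3448, 202, 972, 2453, -1149, -6, 772, -4, -14, -132] 236 [6, 5, 9, 14, 12, 15, 14] 560,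
  .loopT 3 [5, 2, 3, 7, 5, 8, 7, 1, 7, 3, 7, 7, 5, 1, 7] 3 [6, 0, 7, 0, 2, 6, 5, 3, 2, 1, 0, 8, 2, 0, 1] [150, -53, 1, 119, -5, -54, -216, 155, -19, -3, 16, 1, 0, 39] 11 [557, 559, 561],
  .prod 3 [7, 6, 2, 1, 7, 5, 3, 6, 6, 2, 5, 2, 1, 1] [-6170, 12063, -1157, -10008, 8356, -761, -3395, -5162, 2574, 23, -1739, 2, 14, 436] [(false, 208), (false, 208), (false, 208), (false, 208), (false, 229), (false, 208)],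
  .conv 3 [8, 0, 2, 8, 5, 7, 6, 5, 1, 1, 7, 1, 0, 6, 8] 3 [1, 7, 5, 7, 5, 1, 2, 0, 3, 7, 6, 6, 5, 3] [-6020, 12011, -1157, -9889, 8351, -813, -3610, -5006, 2555, 20, -1723, 3, 14, 475] 562 [13, 9, 14, 13, 2, 15] 563,
  .loopT 3 [2, 6, 6, 2, 5, 1, 2, 2, 1, 3, 2, 6, 6, 2] 4 [1, 0, 2, 8, 7, 7, 1, 7, 3, 2, 3, 2, 2, 6] [429, -2178, 135, 1276, -1565, 916, 1970, 462, -312, -33, 241, -2, 15, -411] 6 [549, 564],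
  .prod 3 [7, 3, 5, 2, 8, 2, 6, 0, 2, 6, 6, 5, 2, 2] [-9780, 18419, -1736, -15476, 12594, -994, -4477, -8260, 3969, 38, -2684, 4, 27, 562] [(false, 188), (false, 208), (false, 229), (false, 208), (false, 208), (false, 229), (false, 208)],
  .conv 3 [2, 0, 7, 5, 7, 6, 5, 1, 3, 0, 7, 1, 0, 6, 8] 4 [0, 7, 0, 6, 2, 8, 5, 2, 1, 2, 3, 2, 6, 6] [-9351, 16240, -1602, -14199, 11029, -79, -2506, -7797, 3657, 5, -2443, 2, 42, 151] 565 [1, 5, 11, 14, 2, 15] 566,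
  .prod 3 [7, 5, 2, 5, 1, 5, 3, 2, 5, 1, 2, 0, 2, 6] [-3706, 6862, -639, -5796, 4658, -345, -1544, -3146, 1485, 15, -1005, 2, 11, 194] [(false, 188), (false, 188), (false, 208), (false, 229), (false, 208), (false, 188), (false, 208)],
  .conv 3 [5, 6, 7, 5, 1, 2, 3, 2, 1, 0, 3, 6] 2 [7, 0, 1, 0, 7, 7, 8, 1, 1, 2, 1, 1, 3, 2, 1] [-1794, 2916, -240, -2554, 1847, -21, -228, -1514, 667, 2, -446, 4, 12, 32] 159 [0, 1, 0, 5, 14, 11] 568,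
  .prod 3 [6, 6, 7, 1, 0, 6, 7, 8, 2, 0, 1, 7, 1] [4228, -8659, 854, 7084, -6104, 630, 2835, 3486, -1827, -14, 1232, 0, -7, -364] [(false, 188), (false, 188), (false, 188), (false, 188), (false, 188), (false, 188), (false, 188)],
  .conv 3 [7, 0, 6, 2, 8, 5, 2, 3, 6, 0, 1, 0, 1, 1] 2 [5, 7, 1, 8, 7, 0, 6, 7, 5, 2, 0, 8, 2, 0, 2] [6142, -12604, 1252, 10325, -8916, 953, 4149, 5117, -2645, -27, 1791, 2, -6, -526] 159 [5, 4, 5, 7, 2, 6] 570,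
  .prod 3 [2, 1, 1, 0, 2, 3, 2, 8, 2, 6, 6, 5, 7] [-1568, 2406, -197, -2172, 1501, -2, -11, -1391, 549, 8, -374, 2, 8, -5] [(false, 188), (false, 188), (false, 188), (false, 208), (false, 188), (false, 188), (false, 208), (false, 229), (false, 188)],
  .conv 3 [2, 1, 1, 5, 2, 8, 5, 1, 1, 7, 7, 8, 7, 1, 0] 2 [7, 7, 8, 2, 0, 7, 5, 1, 3, 2, 3, 2, 1, 0, 6] [345, -1540, 202, 1068, -1310, 323, 1303, 240, -269, -5, 185, 4, 9, -167] 159 [0, 3, 7, 6, 1] 572,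
  .prod 3 [5, 1, 7, 0, 7, 6, 7, 3, 2, 0, 7, 3, 2, 3, 7] [-2450, 4135, -365, -3608, 2704, -109, -503, -2126, 918, 11, -623, 2, 10, 56] [(false, 208), (false, 188), (false, 229), (false, 188), (false, 188), (false, 188)],
  .conv 3 [2, 2, 6, 0, 6, 2, 5, 2, 1, 8, 2, 1, 2, 2] 2 [6, 5, 1, 2, 1, 1, 2, 8, 2, 5, 7, 5, 1, 7] [-2910, 5027, -459, -4360, 3334, -171, -746, -2531, 1111, 13, -753, 2, 10, 83] 465 [7, 3, 6, 7, 1, 6] 574]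

/-- Chunk 18 of the facts. -/
def items18 : List Item := [
  .prod 2 [1, 8, 7, 6, 7, 5, 2, 3, 0, 7, 5, 7, 1, 3] [-501, 1032, -106, -845, 733, -82, -339, -422, 216, 3, -147, 0, 0, 42] [(false, 100), (false, 108), (false, 66), (false, 108), (false, 108)],
  .conv 2 [1, 1, 2, 2, 6, 7, 5, 3, 2, 2, 3, 7, 5, 6, 2] 3 [1, 7, 6, 2, 3, 7, 5, 6, 7, 6, 6, 0, 1, 3, 0] [2743, -4862, 426, 4142, -3208, 176, 864, 2306, -1077, -5, 723, -4, -14, -119] 236 [0, 15, 3, 6, 9, 13] 576,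
  .prod 3 [3, 2, 2, 8, 6, 7, 8, 6, 7, 6, 6, 8, 2, 2, 0, 7] [-3706, 6862, -639, -5796, 4658, -345, -1544, -3146, 1485, 15, -1005, 2, 11, 194] [(false, 188), (false, 208), (false, 188), (false, 208), (false, 188), (false, 208), (false, 229)],
  .conv 3 [7, 7, 5, 7, 6, 5, 3, 7, 1, 2, 1, 7, 1, 2] 4 [8, 7, 6, 5, 7, 6, 5, 3, 2, 0, 2, 8, 7, 5, 2] [-6521, 11547, -1067, -9934, 7733, -442, -2036, -5634, 2526, 30, -1714, 3, 23, 229] 530 [11, 13, 3, 6, 2, 15] 578,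
  .loopT 4 [6, 2, 6, 5, 1, 7, 5, 7, 3, 2, 6, 6, 7, 6, 2] 3 [3, 2, 2, 8, 7, 6, 5, 2, 5, 6, 2, 3, 7] [6688, -11712, 1100, 10152, -7859, 437, 1918, 5859, -2558, -38, 1744, -1, -18, -193] 13 [575, 577, 579],
  .prod 4 [0, 6, 2, 8, 5, 2, 0, 7, 1, 5, 3, 7, 0] [1279, -2676, 413, 2373, -2184, -140, 908, 940, -615, 15, 395, 7, 0, 25] [(false, 293), (false, 293), (false, 313), (false, 313), (false, 293), (false, 313), (false, 313), (false, 313), (false, 293)],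
  .conv 4 [7, 0, 6, 0, 7, 1, 5, 7, 8, 2, 0, 7, 0, 7] 3 [1, 1, 2, 1, 2, 5, 6, 7, 3, 7, 5, 7, 3, 6, 0] [7967, -14388, 1514, 12525, -10042, 299, 2827, 6799, -3173, -23, 2139, 6, -18, -168] 580 [14, 10, 12, 13, 13] 581,
  .loopT 3 [7, 8, 6, 7, 7, 8, 6, 7, 5, 2, 1, 7, 5, 6, 2] 4 [7, 0, 6, 0, 7, 1, 5, 7, 8, 2, 0, 7, 0, 7] [-7967, 14388, -1514, -12525, 10042, -299, -2827, -6799, 3174, 23, -2139, -6, 18, 168] 1 [582],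
  .prod 3 [2, 5, 8, 7, 1, 7, 6, 7, 5, 3, 2, 6, 0] [-3706, 6862, -639, -5796, 4658, -345, -1544, -3146, 1485, 15, -1005, 2, 11, 194] [(false, 188), (false, 229), (false, 208), (false, 208), (false, 188), (false, 208), (false, 188)],
  .conv 3 [3, 2, 1] 4 [6, 7, 3, 1, 7, 7, 5, 3, 7, 3, 6, 6, 7, 1, 0] [-11673, 21250, -2152, -18321, 14700, -646, -4372, -9946, 4659, 38, -3144, -4, 29, 362] 583 [0, 5, 10, 6, 5, 8, 7] 584,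
  .prod 3 [7, 5, 7, 6, 7, 5, 8, 7, 1, 3, 7, 7, 3, 7, 7] [-9454, 17674, -1660, -14888, 12053, -921, -4159, -7999, 3816, 37, -2581, 4, 27, 519] [(false, 229), (false, 208), (false, 188), (false, 208), (false, 229), (false, 208)],
  .conv 3 [2, 0, 7, 5, 7, 3, 6, 0, 1, 0, 2, 1] 4 [8, 7, 7, 5, 7, 6, 6, 3, 2, 6, 7, 3, 7, 7, 0] [-17421, 32062, -3174, -27412, 22096, -1218, -6984, -14798, 6990, 60, -4720, -2, 45, 687] 583 [12, 13, 14, 13, 11, 14] 586,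
  .prod 3 [5, 6, 7, 8, 6, 5, 1, 1, 2, 3, 2, 8, 7, 1] [-8850, 16437, -1538, -13876, 11181, -831, -3754, -7501, 3555, 35, -2405, 4, 26, 467] [(false, 188), (false, 229), (false, 208), (false, 188), (false, 208), (false, 229), (false, 208)],
  .conv 3 [5, 2, 3, 5, 7, 6, 0, 7, 3, 2, 2, 1, 3] 2 [6, 6, 2, 8, 5, 6, 6, 2, 6, 6, 7, 6] [-8725, 16176, -1512, -13667, 10996, -808, -3664, -7397, 3502, 34, -2368, 4, 26, 454] 429 [0, 5, 6, 15, 3, 13] 588,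
  .prod 2 [5, 7, 5, 7, 8, 7, 1, 0, 6, 7, 0, 2, 2, 8] [-144, 303, -31, -245, 217, -24, -106, -117, 63, 1, -43, 0, 0, 14] [(false, 100), (false, 108), (false, 100), (false, 66), (false, 80)],
  .conv 2 [8, 7, 7, 0, 7, 1, 7, 7, 3, 0, 7, 0, 7, 1, 1] 2 [5, 6, 7, 6, 5, 6, 6, 7, 5, 7, 3, 6, 5, 7] [1003, -2076, 209, 1702, -1476, 167, 696, 851, -430, -6, 293, 1, 0, -84] 166 [6, 5, 15, 3, 7] 590,
  .conv 2 [0, 6, 7, 1, 7, 7, 6, 0, 8, 2, 6, 7, 5, 7, 1] 3 [0, 1, 7, 8, 6, 7, 6, 2, 5, 7, 0, 7, 8] [3101, -5593, 502, 4743, -3724, 233, 1096, 2609, -1230, -7, 827, -4, -14, -147] 236 [1, 6, 5, 7, 6, 13, 10] 206,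
  .loopT 3 [5, 1, 7, 6, 2, 2, 6, 3, 2, 1, 0, 1, 1, 5, 1] 3 [5, 2, 0, 1, 7, 7, 8, 1, 1, 2, 0, 7, 0, 6, 8] [4621, -8507, 801, 7222, -5796, 408, 1872, 3937, -1840, -21, 1248, -1, -11, -223] 13 [589, 591, 592],
  .prod 3 [0, 1, 8, 2, 8, 5, 7, 5, 3, 7, 1, 0, 6, 2, 0, 1] [-7920, 14455, -1340, -12276, 9768, -668, -3031, -6742, 3141, 32, -2126, 4, 25, 372] [(false, 188), (false, 229), (false, 188), (false, 188), (false, 208), (false, 208), (false, 229)],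
  .conv 3 [5, 6, 7, 5, 1, 2, 3, 2, 1] 3 [7, 5, 2, 5, 8, 7, 8, 5, 6, 6, 5, 7, 5, 2, 8, 2] [-3299, 5948, -539, -5054, 3973, -260, -1160, -2804, 1301, 11, -878, 3, 14, 149] 593 [12, 15, 3, 6, 11] 594,
  .prod 3 [2, 6, 2, 5, 6, 5, 1, 2, 8, 7, 6, 6, 7, 6, 5] [882, -1729, 168, 1436, -1203, 107, 492, 735, -369, -3, 249, 0, -2, -61] [(false, 188), (false, 208), (false, 188)],
  .conv 3 [7, 0, 6, 2, 6, 0, 1, 1, 3, 0, 2, 1] 3 [8, 7, 6, 7, 1, 5, 6, 7, 1, 8, 2, 0, 2, 6] [5503, -10238, 968, 8658, -6999, 514, 2363, 4671, -2209, -24, 1497, -1, -13, -284] 593 [1, 5, 6, 1, 7, 2] 596,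
  .prod 3 [2, 2, 1, 8, 0, 7, 1, 7, 3, 2, 2, 3, 0, 6] [508, -731, 62, 684, -452, -22, -57, 450, -171, -2, 116, 0, -3, 16] [(false, 208), (false, 208), (false, 188), (false, 208), (false, 188), (false, 188), (false, 208)],
  .conv 3 [2, 1, 7, 5, 2, 1, 7, 5, 2, 3, 2, 1] 3 [2, 5, 1, 2, 5, 2, 8, 7, 1, 0, 1, 1, 2, 6, 5] [5130, -9237, 863, 7906, -6248, 387, 1815, 4386, -2011, -23, 1364, -1, -14, -207] 593 [13, 9, 6, 8, 7, 14] 598,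
  .prod 3 [1, 7, 6, 6, 7, 6, 5, 3, 7, 1, 0, 2, 1, 1] [-6712, 11981, -1096, -10252, 8024, -488, -2221, -5746, 2619, 28, -1774, 4, 23, 268] [(false, 188), (false, 208), (false, 188), (false, 208), (false, 188), (false, 229), (false, 188), (false, 229), (false, 188)],
  .conv 3 [3, 2, 1, 3] 2 [1, 8, 5, 1, 1, 7, 0, 6, 2, 8, 2, 1, 7, 6, 0] [-7172, 12874, -1190, -11005, 8654, -551, -2461, -6149, 2812, 30, -1904, 4, 23, 295] 465 [5, 7, 14, 3, 15, 3] 600,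
  .prod 3 [1, 7, 6, 5, 2, 8, 7, 3, 2, 6, 7, 5, 3, 2, 5] [-3706, 6862, -639, -5796, 4658, -345, -1544, -3146, 1485, 15, -1005, 2, 11, 194] [(false, 188), (false, 208), (false, 188), (false, 208), (false, 229), (false, 208), (false, 188)],
  .conv 3 [2, 0, 7, 5, 7, 3, 6, 0, 1, 0, 2, 1, 3] 2 [2, 1, 2, 1, 8, 7, 5, 6, 0, 2, 1, 3, 7, 1, 2, 3] [-4166, 7754, -732, -6547, 5287, -408, -1785, -3550, 1678, 17, -1135, 2, 11, 221] 465 [1, 6, 7, 10, 5, 4, 14] 602,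
  .prod 3 [5, 6, 6, 7, 0, 6, 6, 2, 0, 2, 8, 7, 0, 7, 6] [-4310, 8099, -761, -6808, 5530, -435, -1949, -3644, 1746, 17, -1181, 2, 12, 246] [(false, 208), (false, 188), (false, 208), (false, 208), (false, 188), (false, 229)],
  .conv 3 [5, 6, 7, 5, 1, 2, 3, 2, 1, 3] 2 [1, 5, 2, 6, 2, 8, 7, 1, 7, 3, 0, 7, 5, 7, 0] [-4285, 8102, -768, -6811, 5564, -421, -2005, -3604, 1747, 15, -1179, 1, 13, 241] 224 [0, 11, 6, 9, 10, 5] 604,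
  .prod 3 [0, 2, 1, 7, 0, 1, 5, 3, 7, 8, 7, 6, 6, 5, 1] [-13064, 24030, -2239, -20356, 16291, -1154, -5241, -11097, 5211, 52, -3526, 6, 40, 645] [(false, 188), (false, 188), (false, 229), (false, 208), (false, 229), (false, 208), (false, 229)],
  .conv 3 [7, 0, 6, 2, 6, 0, 1, 1, 3, 0, 2, 1, 3] 3 [2, 2, 1, 2, 5, 7, 3, 2, 8, 2, 6, 0, 1, 1] [-12914, 23978, -2239, -20237, 16286, -1208, -5455, -10940, 5192, 49, -3510, 7, 40, 684] 562 [14, 15, 2, 14, 9, 15] 606]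

/-- Chunk 19 of the facts. -/
def items19 : List Item := [
  .prod 3 [8, 7, 6, 5, 2, 8, 7, 0, 3, 2, 0, 3, 2, 5, 1] [-8850, 16437, -1538, -13876, 11181, -831, -3754, -7501, 3555, 35, -2405, 4, 26, 467] [(false, 208), (false, 188), (false, 229), (false, 208), (false, 208), (false, 229), (false, 188)],
  .conv 3 [0, 2, 0, 7, 1, 0, 1, 2, 3, 0, 2, 1, 3] 2 [0, 1, 2, 3, 7, 6, 7, 0, 2, 3, 2, 1, 7, 6, 2] [-9311, 17328, -1632, -14626, 11811, -892, -3994, -7904, 3748, 37, -2535, 4, 26, 494] 465 [0, 1, 11, 14, 1, 13] 608,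
  .conv 3 [3, 2, 0, 7, 5, 7, 0, 2] 2 [7, 5, 7, 1, 5, 2, 6, 0, 3, 7, 1, 1, 7, 7, 5] [-13442, 24879, -2321, -21026, 16894, -1243, -5594, -11405, 5389, 52, -3644, 7, 41, 695] 239 [4, 5, 6, 5, 7, 6, 3, 5] 466,
  .prod 3 [6, 2, 2, 6, 6, 5, 2, 5, 3, 2, 0, 7, 5, 7] [-8524, 15692, -1462, -13288, 10640, -758, -3436, -7240, 3402, 34, -2302, 4, 26, 424] [(false, 188), (false, 208), (false, 208), (false, 229), (false, 188), (false, 229)],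
  .conv 3 [2, 0, 7, 5, 7, 8, 7, 6, 2, 1, 2, 6, 7, 5, 1] 2 [2, 1, 2, 6, 2, 0, 7, 3, 7, 1, 1, 7, 7, 5] [-7972, 14560, -1347, -12358, 9831, -683, -3065, -6789, 3166, 31, -2141, 5, 26, 379] 239 [2, 7, 9, 5, 3, 6, 5] 611,
  .prod 3 [7, 3, 1, 7, 6, 7, 6, 7, 3, 7, 1, 0, 3, 2] [-3706, 6862, -639, -5796, 4658, -345, -1544, -3146, 1485, 15, -1005, 2, 11, 194] [(false, 188), (false, 208), (false, 208), (false, 188), (false, 208), (false, 188), (false, 229)],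
  .conv 3 [5, 6, 7, 5, 1, 2, 3, 2, 0, 7, 5, 7, 0, 2] 2 [1, 5, 1, 2, 0, 7, 5, 7, 3, 2, 2, 5, 6, 7, 1] [-3154, 5728, -524, -4865, 3849, -269, -1173, -2694, 1249, 12, -844, 3, 11, 149] 239 [7, 6, 5, 2, 1, 15] 613,
  .prod 3 [7, 7, 6, 7, 6, 7, 0, 3, 2, 3, 6, 2, 6, 6] [-7920, 14455, -1340, -12276, 9768, -668, -3031, -6742, 3141, 32, -2126, 4, 25, 372] [(false, 188), (false, 188), (false, 208), (false, 229), (false, 188), (false, 229), (false, 208)],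
  .conv 3 [7, 0, 7, 8, 7, 6, 2, 3, 7, 6, 5, 6, 2, 0] 2 [1, 0, 6, 6, 2, 6, 2, 3, 2, 0, 8, 7, 5] [-7223, 12991, -1198, -11077, 8720, -549, -2513, -6160, 2842, 27, -1921, 5, 24, 309] 503 [7, 14, 11, 11, 8, 13] 615,
  .prod 2 [2, 2, 0, 6, 6, 7, 0, 3, 2, 3, 2, 5, 3, 2] [-145, 301, -32, -246, 217, -22, -102, -118, 63, 1, -43, 0, 0, 12] [(false, 100), (false, 66), (false, 108), (false, 66), (false, 80)],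
  .conv 2 [2, 2, 1, 7, 6, 5, 7, 8, 7, 6, 6, 2, 0, 7, 1] 2 [1, 0, 1, 5, 7, 6, 0, 7, 3, 2, 0, 3, 7, 7] [-1169, 2398, -244, -1973, 1706, -198, -784, -1000, 500, 8, -341, -1, -1, 95] 152 [6, 5, 4, 15, 10, 14, 15] 617,
  .prod 2 [8, 7, 7, 1, 0, 6, 7, 8, 2, 0, 2, 0, 2, 5] [-330, 691, -70, -561, 492, -56, -237, -274, 144, 2, -98, 0, 0, 31] [(false, 100), (false, 100), (false, 108), (false, 108), (false, 100)],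
  .conv 2 [7, 0, 6, 7, 0, 7, 5, 8, 2, 1, 7, 6, 6, 2, 5] 3 [2, 5, 7, 5, 1, 5, 7, 6, 0, 2] [-331, 690, -71, -562, 492, -55, -236, -274, 144, 2, -98, 0, 0, 31] 54 [0, 2, 1, 14, 3, 13] 619,
  .loopT 3 [5, 6, 2, 8, 7, 7, 5, 3, 2, 1, 7, 6, 6, 5] 3 [2, 2, 3, 1, 5, 7, 1, 2, 6, 0, 3, 2, 6, 5, 1] [8723, -16079, 1513, 13612, -10918, 802, 3533, 7434, -3484, -37, 2360, -4, -22, -435] 12 [616, 618, 620],
  .prod 3 [3, 6, 7, 7, 8, 7, 5, 7, 3, 2, 0, 1, 5, 7] [-4262, 7846, -731, -6644, 5320, -379, -1718, -3620, 1701, 17, -1151, 2, 13, 212] [(false, 229), (false, 208), (false, 188)],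
  .conv 3 [7, 0, 6, 2, 8, 7, 6, 0, 7, 5, 7, 0, 1, 1, 7] 3 [2, 6, 0, 2, 3, 5, 1, 1, 2, 0, 2, 6, 0, 7] [4460, -8232, 783, 6968, -5598, 422, 1814, 3813, -1783, -20, 1209, -2, -9, -223] 621 [5, 6, 0, 9, 10, 7] 622,
  .prod 3 [8, 2, 0, 2, 8, 7, 1, 0, 3, 2, 6, 6, 8, 2] [-422, 1251, -136, -916, 961, -185, -780, -309, 243, 1, -163, 0, -2, 111] [(false, 188), (false, 208), (false, 188), (false, 208), (false, 208), (false, 208), (false, 208)],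
  .conv 3 [3, 2, 1, 0, 1, 7, 8, 1, 2, 3, 6, 2, 2, 6, 5] 2 [6, 2, 5, 1, 2, 0, 6, 2, 0, 3, 7, 0, 6, 7, 1] [130, 118, -22, 16, 152, -108, -407, 144, 7, -2, -2, 1, -2, 66] 239 [2, 11, 14, 15, 2] 624,
  .prod 3 [2, 5, 7, 3, 6, 7, 6, 3, 6, 5, 2, 1, 0, 1, 1] [2368, -4695, 458, 3884, -3278, 304, 1389, 1968, -999, -8, 674, 0, -5, -174] [(false, 188), (false, 208), (false, 188), (false, 188), (false, 188), (false, 208), (false, 188)],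
  .conv 3 [5, 8, 6, 6, 7, 8, 5, 2, 5, 2, 1, 3, 2, 3, 2] 2 [2, 5, 7, 5, 7, 8, 5, 2, 3, 7, 1, 1, 0, 2] [4281, -8641, 857, 7126, -6089, 629, 2703, 3601, -1817, -21, 1233, 2, -4, -336] 159 [1, 6, 0, 11, 15] 626,
  .prod 2 [5, 1, 2, 1, 0, 2, 6, 5, 8, 2, 2, 1, 2, 0, 1, 1] [-164, 343, -37, -281, 249, -24, -118, -133, 72, 1, -49, 0, 0, 13] [(false, 108), (false, 66), (false, 100), (false, 66)],
  .conv 2 [7, 5, 2, 0, 2, 5, 6, 3, 7, 0, 2, 8, 7, 7, 1] 2 [3, 5, 5, 7, 6, 7, 6, 0, 3, 7, 1, 5, 6, 6, 5] [1264, -2639, 285, 2186, -1923, 192, 915, 1059, -553, -7, 376, 3, 0, -94] 284 [1, 14, 2, 5, 14] 628,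
  .prod 2 [8, 2, 8, 6, 6, 7, 0, 2, 2, 6, 2, 3, 7, 1, 0] [-164, 343, -37, -281, 249, -24, -118, -133, 72, 1, -49, 0, 0, 13] [(false, 66), (false, 100), (false, 66), (false, 108)],
  .conv 2 [0, 1, 7, 3, 7, 6, 6, 7, 3, 7, 7, 3, 6, 2, 1] 3 [1, 8, 7, 1, 7, 8, 5, 2, 1, 0, 7, 6, 6, 5, 1] [3081, -5552, 496, 4706, -3692, 231, 1084, 2592, -1221, -7, 821, -4, -14, -148] 236 [3, 6, 5, 7, 6, 5, 10, 7] 630,
  .loopT 3 [7, 1, 0, 6, 2, 5, 6, 3, 7, 6, 6, 0, 7, 1, 7] 3 [5, 1, 2, 5, 6, 7, 5, 8, 2, 5, 7, 1, 7, 1, 5] [-8626, 16832, -1638, -14018, 11704, -1052, -4702, -7252, 3593, 35, -2430, 0, 18, 578] 8 [627, 629, 631],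
  .prod 3 [1, 7, 3, 7, 6, 5, 5, 7, 1, 3, 7, 7, 8, 2, 1] [-700, 1743, -182, -1340, 1292, -202, -867, -546, 351, 2, -236, 0, -1, 120] [(false, 208), (false, 208), (false, 208), (false, 208), (false, 188)],
  .conv 3 [3, 7] 3 [2, 6, 6, 2, 2, 5, 7, 1, 8, 7, 7, 1, 7, 5, 1] [-9326, 18575, -1821, -15359, 12996, -1255, -5569, -7798, 3944, 37, -2666, 0, 17, 698] 632 [6, 7, 3, 5, 2, 14, 15] 633,
  .conv 3 [2, 0, 7, 5, 7, 3, 6, 0, 1, 0, 7] 3 [8, 7, 1, 2, 0, 7, 6, 3, 6, 2, 5, 3, 7, 1, 1] [-13166, 25171, -2415, -21087, 17355, -1447, -6506, -11110, 5402, 53, -3654, 2, 32, 799] 632 [13, 3, 7, 14, 9] 229,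
  .prod 3 [3, 7, 7, 8, 5, 6, 5, 7, 1, 0, 2, 0, 3] [2090, -4203, 412, 3460, -2947, 287, 1302, 1731, -891, -7, 601, 0, -4, -165] [(false, 188), (false, 188), (false, 188), (false, 188), (false, 208)],
  .conv 3 [5, 6, 7, 5, 1, 2, 3, 7] 3 [7, 3, 7, 0, 7, 5, 7, 6, 3, 2, 1, 5, 2, 3, 2, 6] [-6538, 12629, -1227, -10558, 8757, -766, -3402, -5522, 2702, 28, -1829, 0, 14, 413] 632 [0, 5, 0, 6, 7, 6, 2] 636,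
  .prod 3 [5, 7, 6, 7, 8, 5, 1, 1, 2, 1, 7, 1, 5, 2] [1208, -2474, 244, 2024, -1744, 180, 810, 996, -522, -4, 352, 0, -2, -104] [(false, 188), (false, 188)],
  .conv 3 [7, 0, 6, 2, 6, 0, 1, 1, 3, 0, 7] 1 [1, 0, 1, 1, 8, 7, 0, 1, 3, 0, 7, 0, 1, 1] [2705, -5586, 562, 4573, -3965, 430, 1860, 2258, -1170, -13, 794, 2, -2, -232] 556 [6, 15, 11, 13, 3] 638]

/-- Chunk 20 of the facts. -/
def items20 : List Item := [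
  .prod 3 [5, 2, 6, 2, 8, 6, 7, 6, 6, 5, 2, 6, 8, 2, 6] [-9128, 16929, -1584, -14300, 11512, -848, -3841, -7738, 3663, 36, -2478, 4, 27, 476] [(false, 229), (false, 208), (false, 208), (false, 229), (false, 188)],
  .conv 3 [2, 1, 7, 5, 2, 1, 7, 5, 2, 3, 7] 3 [2, 0, 1, 2, 6, 5, 3, 7, 5, 2, 8, 7, 6, 7] [-17755, 33761, -3223, -28317, 23216, -1901, -8543, -14991, 7256, 71, -4908, 4, 45, 1054] 632 [2, 5, 11, 0, 7] 640,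
  .prod 2 [0, 1, 5, 2, 0, 2, 5, 3, 7, 1, 1, 5, 6, 7, 1] [7, -1, -3, 2, 10, 6, -13, 17, 0, 0, 0, 0, 0, -1] [(false, 100), (false, 66), (false, 66), (false, 100), (false, 66)],
  .conv 2 [0, 7, 6, 7, 0, 6, 7, 6, 7, 8, 7, 6, 2, 5, 1, 7] 2 [2, 5, 7, 6, 2, 6, 0, 8, 2, 1, 2, 5, 2, 5] [11, -6, -3, 2, 10, 4, -17, 18, -1, 0, 1, 0, 0, -2] 70 [1, 3, 10, 14, 2] 642,
  .conv 2 [7, 0, 2, 6, 5, 1, 0, 7, 8, 2, 5, 7, 0, 7] 2 [0, 7, 8, 6, 6, 7, 7, 3, 2, 6, 2, 5, 7, 7, 8] [287, -587, 62, 483, -413, 60, 192, 251, -121, -3, 84, 0, 0, -24] 173 [10, 7, 11, 10, 14] 455,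
  .prod 2 [0, 2, 0, 7, 8, 6, 7, 0, 2, 3, 7, 6, 2, 1, 0] [-125, 261, -26, -210, 185, -22, -90, -102, 54, 1, -37, 0, 0, 13] [(false, 100), (false, 100), (false, 66), (false, 80), (false, 80), (false, 108)],
  .conv 2 [1, 2, 1, 2, 3, 6, 2, 6, 2, 5, 6, 7, 0, 7] 3 [5, 7, 6, 6, 2, 5, 2, 2, 1, 2] [-126, 261, -25, -211, 185, -22, -91, -103, 54, 1, -37, 0, 0, 13] 54 [0, 5, 7, 3, 6, 13, 10] 645,
  .loopT 3 [3, 2, 5, 1, 2, 1, 1, 2, 2, 0, 1] 2 [0, 2, 8, 7, 6, 7, 5, 2, 1, 8, 7, 7, 5, 7, 5] [-172, 332, -34, -274, 218, -42, -84, -166, 70, 2, -48, 1, 0, 13] 8 [643, 644, 646],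
  .prod 3 [6, 6, 5, 8, 7, 1, 5, 6, 2, 2, 3, 2, 8, 7, 0] [-916, 916, -45, -996, 419, 144, 625, -869, 243, 6, -168, 2, 8, -91] [(false, 188), (false, 188), (false, 188), (false, 188), (false, 188), (false, 229), (false, 188)],
  .conv 3 [3, 2, 1, 8, 7, 0, 2] 2 [5, 6, 2, 0, 2, 0, 3, 2, 3, 6, 7, 6, 8] [-1088, 1247, -79, -1272, 637, 102, 542, -1035, 313, 8, -216, 3, 8, -78] 647 [1, 14, 3, 3] 648,
  .prod 3 [1, 5, 8, 7, 7, 8, 2, 6, 2, 5, 3, 6, 7, 7] [-6990, 12473, -1142, -10676, 8355, -505, -2308, -5983, 2727, 29, -1847, 4, 24, 277] [(false, 188), (false, 229), (false, 188), (false, 188), (false, 188), (false, 208), (false, 229)],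
  .conv 3 [2, 3, 1, 1, 7, 8, 7, 0, 6, 7, 6, 6, 2, 5] 2 [2, 6, 7, 6, 2, 3, 5, 7, 6, 6, 2, 6, 2, 5, 6] [-7162, 12806, -1177, -10950, 8573, -549, -2390, -6151, 2797, 31, -1895, 5, 24, 290] 647 [5, 7, 14, 2, 7, 5, 14, 9] 650,
  .prod 3 [0, 1, 2, 1, 7, 8, 2, 0, 3, 6, 5, 7, 7, 3] [1160, -2221, 214, 1860, -1534, 124, 579, 972, -477, -4, 322, 0, -3, -70] [(false, 188), (false, 188), (false, 208), (false, 188), (false, 208)],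
  .conv 3 [5, 6, 7, 5, 1, 2, 3, 2, 1, 8, 7, 0, 2] 2 [5, 1, 2, 0, 7, 6, 3, 6, 2, 3, 6, 7, 6, 8] [989, -1889, 179, 1586, -1316, 83, 496, 806, -407, -2, 274, 1, -3, -57] 647 [8, 14, 13, 2] 652,
  .prod 3 [2, 2, 5, 1, 2, 8, 5, 7, 1, 2, 2, 8, 2, 5, 1] [-8524, 15692, -1462, -13288, 10640, -758, -3436, -7240, 3402, 34, -2302, 4, 26, 424] [(false, 208), (false, 208), (false, 229), (false, 188), (false, 229), (false, 188)],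
  .conv 3 [3, 7, 7, 5, 6, 7, 0, 3, 7, 1, 0, 3, 7, 6] 2 [6, 2, 3, 7, 6, 6, 2, 6, 2, 5, 6] [-8696, 16023, -1496, -13560, 10858, -800, -3520, -7407, 3472, 36, -2350, 5, 26, 437] 647 [1, 14, 11, 7, 6, 11] 654,
  .prod 3 [0, 7, 1, 7, 8, 7, 5, 2, 0, 7, 3, 2, 5, 1, 5] [-3102, 5625, -517, -4784, 3786, -255, -1139, -2648, 1224, 13, -829, 2, 10, 142] [(false, 188), (false, 188), (false, 208), (false, 188), (false, 208), (false, 208), (false, 188), (false, 229)],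
  .conv 3 [3, 5, 6, 2, 1, 7, 1, 3, 0, 7, 1, 7, 7, 8] 2 [0, 1, 7, 1, 7, 5, 6, 5, 7, 3, 2, 0, 3, 6, 7, 3] [-3275, 5957, -551, -5056, 4004, -297, -1222, -2812, 1294, 15, -877, 3, 10, 155] 647 [0, 11, 15, 11, 14, 15] 656,
  .conv 3 [3, 2, 0, 6, 2, 2, 3] 4 [] [0, 0, 0, 0, 0, 0, 0, 0, 0, 0, 0, 0, 0, 0] 264 [] 182,
  .prod 3 [7, 1, 5, 6, 2, 8, 7, 5, 2, 3, 6, 5, 7, 6, 5] [2416, -4948, 488, 4048, -3488, 360, 1620, 1992, -1044, -8, 704, 0, -4, -208] [(false, 188), (false, 188), (false, 188), (false, 188)],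
  .conv 3 [2, 0, 7, 5, 2, 1, 5, 1, 3, 2, 5, 6, 7, 8, 2] 4 [5, 6, 5, 6, 2, 6, 2, 2, 6] [2414, -4948, 487, 4048, -3488, 360, 1619, 1991, -1044, -8, 704, 0, -4, -208] 264 [6, 7, 0, 0, 2] 659,
  .conv 3 [5, 6, 7, 5, 1, 2, 3, 2, 0, 6, 2, 2, 3] 4 [0, 6, 6, 0, 7, 1, 5, 2, 5, 2] [604, -1238, 122, 1013, -872, 91, 405, 497, -261, -2, 176, 0, -1, -52] 264 [7, 1, 6, 11, 13, 14] 188,
  .conv 3 [7, 0, 6, 2, 8, 5, 2, 0, 6, 0, 1, 2, 2, 3] 4 [5, 5, 5, 6, 5, 2, 1, 2, 1, 7, 0] [1208, -2474, 243, 2023, -1744, 181, 809, 995, -522, -4, 352, 0, -2, -104] 264 [3, 2, 6, 7, 13] 638,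
  .prod 3 [2, 2, 8, 7, 6, 6, 3, 7, 0, 7, 1, 0, 2, 3] [1812, -3711, 366, 3036, -2616, 270, 1215, 1494, -783, -6, 528, 0, -3, -156] [(false, 188), (false, 188), (false, 188)],
  .conv 3 [3, 1, 2, 6, 7, 8, 6, 2, 2, 3, 0, 1, 1, 2, 8] 4 [6, 2, 6, 6, 0, 6, 6, 2, 5, 7] [1811, -3710, 365, 3036, -2616, 271, 1215, 1493, -783, -6, 528, 0, -3, -156] 264 [2, 7, 0, 9, 13] 663,
  .prod 3 [8, 5, 6, 7, 0, 6, 7, 3, 6, 7, 1, 2, 0, 7, 1] [-3658, 6609, -609, -5632, 4448, -289, -1313, -3122, 1440, 15, -975, 2, 12, 160] [(false, 188), (false, 229), (false, 188), (false, 208)],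
  .conv 3 [1, 1, 2, 6, 7, 0, 6, 8, 2, 0, 2, 1, 7] 4 [5, 2, 2, 1, 2, 0, 1, 1, 0, 1] [-3658, 6609, -608, -5631, 4448, -291, -1314, -3120, 1440, 15, -975, 2, 12, 160] 264 [5, 10, 15, 11, 6, 5, 15] 665,
  .loopT 4 [0, 7, 7, 1, 7, 5, 1, 1, 5, 1] 3 [1, 1, 2, 6, 7, 0, 6, 8, 2, 0, 2, 1, 7] [3658, -6609, 608, 5631, -4448, 291, 1314, 3120, -1439, -15, 975, -2, -12, -160] 1 [666],
  .conv 4 [] 3 [1, 1, 8, 2, 8, 7, 0, 2, 1, 7, 8, 2, 6, 0] [3658, -6609, 607, 5632, -4448, 291, 1313, 3120, -1439, -15, 975, -2, -12, -160] 667 [7, 11, 13, 2, 6, 5, 15] 268,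
  .prod 4 [1, 7, 8, 7, 8, 7, 6, 7, 1, 3, 2, 1, 7] [117, -264, 255, 507, -630, -594, 78, -144, -153, 39, 63, 9, 0, 213] [(false, 293), (false, 313), (false, 293), (false, 313), (false, 313), (false, 293), (false, 313), (false, 313), (false, 313), (false, 293), (false, 313), (false, 293), (false, 313), (false, 293), (false, 313)],
  .conv 4 [0, 6, 2, 5, 8, 6, 2, 0, 7, 3, 6, 0, 2, 8] 2 [3, 6, 5, 7, 7, 6, 3, 7, 3, 7, 3, 2, 0, 8] [-2473, 4973, -276, -3813, 3072, -1014, -1587, -2353, 951, 52, -685, 7, -2, 423] 354 [0, 13, 12, 13, 2] 669,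
  .prod 2 [7, 5, 7, 8, 5, 2, 1, 3, 7, 1, 5, 7, 3] [-330, 688, -72, -562, 494, -52, -234, -272, 144, 2, -98, 0, 0, 28] [(false, 100), (false, 100), (false, 66), (false, 108), (false, 66), (false, 108)]]

/-- Chunk 21 of the facts. -/
def items21 : List Item := [
  .conv 2 [1, 8, 0, 7, 5, 7, 3, 2, 3, 2, 3, 0, 7, 1] 4 [5, 8, 7, 0, 1, 8, 5, 6, 7, 1, 3, 2, 0, 1, 3] [2477, -5060, 505, 4161, -3579, 416, 1643, 2110, -1055, -14, 717, 2, 1, -207] 310 [0, 6, 5, 7, 9, 8, 14] 671,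
  .loopT 4 [2, 8, 0, 2, 8, 7, 5, 2, 8, 7, 6, 0, 6, 7, 6] 4 [6, 6, 2, 6, 3, 7, 1, 0, 3, 2, 1, 0] [-4, 87, -229, -348, 507, 598, -56, 243, 104, -38, -31, -9, 1, -216] 7 [670, 672],
  .prod 4 [7, 0, 2, 3, 7, 0, 1, 7, 3, 7, 0, 2, 3, 7, 3] [659, -1382, 249, 1271, -1197, -169, 467, 446, -333, 14, 208, 5, 0, 48] [(false, 313), (false, 293), (false, 313), (false, 293), (false, 313), (false, 313), (false, 293)],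
  .conv 4 [2, 0, 7, 5, 7, 6, 5, 1, 5] 4 [6, 0, 6, 6, 2, 8, 6, 7, 3, 6, 2, 5, 1, 7, 7] [655, -1295, 21, 925, -690, 428, 411, 688, -229, -24, 177, -4, 1, -168] 673 [7, 11, 11, 10, 5] 674,
  .prod 4 [8, 5, 6, 2, 8, 7, 5, 3, 2, 0, 7, 3, 7, 6, 7] [659, -1382, 249, 1271, -1197, -169, 467, 446, -333, 14, 208, 5, 0, 48] [(false, 293), (false, 293), (false, 313), (false, 293), (false, 313), (false, 313), (false, 313)],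
  .conv 4 [5, 6, 7, 5, 1, 2] 4 [7, 6, 2, 1, 8, 5, 7, 3, 0, 1, 7, 1, 0, 7, 5] [656, -1295, 19, 923, -690, 429, 412, 688, -229, -24, 177, -4, 1, -168] 673 [7, 5, 14, 8, 13, 2] 676,
  .prod 4 [0, 7, 3, 1, 7, 8, 7, 1, 1, 7, 8, 2, 5, 1] [1240, -2588, 328, 2204, -1974, 58, 882, 988, -564, 2, 374, 4, 0, -46] [(false, 293), (false, 313), (false, 293), (false, 313)],
  .conv 4 [7, 5, 6, 2, 2, 6, 5, 1, 1, 5] 4 [7, 7, 6, 6, 7, 5, 7, 3, 6, 2, 2, 8, 2, 1] [1235, -2501, 99, 1857, -1467, 656, 827, 1234, -460, -36, 343, -5, 1, -262] 673 [15, 0, 15, 11, 15, 14] 678,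
  .prod 4 [5, 6, 2, 0, 1, 8, 2, 0, 7, 5, 3, 7, 5, 2] [6703, -13970, 1549, 11615, -10227, 913, 4773, 5578, -2949, -28, 1994, 13, 0, -466] [(false, 293), (false, 293), (false, 313), (false, 293), (false, 293), (false, 313), (false, 293)],
  .conv 4 [2, 1, 7, 5, 2, 1, 7, 5, 2] 4 [6, 2, 5, 6, 7, 3, 7, 3, 6, 0, 7, 7, 1] [6701, -13882, 1320, 11267, -9720, 1512, 4718, 5822, -2845, -66, 1963, 4, 1, -682] 673 [8, 9, 13, 14, 8, 15] 680,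
  .prod 4 [7, 5, 2, 1, 8, 0, 7, 3, 7, 1, 2, 1, 7, 7, 0] [5541, -11558, 1391, 9749, -8673, 459, 3943, 4494, -2487, -4, 1662, 15, 0, -278] [(false, 293), (false, 293), (false, 313), (false, 293), (false, 293), (false, 313), (false, 313), (false, 313), (false, 293), (false, 313), (false, 313), (false, 293), (false, 293)],
  .conv 4 [3, 2, 1, 0, 3, 6, 2, 3] 2 [6, 7, 1, 2, 3, 7, 7, 6, 2, 1, 2, 3, 0, 7, 6, 5] [2953, -6321, 861, 5429, -4973, 37, 2276, 2284, -1383, 9, 914, 13, -2, -68] 354 [5, 6, 4, 7, 8, 6, 13] 682,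
  .prod 4 [6, 2, 2, 6, 7, 8, 7, 3, 2, 6, 6, 7, 1, 0, 6] [1318, -2764, 498, 2542, -2394, -338, 934, 892, -666, 28, 416, 10, 0, 96] [(false, 313), (false, 313), (false, 293), (false, 313), (false, 313), (false, 293), (false, 293), (false, 313), (false, 313), (false, 293), (false, 313), (false, 293), (false, 293), (false, 313)],
  .conv 4 [6, 7, 1, 8, 7, 5, 1, 7, 1, 8, 7, 7, 5, 2] 2 [2, 8, 0, 7, 0, 1, 1, 7, 6, 8, 7, 6, 7, 5] [-1271, 2472, -33, -1778, 1307, -760, -730, -1318, 438, 41, -332, 8, -2, 306] 354 [1, 5, 6, 7, 14, 2, 13, 14] 684,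
  .prod 4 [7, 6, 6, 2, 1, 8, 2, 1, 3, 7, 3, 7, 0, 8] [2519, -5264, 741, 4577, -4158, -82, 1790, 1928, -1179, 17, 769, 11, 0, -21] [(false, 293), (false, 293), (false, 313), (false, 293), (false, 313), (false, 313), (false, 313), (false, 293), (false, 293), (false, 313), (false, 313), (false, 313), (false, 293)],
  .conv 4 [5, 6, 7, 5, 1, 2, 3, 2, 1, 0, 3, 6, 2, 3] 2 [1, 8, 7, 5, 2, 8, 7, 5, 3, 2, 3, 6, 7, 7, 5, 7] [-70, -26, 210, 257, -457, -506, 126, -282, -75, 30, 21, 9, -2, 189] 354 [5, 2, 7, 14, 9, 5] 686,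
  .prod 4 [7, 6, 2, 5, 1, 5, 3, 6, 2, 3, 0, 2, 6, 5] [9764, -20352, 2284, 16956, -14952, 1256, 6952, 8096, -4308, -36, 2908, 20, 0, -652] [(false, 293), (false, 293), (false, 313), (false, 293), (false, 313), (false, 293), (false, 313), (false, 293), (false, 293), (false, 313), (false, 293), (false, 293)],
  .conv 4 [3, 6, 6, 5, 7, 1, 8, 5, 6, 7, 8, 7, 1, 2, 2] 3 [5, 1, 1, 7, 5, 6, 2, 5, 8, 2, 0, 2, 0, 2, 6, 0] [19776, -38098, 3899, 32164, -26790, 1926, 10110, 16638, -8204, -73, 5543, 12, -38, -1033] 267 [6, 5, 8, 9, 14, 15, 14] 688,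
  .prod 4 [6, 7, 3, 2, 5, 7, 1, 3, 0, 7, 6, 7, 0, 3] [-1084, 2236, 12, -1528, 1134, -850, -778, -1180, 360, 50, -290, 8, 0, 330] [(false, 293), (false, 313), (false, 313), (false, 293), (false, 293), (false, 313), (false, 313), (false, 313), (false, 293), (false, 313), (false, 313), (false, 293), (false, 313), (false, 313), (false, 313), (false, 293)],
  .conv 4 [7, 0, 6, 2, 8, 5, 6, 2, 1, 0, 3, 6, 2, 1, 3] 2 [7, 7, 6, 2, 3, 7, 5, 6, 5, 1, 1, 7, 8, 7, 7] [-3673, 7474, -518, -5848, 4835, -1272, -2445, -3390, 1464, 63, -1038, 6, -2, 540] 354 [2, 6, 7, 10, 9, 6] 690,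
  .prod 3 [6, 6, 7, 5, 8, 2, 6, 5, 2, 3, 7, 1, 7] [-5844, 11318, -1081, -9420, 7815, -688, -3077, -4901, 2421, 22, -1636, 2, 14, 393] [(false, 208), (false, 208), (false, 208), (false, 229), (false, 208)],
  .conv 3 [0, 0, 7, 1, 7, 8, 7, 6, 3, 7, 6, 5, 3, 7, 7, 6] 2 [1, 7, 7, 3, 6, 5, 7, 1, 7, 8, 7, 5, 1, 7, 0] [-5771, 11133, -1067, -9284, 7687, -668, -2984, -4846, 2386, 21, -1611, 2, 13, 376] 213 [5, 6, 15, 3, 13, 1, 14] 692,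
  .prod 2 [3, 6, 6, 7, 8, 7, 3, 0, 6, 7, 5, 7, 0, 3] [-125, 261, -26, -210, 185, -22, -90, -102, 54, 1, -37, 0, 0, 13] [(false, 100), (false, 100), (false, 80), (false, 108), (false, 80), (false, 66)],
  .conv 2 [6, 5, 8, 1, 7, 6, 7, 3, 7, 0, 7] 4 [3, 6, 5, 2, 1, 7, 5, 1, 1, 3, 7, 5, 7, 8, 2] [2543, -5201, 527, 4278, -3690, 405, 1690, 2152, -1088, -13, 738, 2, 1, -207] 274 [1, 4, 7, 5, 3, 14] 694,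
  .loopT 4 [7, 6, 7, 3, 2, 8, 2, 6, 7, 6, 7, 0, 6, 7] 3 [1, 0, 7, 0, 2, 8, 5, 7, 3, 2, 1, 7, 5, 2] [3228, -5932, 540, 5006, -3997, 263, 1294, 2694, -1298, -8, 874, -4, -14, -169] 5 [693, 695],
  .conv 4 [1, 8, 5, 6, 7, 5, 3, 6, 6, 7, 6, 7, 7] 3 [7, 8, 7, 5, 6, 6, 5, 1, 2, 1, 1, 7, 8, 2, 2] [3227, -5931, 541, 5006, -3997, 263, 1295, 2695, -1298, -8, 874, -4, -14, -169] 696 [0, 15, 10, 13, 14, 9, 5] 268,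
  .prod 3 [8, 2, 1, 7, 1, 2, 8, 6, 7, 1, 7, 0, 7, 5, 2, 1] [-4310, 8099, -761, -6808, 5530, -435, -1949, -3644, 1746, 17, -1181, 2, 12, 246] [(false, 208), (false, 208), (false, 229), (false, 208), (false, 188), (false, 188)],
  .conv 3 [3, 7, 6, 2, 2, 8, 7, 3, 7, 5, 3, 2, 5, 2, 1] 4 [2, 0, 7, 1, 5, 7, 3, 7, 7, 1, 1, 7, 0] [-7126, 12784, -1188, -10946, 8605, -534, -2439, -6133, 2787, 32, -1890, 3, 24, 281] 530 [0, 9, 14, 1, 5] 698,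
  .loopT 4 [6, 0, 7, 8, 6, 7, 0, 7, 6, 0, 7, 0, 3, 7] 4 [2, 0, 7, 7, 8, 7, 5, 2, 1, 2, 1, 5, 1, 7, 3] [3899, -6853, 647, 5940, -4608, 271, 1144, 3438, -1489, -24, 1017, 1, -10, -112] 6 [697, 699],
  .prod 4 [7, 7, 5, 2, 5, 2, 8, 1, 2, 0, 7, 7, 6, 6, 2] [-1743, 3618, -237, -2799, 2331, -681, -1245, -1626, 693, 36, -498, 3, 0, 282] [(false, 293), (false, 313), (false, 293), (false, 313), (false, 313), (false, 313), (false, 293), (false, 313), (false, 313)],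
  .conv 4 [3, 2, 1, 0, 3, 6] 4 [8, 5, 1, 5, 7, 0, 1, 5, 3, 7, 0, 7, 1] [2156, -3234, 409, 3141, -2277, -410, -102, 1812, -796, 12, 519, 4, -10, 170] 700 [7, 6, 2, 9, 15] 701,
  .prod 4 [2, 6, 2, 5, 7, 8, 1, 7, 1, 8, 2, 1, 2, 6] [6161, -12852, 1555, 10851, -9660, 488, 4384, 4988, -2769, -3, 1849, 17, 0, -301] [(false, 293), (false, 293), (false, 313), (false, 313), (false, 293), (false, 313), (false, 313), (false, 313), (false, 293), (false, 293), (false, 313), (false, 293), (false, 293), (false, 313), (false, 293)]]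

/-- Chunk 22 of the facts. -/
def items22 : List Item := [
  .conv 4 [2, 0, 7, 5, 7, 6, 5, 1, 3, 0, 7, 1, 0, 6, 8] 2 [5, 2, 3, 1, 7, 5, 1, 3, 7, 6, 7, 1, 2, 3] [3788, -7996, 1064, 6853, -6215, 109, 2805, 2978, -1752, 9, 1160, 15, -1, -106] 277 [7, 10, 6, 15, 2] 703,
  .prod 4 [7, 7, 3, 6, 7, 1, 2, 8, 7, 7, 0, 6, 2, 5] [698, -1470, 334, 1440, -1407, -367, 493, 398, -384, 27, 229, 8, 0, 119] [(false, 293), (false, 313), (false, 313), (false, 293), (false, 313), (false, 293), (false, 313), (false, 313), (false, 293), (false, 293), (false, 313), (false, 313)],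
  .conv 4 [5, 6, 7, 5, 1, 2, 3, 2, 1, 0, 3, 6] 3 [7, 1, 2, 1, 1, 8, 7, 5, 2, 1, 8, 2, 0, 7, 0] [4390, -7333, 780, 6578, -5021, -358, 785, 3509, -1730, 24, 1130, -2, -29, 53] 547 [14, 12, 13, 10] 705,
  .prod 4 [3, 1, 2, 5, 8, 7, 6, 3, 7, 0, 2, 1, 0, 3, 7] [3720, -7764, 984, 6612, -5922, 174, 2646, 2964, -1692, 6, 1122, 12, 0, -138] [(false, 313), (false, 293), (false, 293), (false, 313), (false, 293), (false, 313), (false, 293), (false, 293), (false, 313), (false, 313), (false, 313), (false, 293)],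
  .conv 4 [7, 0, 6, 2, 8, 5, 2, 3, 6, 0, 1, 0, 1, 1] 2 [2, 3, 7, 1, 8, 5, 7, 3, 2, 6, 6, 0, 2] [1346, -2908, 493, 2614, -2477, -206, 1066, 953, -675, 18, 433, 10, -1, 57] 277 [0, 5, 6, 5, 0, 7, 8, 6, 13] 707,
  .prod 4 [7, 7, 3, 7, 6, 6, 5, 5, 2, 8, 2, 5, 6, 7, 6, 2] [4340, -9058, 1148, 7714, -6909, 203, 3087, 3458, -1974, 7, 1309, 14, 0, -161] [(false, 293), (false, 313), (false, 313), (false, 293), (false, 313), (false, 293), (false, 313), (false, 293), (false, 293), (false, 313), (false, 293), (false, 313), (false, 293), (false, 313)],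
  .conv 4 [2, 1, 1, 5, 2, 8, 5, 1, 1, 7, 7, 8, 7, 1, 0] 2 [8, 0, 7, 1, 5, 7, 1, 3, 7, 0, 3, 7] [1967, -4204, 658, 3716, -3464, -174, 1510, 1448, -957, 19, 620, 12, -1, 34] 277 [1, 1, 10, 13, 14, 13] 709,
  .prod 4 [0, 2, 3, 2, 8, 7, 1, 3, 0, 1, 2, 5, 3, 2] [39, -88, 85, 169, -210, -198, 26, -48, -51, 13, 21, 3, 0, 71] [(false, 313), (false, 293), (false, 313), (false, 293), (false, 313)],
  .conv 4 [3, 2, 6, 0, 2, 1, 3, 7] 2 [2, 1, 1, 7, 1, 3, 2, 1, 0, 2, 5, 1] [-1708, 3451, -274, -2752, 2295, -457, -1093, -1526, 693, 20, -481, 2, -1, 205] 300 [2, 5, 6, 10, 5, 15, 14] 711,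
  .prod 4 [1, 2, 6, 7, 3, 7, 1, 0, 2, 6, 0, 3, 7, 5] [4301, -8970, 1063, 7545, -6699, 401, 3061, 3506, -1923, -6, 1288, 11, 0, -232] [(false, 293), (false, 313), (false, 293), (false, 293), (false, 313), (false, 313), (false, 313), (false, 293), (false, 293)],
  .conv 4 [6, 7, 1, 5, 2, 5, 8, 7, 1, 1, 3, 2, 6, 2, 8] 2 [7, 8, 2, 6, 7, 5, 6, 7, 6, 0, 2, 8, 2, 6] [2554, -5431, 703, 4624, -4194, 143, 1941, 2026, -1179, 1, 786, 10, -1, -98] 300 [1, 6, 2, 7, 5, 9] 713,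
  .prod 1 [5, 6, 7, 6, 0, 2, 1, 0, 7] [-10, 19, -2, -17, 15, 0, -5, -6, 6, 0, -4, 0, 0, 0] [(false, 27), (false, 27), (false, 34), (false, 18), (false, 27), (false, 18), (false, 18), (false, 34), (false, 27)],
  .conv 1 [2, 8, 7, 7, 8, 2, 3, 7, 1, 3, 2, 6, 2] 3 [6, 5, 6, 7, 8, 2, 1, 5, 7, 3, 7, 0, 2] [3529, -6514, 600, 5488, -4397, 334, 1452, 3002, -1409, -13, 952, -3, -12, -189] 245 [3, 4, 5, 9] 715,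
  .prod 3 [6, 2, 1, 5, 1, 2, 8, 5, 2, 6, 6, 7, 7, 6, 5, 2] [-8476, 15439, -1432, -13124, 10430, -702, -3205, -7216, 3357, 34, -2272, 4, 27, 390] [(false, 229), (false, 188), (false, 229)],
  .conv 3 [1, 7, 1, 7, 5, 8, 7, 5, 7, 1, 7, 7, 1, 8, 7, 1] 4 [0, 2, 1, 0, 7, 7, 0, 6, 2, 0] [-8475, 15439, -1431, -13124, 10430, -704, -3205, -7214, 3357, 34, -2272, 4, 27, 390] 264 [5, 15, 10, 5, 8, 15] 717,
  .loopT 4 [1, 5, 1, 8, 7, 0, 6, 7, 7, 3, 7, 3, 7, 6, 7] 1 [0, 2, 8, 2, 5, 6, 7, 3, 2, 1, 7, 7, 8, 2, 6] [4946, -8925, 831, 7636, -6033, 370, 1753, 4212, -1948, -21, 1321, -1, -15, -201] 6 [716, 718],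
  .conv 4 [5, 8, 6, 7, 6, 0, 7, 8, 7, 5, 1, 1, 7] 1 [7, 7, 5, 2, 5, 1, 5, 3, 2, 1, 1, 2, 3, 2, 3] [4946, -8923, 829, 7636, -6033, 370, 1752, 4212, -1948, -21, 1321, -1, -15, -201] 719 [2, 9, 2, 9, 6] 268,
  .prod 4 [6, 0, 1, 7, 3, 1, 7, 7, 1, 5, 7, 6, 2, 3, 2] [2441, -5088, 571, 4239, -3738, 314, 1738, 2024, -1077, -9, 727, 5, 0, -163] [(false, 293), (false, 313), (false, 293)],
  .conv 4 [8, 0, 2, 5, 1, 8, 7, 3, 2, 1, 8, 7, 0, 6, 5] 2 [8, 0, 1, 7, 7, 6, 7, 3, 2, 1, 3, 2, 1, 3, 7] [694, -1549, 212, 1317, -1232, 58, 619, 545, -333, -2, 225, 4, -1, -29] 300 [7, 12, 14, 13, 3, 6, 15] 721,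
  .prod 4 [1, 1, 7, 1, 7, 6, 3, 7, 1, 8, 2, 6, 7, 6] [6703, -13970, 1549, 11615, -10227, 913, 4773, 5578, -2949, -28, 1994, 13, 0, -466] [(false, 293), (false, 313), (false, 293), (false, 293), (false, 313), (false, 293), (false, 293)],
  .conv 4 [0, 2, 8, 7, 7, 8, 1, 0, 6, 2, 3, 7, 1, 0] 2 [3, 2, 1, 0, 1, 7, 5, 3, 7, 0, 7, 1, 0, 2, 0] [4956, -10431, 1191, 8695, -7722, 657, 3656, 4099, -2205, -21, 1492, 12, -1, -332] 300 [11, 13, 14, 10, 14] 723,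
  .prod 4 [8, 2, 6, 5, 7, 7, 3, 7, 6, 2, 0, 2, 6] [4301, -8970, 1063, 7545, -6699, 401, 3061, 3506, -1923, -6, 1288, 11, 0, -232] [(false, 293), (false, 313), (false, 293), (false, 313), (false, 293), (false, 293), (false, 313), (false, 293), (false, 313)],
  .conv 4 [3, 2, 0, 6, 2, 2, 3, 2] 3 [6, 6, 2, 5, 2, 3, 7, 6, 5, 1, 3, 7, 0] [10989, -20682, 2164, 17698, -14558, 837, 4980, 9364, -4481, -44, 3032, 10, -18, -425] 580 [14, 10, 11, 7, 5] 725,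
  .prod 4 [2, 2, 6, 6, 7, 8, 6, 5, 7, 1, 1, 5, 6, 7, 0, 7] [1899, -3970, 577, 3475, -3171, -111, 1349, 1434, -897, 16, 582, 9, 0, 2] [(false, 313), (false, 293), (false, 313), (false, 293), (false, 293), (false, 313), (false, 293), (false, 313), (false, 313), (false, 313), (false, 293)],
  .conv 4 [2, 0, 7, 3, 2, 1, 7, 1, 7, 6, 2, 8, 7, 0, 1] 3 [1, 0, 2, 0, 1, 7, 3, 2, 1, 7, 5, 7, 7, 8] [8587, -15680, 1676, 13627, -11030, 325, 3266, 7292, -3455, -22, 2326, 8, -18, -191] 580 [2, 9, 6, 7, 5, 9] 727,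
  .prod 4 [7, 3, 1, 2, 8, 6, 5, 6, 2, 5, 6, 7, 7, 1, 1] [4882, -10176, 1142, 8478, -7476, 628, 3476, 4048, -2154, -18, 1454, 10, 0, -326] [(false, 293), (false, 293), (false, 313), (false, 293), (false, 313), (false, 293)],
  .conv 4 [5, 6, 7, 5, 1, 2, 3, 2, 0, 6, 2, 2, 3, 2] 3 [8, 6, 5, 7, 8, 1, 7, 6, 0, 1, 1, 5, 1] [11568, -21889, 2242, 18630, -15335, 1064, 5393, 9906, -4712, -56, 3198, 9, -18, -519] 580 [0, 0, 5, 6, 1, 7] 729,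
  .prod 4 [0, 1, 2, 2, 1, 7, 8, 7, 6, 0, 6, 2, 0, 3, 6] [1279, -2676, 413, 2373, -2184, -140, 908, 940, -615, 15, 395, 7, 0, 25] [(false, 293), (false, 313), (false, 313), (false, 293), (false, 313), (false, 313), (false, 293), (false, 293), (false, 313)],
  .conv 4 [3, 2, 0, 1, 8, 7, 7, 6, 6, 2, 3, 2, 5, 3, 7, 1] 2 [7, 6, 0, 2, 0, 6, 5, 2, 1, 3, 7, 8, 2, 1, 2] [-1094, 2180, -78, -1625, 1261, -519, -669, -1069, 402, 27, -294, 5, -1, 220] 277 [0, 14, 15, 8] 731,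
  .prod 2 [8, 5, 1, 2, 1, 1, 7, 7, 3, 2, 6, 7, 1, 2, 0] [24, -41, 4, 37, -26, 4, 5, 26, -9, 0, 6, 0, 0, 0] [(false, 100), (false, 100), (false, 66), (false, 80)],
  .conv 2 [7, 6, 2, 5, 1, 1, 7, 5, 3, 7, 6, 7, 0, 3, 6, 6] 2 [0, 1, 7, 6, 2, 2, 6, 3, 7, 0, 6, 5, 2, 2, 8] [30, -56, 4, 46, -36, 0, 8, 30, -13, 1, 8, 0, 0, -1] 98 [0, 0, 14, 1, 7, 14] 733,
  .prod 2 [7, 5, 7, 0, 7, 6, 6, 2, 8, 2, 1, 5, 7, 1, 2] [61, -127, 13, 106, -90, 10, 41, 55, -27, 0, 18, 0, 0, -4] [(false, 100), (false, 66), (false, 80), (false, 80), (false, 66), (false, 80)]]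

/-- Chunk 23 of the facts. -/
def items23 : List Item := [
  .conv 2 [2, 3, 6, 7, 8, 6, 2, 1, 1, 5, 3, 7, 0, 7] 4 [5, 7, 6, 2, 2, 3, 6, 7, 3, 6, 7, 6, 5] [2868, -5875, 589, 4829, -4163, 479, 1918, 2439, -1226, -16, 833, 2, 1, -239] 310 [5, 6, 2, 15, 9, 14, 13] 735,
  .loopT 4 [7, 3, 2, 1, 7, 1, 1, 5, 2, 3, 2, 2, 6, 7, 3, 2] 4 [1, 1, 2, 5, 6, 7, 1, 3, 0, 2, 5, 7, 7, 6] [-1804, 3751, -515, -3250, 2938, 40, -1257, -1400, 839, -12, -547, -7, 1, 20] 12 [732, 734, 736],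
  .prod 4 [7, 5, 1, 7, 8, 7, 7, 6, 7, 3, 6, 6, 2, 3] [7323, -15264, 1713, 12717, -11214, 942, 5214, 6072, -3231, -27, 2181, 15, 0, -489] [(false, 293), (false, 293), (false, 313), (false, 293), (false, 293), (false, 313), (false, 293), (false, 313), (false, 293)],
  .conv 4 [5, 8, 7, 6, 7, 5, 7, 1, 5, 6, 7, 3, 2, 5] 4 [1, 2, 0, 7, 5, 6, 6, 2, 3, 2, 1, 2, 0, 8, 2] [5519, -11512, 1197, 9467, -8276, 981, 3957, 4674, -2392, -39, 1634, 8, 1, -469] 737 [15, 9, 6, 5, 2, 15, 14] 738,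
  .prod 4 [8, 0, 2, 1, 7, 1, 5, 3, 2, 3, 2, 6, 7, 6, 6] [1899, -3970, 577, 3475, -3171, -111, 1349, 1434, -897, 16, 582, 9, 0, 2] [(false, 293), (false, 313), (false, 313), (false, 293), (false, 313), (false, 293), (false, 313), (false, 293), (false, 313), (false, 293), (false, 313)],
  .conv 4 [7, 1, 8, 2, 8, 6, 5, 1, 0, 7, 6, 6, 7, 0, 1] 3 [2, 0, 1, 7, 5, 7, 8, 5, 7, 0, 3, 7, 1, 1, 0, 2] [8587, -15683, 1677, 13628, -11031, 324, 3266, 7293, -3455, -22, 2326, 8, -18, -191] 580 [1, 5, 6, 5, 4, 11] 740,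
  .root [5, 2, 2, 1, 1, 7, 3, 2, 1, 0, 8, 7, 6, 2],
  .conv 0 [5, 2, 2, 1, 1, 7, 3, 2, 1, 0, 8, 7, 6, 2] 1 [] [0, 0, 0, 0, 0, 0, 0, 0, 0, 0, 0, 0, 0, 0] 0 [] 742,
  .conv 1 [5, 5] 0 [7, 6, 6, 0, 6, 7, 3, 6, 7, 1, 0, 7, 1, 3] [0, 0, 0, 0, 0, 2, 0, 0, 1, 0, 0, 0, 0, 0] 13 [13, 13] 14,
  .loopS 0 [8, 7, 6, 6, 5, 8, 7, 1, 3, 7, 0, 2, 1, 0, 6] [0, 0, 0, 0, 0, -2, 0, 0, 0, 0, 0, 0, 0, 0] 1 [743, 744],
  .root [1, 5, 6, 7, 5, 2, 8, 6, 2, 3, 0, 1, 1, 2, 3],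
  .prod 0 [] [0, 0, 0, 0, 0, -2, 0, 0, 0, 0, 0, 0, 0, 0] [(false, 745), (false, 746)],
  .prod 1 [] [0, -8, 0, 8, -8, 0, 8, 0, 0, 0, 0, 0, 0, 0] [(false, 18), (false, 18), (false, 18), (false, 18), (false, 18), (false, 18), (false, 18), (false, 18)],
  .conv 1 [6, 7, 6, 2, 3, 5, 7, 0, 1, 2, 2, 8, 2, 2, 1] 1 [7, 7, 8, 7, 0, 1, 2, 6, 7, 3, 2, 6, 8, 2] [0, 1, 0, 0, 0, 2, 3, 0, -1, 0, 1, 0, 0, 0] 25 [14, 13, 10, 14, 2, 13] 14,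
  .conv 1 [7, 7, 1, 2, 3, 7, 8, 2, 3, 2, 3, 6, 5, 1, 2] 1 [6, 2, 2, 8, 7, 0, 1, 2, 2, 8, 7, 6, 2, 0] [1, 0, 0, 0, -1, 0, 0, -1, -1, 0, 1, 0, 0, 0] 25 [4, 7, 8, 6, 1] 14,
  .loopT 1 [6, 2, 8, 7, 7, 5, 1, 7, 7, 3, 7, 6, 2, 0] 1 [7, 7, 1, 2, 3, 7, 8, 2, 3, 2, 3, 6, 5, 1, 2] [-1, 0, 0, 0, 1, 0, 0, 1, 2, 0, -1, 0, 0, 0] 1 [750],
  .conv 1 [7, 7, 8, 7, 0, 1, 2, 6, 7, 3, 2, 6, 8, 2] 1 [1, 2, 3, 6, 6, 7, 5, 1, 7, 0, 3, 2, 0, 1, 2] [-1, 1, 0, -1, 0, 1, 0, 0, 2, 0, -1, 0, 0, 0] 751 [7, 3, 4, 13, 9] 14,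
  .loopS 1 [] [1, -2, 0, 1, 0, -3, -3, 0, 0, 0, 0, 0, 0, 0] 0 [749, 752],
  .prod 1 [] [1, -2, 0, 1, 0, -3, -3, 0, 0, 0, 0, 0, 0, 0] [(false, 753)],
  .conv 1 [1, 0, 7, 0, 7, 5, 8, 6, 7, 6, 0, 7, 6, 8, 7, 0] 1 [1, 2, 2, 8, 6, 7, 3, 2, 2, 3, 7, 1, 8, 2] [-1, -2, -1, 0, 1, -1, 0, 1, 2, 0, -1, 0, 0, 0] 751 [1, 1, 2, 7, 5, 15] 14,
  .conv 1 [3, 2, 0, 7, 1, 5, 2, 3, 0, 7, 3, 2, 1, 5] 1 [1, 0, 7, 0, 7, 5, 8, 6, 7, 6, 0, 7, 6, 8, 7, 0] [-1, 1, -1, 0, 0, 1, 2, 1, -1, 0, 1, 0, 0, 0] 25 [15, 0, 13, 2, 14] 14,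
  .loopS 1 [] [2, 1, 2, 0, -1, 0, -2, -2, 0, 0, 0, 0, 0, 0] 1 [755, 756],
  .prod 1 [] [2, 1, 2, 0, -1, 0, -2, -2, 0, 0, 0, 0, 0, 0] [(false, 757)],
  .root [6, 2, 1, 1, 5, 8, 7, 6, 7, 7, 3, 7, 0, 1, 8],
  .conv 0 [6, 2, 1, 1, 5, 8, 7, 6, 7, 7, 3, 7, 0, 1, 8] 1 [] [0, 0, 0, 0, 0, 0, 0, 0, 0, 0, 0, 0, 0, 0] 0 [] 759,
  .conv 1 [7, 1, 2, 8, 7, 6, 0, 7, 3, 2, 5, 2, 1] 1 [2, 6, 2, 2, 0, 2, 8, 1, 2, 2, 6, 5, 7, 1, 3] [-1, 0, 0, 0, 2, -1, 0, 2, 2, 0, -1, 0, 0, 0] 751 [11, 5, 3, 15, 12] 14,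
  .prod 1 [1, 1, 2, 6, 6, 0, 7, 0] [0, -6, 0, 6, -6, 0, 6, 0, 0, 0, 0, 0, 0, 0] [(false, 18), (false, 18), (false, 18), (false, 18), (false, 18), (false, 18)],
  .conv 1 [6, 2, 1, 8, 7, 5, 6, 6, 2, 0, 2, 2, 8, 7, 5] 1 [1, 0, 2, 3, 7, 6, 0, 7, 6, 8, 7, 1, 7] [0, -4, 0, 8, -6, 0, 6, 1, -1, 0, 1, 0, 0, 0] 25 [6, 11, 15, 9, 11] 762,
  .loopT 1 [7, 3, 1, 5, 7, 3, 0, 2, 0, 6, 7, 1, 8] 1 [5, 5, 2, 8, 7, 8, 2, 3, 2, 0, 3, 7, 1, 7] [1, 4, 0, -8, 4, 1, -6, -3, -1, 1, 0, 0, 0, 0] 2 [761, 763],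
  .prod 1 [7, 5, 5, 1, 5, 1, 1, 7, 1, 1] [0, -7, 0, 7, -7, 0, 7, 0, 0, 0, 0, 0, 0, 0] [(false, 18), (false, 18), (false, 18), (false, 18), (false, 18), (false, 18), (false, 18)],
  .conv 1 [3, 5, 6, 7, 6, 0, 7, 0, 3, 6, 2, 6, 6, 5, 6] 1 [8, 7, 6, 0, 7, 5, 3, 7, 6, 5, 2, 1, 1, 0] [1, -3, -1, -2, -3, 0, 2, -4, -1, 1, 0, 0, 0, 0] 764 [2, 14, 3, 7, 5] 765,
  .conv 1 [2, 6, 5, 7, 7, 1, 1, 5] 0 [2, 3, 1, 2, 5, 7, 5, 3, 7, 3, 6, 0, 7, 0, 8] [0, 0, 0, -1, 0, 1, 0, 1, 1, 0, 0, 0, 0, 0] 13 [14, 13, 3, 6, 15] 14]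

/-- Chunk 24 of the facts. -/
def items24 : List Item := [
  .loopS 0 [6, 7, 0, 2, 0, 6, 2, 3, 7, 3, 6, 2, 3, 6] [-1, 3, 1, 3, 3, -1, -2, 3, 0, -1, 1, 0, 0, 0] 7 [760, 766, 767],
  .root [1, 8, 7, 1, 8, 2, 8, 7, 1, 5, 7, 5, 2, 1],
  .prod 0 [] [-1, 3, 1, 3, 3, -1, -2, 3, 0, -1, 1, 0, 0, 0] [(false, 768), (false, 769)],
  .conv 1 [6, 2, 2, 5, 8, 6, 6, 7, 6, 0, 7, 6, 8, 7, 5] 1 [6, 0, 2, 5, 2, 5, 1, 3, 7, 6, 0, 7, 1, 3] [0, 0, -1, -1, 1, 1, 0, 0, 2, 0, -1, 0, 0, 0] 751 [13, 2, 8, 3, 7] 14,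
  .conv 1 [6, 5, 2, 5, 2, 5, 1, 3, 7, 6, 0, 7, 1, 3] 1 [6, 2, 2, 5, 8, 6, 6, 7, 6, 0, 7, 6, 8, 7, 5] [0, 0, -1, -1, 0, 1, 0, 0, -1, 0, 1, 0, 0, 0] 25 [13, 2, 3, 6, 1] 14,
  .loopS 1 [] [0, 0, 2, 2, -1, -2, 0, 0, 0, 0, 0, 0, 0, 0] 1 [771, 772],
  .prod 1 [] [0, 0, 2, 2, -1, -2, 0, 0, 0, 0, 0, 0, 0, 0] [(false, 773)],
  .conv 1 [5, 6, 7, 5, 2, 1, 2, 3, 2, 6, 0, 2, 1, 8] 1 [8, 6, 5, 7, 5, 1, 7, 3, 7, 0, 2, 1] [-2, 0, -1, 0, 0, 0, 0, 0, -1, 0, 1, 0, 0, 0] 25 [1, 6, 0, 0, 2] 14,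
  .conv 1 [7, 8, 7, 6, 0, 7, 0, 1, 0, 3, 2, 1] 1 [5, 6, 7, 5, 2, 1, 2, 3, 2, 6, 0, 2, 1, 8] [-2, 0, 1, 0, 1, -2, 0, 0, 2, 0, -1, 0, 0, 0] 751 [5, 5, 7, 10, 0] 14,
  .loopS 1 [] [4, 0, 0, 0, -1, 2, 0, 0, 0, 0, 0, 0, 0, 0] 1 [775, 776],
  .prod 1 [] [4, 0, 0, 0, -1, 2, 0, 0, 0, 0, 0, 0, 0, 0] [(false, 777)],
  .conv 1 [7, 1, 1, 8, 2, 8, 7, 3, 6, 7, 7, 0, 6, 7, 8] 1 [8, 7, 6, 0, 7, 5, 3, 2, 0, 2, 1, 5, 7, 0] [-2, -1, -1, 1, 1, 0, 2, 2, 2, 0, -1, 0, 0, 0] 751 [0, 2, 12, 14, 15] 18,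
  .conv 1 [8, 7, 6, 0, 7, 5, 3, 2, 0, 2, 1, 5, 7, 0] 1 [6, 6, 7, 5, 8, 6, 7, 6, 0, 7, 5, 3, 2, 2, 1] [0, 2, 2, 0, 0, 0, 1, 0, -1, 0, 1, 0, 0, 0] 25 [9, 14, 10, 6, 10] 14,
  .loopS 1 [7, 5, 5, 1, 5, 1, 1, 7, 1, 1] [2, -1, -1, -1, -1, 0, -3, -2, 0, 0, 0, 0, 0, 0] 0 [779, 780],
  .prod 1 [] [2, 6, -1, -8, 6, 0, -10, -2, 0, 0, 0, 0, 0, 0] [(false, 781), (true, 18), (true, 18), (true, 18), (true, 18), (true, 18), (true, 18), (true, 18)],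
  .prod 1 [] [1, -1, 0, 0, 0, 0, -1, 1, 0, 0, 0, 0, 0, 0] [(false, 27), (false, 18), (false, 27), (false, 27), (false, 27), (false, 27), (false, 18), (false, 27), (false, 18), (true, 27), (true, 18), (true, 27), (true, 27), (true, 27), (true, 18), (true, 27), (true, 18)],
  .root [0, 2, 1, 0, 2, 8, 7, 5, 3, 6, 7, 0, 2, 8, 2, 1],
  .conv 0 [0, 2, 1, 0, 2, 8, 7, 5, 3, 6, 7, 0, 2, 8, 2, 1] 1 [] [0, 0, 0, 0, 0, 0, 0, 0, 0, 0, 0, 0, 0, 0] 0 [] 784,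
  .conv 1 [3, 5, 6, 7, 6, 0, 7, 0, 3, 6, 2, 6, 6, 5, 6] 1 [2, 8, 7, 6, 0, 7, 3, 7, 6, 2, 1, 2, 5, 5] [1, 1, 0, -1, 0, -1, 0, 0, -1, 0, 1, 0, 0, 0] 25 [6, 3, 7, 5, 9, 14] 27,
  .conv 1 [7, 7, 6, 2, 1, 7, 7, 5] 0 [3, 1, 7, 7, 6, 2, 3, 0, 1, 2, 1, 5, 7] [0, -1, 0, -1, 0, -1, -2, 0, 1, 0, 0, 0, 0, 0] 13 [3, 6, 1, 6, 5] 14,
  .loopS 0 [0, 2, 8, 7, 8, 7, 3, 6, 2, 3, 0, 6, 2, 0] [-1, 0, 0, 2, 0, 2, 2, 0, 0, 0, 0, 0, 0, 0] 7 [785, 786, 787],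
  .root [5, 7, 1, 5, 8, 7, 1, 8, 2, 3, 2, 3, 7, 5],
  .prod 0 [] [-1, 0, 0, 2, 0, 2, 2, 0, 0, 0, 0, 0, 0, 0] [(false, 788), (false, 789)],
  .prod 1 [] [23, -43, 3, 32, -29, 0, 6, 17, -9, 0, 6, 0, 0, 0] [(false, 18), (false, 27), (false, 18), (false, 27), (false, 27), (false, 34), (false, 27), (true, 34), (true, 34), (true, 34), (true, 27), (true, 34), (true, 27)],
  .prod 1 [] [-4, 12, -1, -12, 11, 0, -7, -2, 3, 0, -2, 0, 0, 0] [(false, 18), (false, 27), (false, 27), (false, 27), (false, 34), (false, 34), (false, 27), (true, 34), (true, 18), (true, 18), (true, 18), (true, 27)],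
  .conv 1 [7, 1, 1, 0, 1, 5, 7, 1, 5] 0 [0, 2, 8, 2, 0, 7, 6, 3, 0, 6, 6, 2, 3, 6, 2] [1, 0, 0, 0, 0, 0, 1, 0, 1, 0, 0, 0, 0, 0] 13 [14, 8] 14,
  .root [0, 2, 8, 2, 0, 7, 6, 3, 0, 6, 6, 2, 3, 6, 2],
  .conv 0 [0, 2, 8, 2, 0, 7, 6, 3, 0, 6, 6, 2, 3, 6, 2] 1 [] [0, 0, 0, 0, 0, 0, 0, 0, 0, 0, 0, 0, 0, 0] 0 [] 794,
  .loopS 1 [1, 0, 6, 0, 1, 2, 6, 0, 2] [-1, 0, 0, 0, 0, 0, -1, 0, 0, 0, 0, 0, 0, 0] 0 [793, 795],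
  .prod 1 [] [16, -32, 3, 27, -24, 0, 6, 11, -9, 0, 6, 0, 0, 0] [(false, 796), (true, 34), (true, 27), (true, 27), (true, 27), (true, 34), (true, 18), (true, 34), (true, 18), (true, 18), (true, 27)],
  .prod 1 [1, 0, 2, 6, 6, 7, 5, 1, 2, 1] [-12, 24, -2, -20, 18, 0, -6, -8, 6, 0, -4, 0, 0, 0] [(false, 27), (false, 34), (false, 34), (false, 27)],
  .conv 1 [5, 7, 5, 2, 3, 7, 6, 0, 7, 8, 7, 1, 5, 1] 1 [2, 2, 0, 6, 7, 3, 7, 6, 0, 7, 3, 6, 2, 0, 7] [-12, 25, -1, -20, 18, 1, -4, -9, 5, 0, -3, 0, 0, 0] 25 [2, 14, 10, 7, 13, 10] 798]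

/-- Chunk 25 of the facts. -/
def items25 : List Item := [
  .prod 1 [1, 2, 0, 0, 1, 7, 0, 6, 6, 2] [1, -2, 0, 1, -1, 0, 0, 1, 0, 0, 0, 0, 0, 0] [(false, 27), (false, 18)],
  .conv 1 [0, 2, 6, 2, 3, 6, 7, 6, 0, 7, 3, 7, 5, 2, 0] 1 [2, 8, 7, 8, 7, 0, 6, 2, 1, 2, 0, 8] [2, -1, -1, 2, -1, 1, 2, 1, -1, 0, 1, 0, 0, 0] 25 [8, 14, 11, 13, 2] 800,
  .prod 1 [1, 1, 2, 0, 7, 6, 2, 2, 6] [1, -4, 0, 3, -3, 0, 2, 1, 0, 0, 0, 0, 0, 0] [(false, 18), (false, 18), (false, 27), (false, 18)],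
  .conv 1 [1, 7, 7, 3, 7, 5, 8, 1, 7, 1, 5, 2, 3, 0, 6] 1 [2, 3, 1, 2, 8, 7, 3, 7, 0, 1, 0, 8, 2, 5] [1, -3, 0, 4, -4, 1, 1, 0, -1, 0, 1, 0, 0, 0] 25 [4, 6, 7, 6, 13, 11] 802,
  .loopS 1 [6, 2, 6, 7, 0, 7, 6, 0, 1] [9, -21, 2, 14, -13, -3, 1, 8, -3, 1, 1, 0, 0, 0] 3 [799, 801, 803],
  .prod 1 [] [41, -79, 7, 60, -54, -3, 10, 30, -18, 1, 11, 0, 0, 0] [(false, 804), (true, 18), (true, 34), (true, 34), (true, 27), (true, 27), (true, 18), (true, 18), (true, 34), (true, 27), (true, 34), (true, 18), (true, 34)],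
  .prod 2 [] [6, 3, 0, 3, 6, 0, -15, 12, 0, 0, 0, 0, 0, 3] [(false, 100), (false, 100), (false, 100)],
  .prod 1 [7, 7, 1, 7, 1, 5, 6, 6, 5, 2] [-4, 6, -1, -6, 5, 0, -1, -2, 3, 0, -2, 0, 0, 0] [(false, 18), (false, 34), (false, 27), (false, 18), (false, 18), (false, 18), (false, 27), (false, 27)],
  .conv 1 [1, 5, 6, 7, 5, 1, 0, 2, 3, 2, 6, 2, 1, 5] 2 [2, 0, 1, 0, 6, 2, 5] [-6, 6, -1, -6, 5, 0, -2, -2, 3, 0, -2, 0, 0, 0] 58 [0, 5, 6, 0, 13] 807,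
  .prod 2 [1, 5, 7, 0, 1, 5, 6, 2, 0, 6] [14, 1, -4, 5, 18, 8, -29, 32, 0, 0, 0, 0, 0, 1] [(false, 100), (false, 100), (false, 66), (false, 100), (false, 100), (false, 66), (false, 100), (false, 66), (false, 66)],
  .conv 2 [2, 5, 6, 0, 1, 7, 5, 1, 1, 5, 1] 2 [6, 7, 6, 7, 1, 5, 6, 7, 3, 7, 0, 2, 5, 7] [22, -13, -3, 15, 8, 2, -30, 37, -4, 1, 2, 0, 0, 0] 98 [6, 5, 11, 10, 5, 6] 809,
  .conv 2 [8, 2, 5, 7, 1, 8, 5, 6, 7, 1, 7, 3, 7, 6, 7] 1 [6, 5, 7, 3, 7, 7, 8, 2, 6, 7, 6, 2, 5, 2, 8] [3, -5, 1, 8, -4, 0, 0, 3, -2, 0, 2, 0, 0, 1] 85 [5, 6, 15, 3, 12, 13] 100,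
  .loopS 1 [7, 0, 1, 2, 1, 0, 1, 0, 7, 1] [-19, 12, 3, -17, -9, -2, 32, -38, 3, 0, -2, 0, 0, -1] 2 [808, 810, 811],
  .prod 1 [] [-9, -9, 5, 2, -26, -2, 39, -32, -3, 0, 2, 0, 0, -1] [(false, 812), (true, 27), (true, 34), (true, 27), (true, 34), (true, 27), (true, 18), (true, 27)],
  .prod 1 [5, 1, 5, 2, 5, 2, 6] [-16, 33, -3, -29, 26, 0, -10, -10, 9, 0, -6, 0, 0, 0] [(false, 18), (false, 27), (false, 34), (false, 27), (false, 27), (false, 27), (false, 27), (false, 34), (false, 34)],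
  .conv 1 [7, 3, 6, 6, 2, 6, 7, 1, 3, 0, 1, 2, 5, 7, 0] 2 [6, 0, 1, 1, 7, 0, 7, 1, 5, 6, 7] [-16, 33, -5, -29, 26, -1, -10, -10, 9, 0, -6, 0, 0, 0] 58 [6, 2, 5, 15, 14, 2, 7] 814,
  .prod 2 [3, 1, 2, 8, 6, 7, 7, 0, 6, 2, 5, 1, 3, 2, 0] [-501, 1032, -106, -845, 733, -82, -339, -422, 216, 3, -147, 0, 0, 42] [(false, 108), (false, 108), (false, 66), (false, 108), (false, 100)],
  .conv 2 [0, 6, 2, 1, 8, 5, 6, 2, 1, 3, 7, 5, 7, 6] 2 [5, 1, 2, 0, 2, 8, 7, 3, 2, 0, 2, 6, 8, 2, 6] [-497, 1028, -107, -844, 733, -83, -344, -422, 215, 3, -146, 0, 0, 41] 70 [6, 13, 2, 7, 14] 816,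
  .prod 2 [1, 1, 0, 7, 8, 7, 5, 1, 3, 0, 2, 1, 2, 0, 3] [-447, 906, -90, -741, 633, -78, -285, -384, 189, 3, -129, 0, 0, 39] [(false, 80), (false, 108), (false, 80), (false, 80), (false, 108), (false, 108)],
  .conv 2 [0, 1, 2, 2, 1, 2, 8, 2, 3, 2, 6, 2, 3, 7, 5] 2 [6, 6, 5, 7, 3, 6, 2, 5, 7, 1, 1, 2, 6, 5] [-443, 902, -91, -740, 633, -78, -290, -383, 188, 3, -128, 0, 0, 38] 70 [9, 13, 2, 13, 1] 818,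
  .conv 2 [1, 2, 2, 8, 7, 6, 2, 0, 2, 1, 5, 2, 6, 6] 1 [5, 1, 7, 5, 1, 1, 8, 7, 3, 0, 2, 2, 3, 6, 6] [2, -5, 2, 8, -5, 1, 2, 0, -2, 0, 2, 0, 0, 1] 85 [0, 7, 14, 13, 3, 7, 10] 100,
  .loopS 1 [1, 5, 6, 6, 5, 2, 0, 2, 1, 2] [954, -1958, 201, 1605, -1387, 161, 642, 815, -408, -6, 278, 1, 0, -80] 11 [815, 817, 819, 820],
  .prod 1 [] [970, -1989, 204, 1632, -1411, 161, 650, 825, -417, -6, 284, 1, 0, -80] [(false, 821), (true, 27), (true, 18), (true, 27), (true, 34), (true, 34), (true, 27), (true, 27), (true, 27), (true, 34), (true, 18), (true, 18)],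
  .prod 2 [3, 6, 5, 6, 6, 7, 5, 6, 7, 3, 7, 6, 2, 0, 8] [23, -43, 3, 36, -26, 6, 9, 25, -9, 0, 6, 0, 0, -2] [(false, 100), (false, 66), (false, 66), (false, 80)],
  .conv 2 [5, 7, 0, 2, 5, 7, 3, 2, 0, 6, 5, 2, 1, 5] 2 [2, 5, 6, 2, 6, 3, 7, 6, 7, 3, 0, 2, 8] [26, -48, 1, 39, -31, -3, 9, 26, -10, 0, 7, 0, 0, -3] 114 [0, 5, 6, 15, 8, 3, 5, 14] 823,
  .prod 2 [7, 1, 2, 2, 1, 2, 0, 3, 7, 6, 7, 7, 6, 2] [-502, 1030, -107, -846, 733, -80, -335, -423, 216, 3, -147, 0, 0, 40] [(false, 108), (false, 66), (false, 108), (false, 66), (false, 108)],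
  .conv 2 [7, 6, 0, 6, 7, 8, 7, 7, 0, 3, 6, 7, 3, 7, 8] 2 [1, 8, 5, 1, 1, 7, 0, 2, 0, 8, 7, 5, 6, 2] [-993, 2057, -212, -1692, 1470, -163, -689, -843, 428, 6, -291, -1, 0, 80] 126 [6, 8, 6, 9, 5, 5] 825,
  .prod 2 [3, 6, 6, 7, 8, 5, 7, 1, 7, 3, 6, 6, 0, 2] [-108, 218, -21, -176, 151, -20, -69, -91, 45, 1, -31, 0, 0, 11] [(false, 80), (false, 100), (false, 66), (false, 80), (false, 80), (false, 108)],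
  .conv 2 [5, 1, 2, 0, 7, 5, 8, 2, 1, 1, 2, 2, 3, 7, 7] 2 [5, 5, 7, 8, 6, 7, 5, 1, 7, 5, 6, 2, 3, 7, 5] [154, -326, 36, 270, -238, 32, 120, 133, -67, -2, 47, 0, 0, -12] 173 [5, 14, 11, 5, 9, 15, 14] 827,
  .prod 2 [0, 7, 5, 2, 1, 5, 7, 5, 2, 3, 7, 1, 5, 7, 7, 3] [-331, 689, -71, -562, 492, -54, -233, -275, 144, 2, -98, 0, 0, 29] [(false, 66), (false, 108), (false, 100), (false, 100), (false, 108)],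
  .conv 2 [2, 1, 2, 1, 1, 7, 7, 8, 2, 2, 1, 7, 6] 2 [2, 5, 7, 1, 8, 7, 5, 3, 6, 2, 0, 7, 6, 8, 2] [294, -635, 71, 524, -467, 53, 245, 244, -130, -2, 89, 1, 0, -25] 123 [11, 10, 9, 7] 829,
  .loopS 2 [7, 8, 5, 2, 0, 7, 5, 2, 3, 7, 1, 8, 2, 0, 7] [519, -1048, 104, 859, -734, 81, 315, 440, -219, -2, 148, 0, 1, -40] 13 [824, 826, 828, 830]]

/-- Chunk 26 of the facts. -/
def items26 : List Item := [
  .prod 2 [] [495, -1007, 100, 822, -708, 77, 310, 414, -210, -2, 142, 0, 1, -40] [(false, 831), (true, 66), (true, 100), (true, 80), (true, 100)],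
  .prod 1 [5, 6, 6, 7, 0, 7, 0, 0, 1] [-19, 33, -3, -26, 23, 0, -4, -13, 9, 0, -6, 0, 0, 0] [(false, 34), (false, 27), (false, 34), (false, 34), (false, 27), (false, 18), (false, 18), (false, 18), (false, 18)],
  .prod 1 [7, 7, 5, 2, 1, 7, 1, 1, 2, 0, 1] [-10, 18, -2, -16, 14, 0, -4, -6, 6, 0, -4, 0, 0, 0] [(false, 27), (false, 27), (false, 27), (false, 18), (false, 18), (false, 18), (false, 27), (false, 34), (false, 18), (false, 34)],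
  .prod 1 [6, 0, 6, 7, 6, 6, 7, 1, 0, 6, 5] [-23, 44, -4, -37, 33, 0, -10, -15, 12, 0, -8, 0, 0, 0] [(false, 27), (false, 34), (false, 18), (false, 34), (false, 27), (false, 27), (false, 27), (false, 34), (false, 27), (false, 18), (false, 34), (false, 18)],
  .prod 1 [5, 2, 6, 6, 0, 1, 7, 0, 7] [-24, 45, -4, -37, 33, 0, -9, -16, 12, 0, -8, 0, 0, 0] [(false, 27), (false, 18), (false, 34), (false, 27), (false, 27), (false, 34), (false, 27), (false, 34), (false, 34), (false, 18), (false, 18)],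
  .prod 1 [5, 6, 2, 6, 5, 2, 1, 5, 7, 7] [-24, 45, -4, -37, 33, 0, -9, -16, 12, 0, -8, 0, 0, 0] [(false, 27), (false, 27), (false, 34), (false, 27), (false, 27), (false, 34), (false, 34), (false, 18), (false, 18), (false, 18), (false, 34)],
  .prod 1 [5, 5, 1, 5, 6, 2, 1, 5, 6] [-41, 73, -6, -56, 50, 0, -9, -29, 18, 0, -12, 0, 0, 0] [(false, 34), (false, 34), (false, 34), (false, 18), (false, 18), (false, 34), (false, 18), (false, 34), (false, 34), (false, 18), (false, 27)],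
  .prod 1 [5, 6, 6, 5, 1, 5] [-39, 72, -6, -57, 51, 0, -12, -27, 18, 0, -12, 0, 0, 0] [(false, 18), (false, 27), (false, 34), (false, 18), (false, 34), (false, 34), (false, 34), (false, 18), (false, 27), (false, 34), (false, 34), (false, 27)],
  .prod 1 [5, 6, 0, 1, 7, 0, 1, 7, 1, 0] [-33, 59, -5, -46, 41, 0, -8, -23, 15, 0, -10, 0, 0, 0] [(false, 18), (false, 34), (false, 27), (false, 34), (false, 18), (false, 34), (false, 34), (false, 18), (false, 34), (false, 27), (false, 18)],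
  .prod 1 [0, 6, 2, 2, 6, 0, 2, 1, 0] [-12, 19, -2, -15, 13, 0, -1, -8, 6, 0, -4, 0, 0, 0] [(false, 34), (false, 18), (false, 34), (false, 18), (false, 18), (false, 18), (false, 27), (false, 18), (false, 27)],
  .prod 2 [2, 1, 8, 5, 1, 7, 5, 2, 5, 7, 3, 7, 6, 7, 7] [-503, 1031, -106, -846, 731, -82, -334, -426, 216, 3, -147, 0, 0, 41] [(false, 108), (false, 108), (false, 108), (false, 66)],
  .prod 2 [0, 7, 0, 2, 8, 7, 7, 0, 2, 6, 5, 2, 1, 1] [-330, 688, -72, -562, 494, -52, -234, -272, 144, 2, -98, 0, 0, 28] [(false, 66), (false, 108), (false, 100), (false, 100), (false, 66), (false, 108)],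
  .prod 2 [0, 7, 5, 7, 6, 6, 7, 0, 1, 0] [-314, 646, -66, -528, 458, -52, -212, -264, 135, 2, -92, 0, 0, 27] [(false, 66), (false, 108), (false, 100), (false, 108), (false, 80)],
  .prod 2 [1, 5, 1, 1, 5, 2, 1, 2, 0, 2] [-164, 343, -37, -281, 249, -24, -118, -133, 72, 1, -49, 0, 0, 13] [(false, 100), (false, 66), (false, 66), (false, 108)],
  .prod 3 [2, 1, 1, 8, 2, 0, 2, 1, 7, 1, 8, 7] [-4636, 8844, -837, -7396, 6071, -508, -2267, -3905, 1899, 18, -1284, 2, 12, 289] [(false, 229), (false, 208), (false, 188), (false, 208), (false, 208), (false, 208), (false, 188)],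
  .prod 3 [5, 7, 3, 7, 6, 5, 1, 5, 1, 2, 1, 2, 3, 2, 0, 1] [-8246, 15200, -1416, -12864, 10309, -741, -3349, -7003, 3294, 33, -2229, 4, 25, 415] [(false, 208), (false, 208), (false, 229), (false, 188), (false, 188), (false, 229), (false, 188), (false, 208)],
  .prod 3 [0, 2, 1, 2, 2, 8, 5, 7, 1, 7, 8, 7, 6, 6, 0] [-1894, 3151, -273, -2760, 2042, -75, -329, -1652, 702, 9, -477, 2, 8, 38] [(false, 188), (false, 188), (false, 188), (false, 188), (false, 229), (false, 208), (false, 188), (false, 188), (false, 208), (false, 208)],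
  .prod 4 [0, 6, 7, 8, 0, 6, 7, 6, 7, 3, 2, 1, 7, 0, 1] [-1743, 3618, -237, -2799, 2331, -681, -1245, -1626, 693, 36, -498, 3, 0, 282] [(false, 313), (false, 293), (false, 313), (false, 313), (false, 293), (false, 313), (false, 313), (false, 313), (false, 293)],
  .prod 4 [8, 7, 6, 6, 0, 7, 1, 7, 6, 8, 7, 6] [6742, -14058, 1634, 11784, -10437, 715, 4799, 5530, -3000, -15, 2015, 16, 0, -395] [(false, 293), (false, 293), (false, 313), (false, 313), (false, 293), (false, 313), (false, 293), (false, 313), (false, 293), (false, 293), (false, 313), (false, 293)],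
  .prod 4 [5, 1, 0, 7, 0, 7, 0, 6, 0] [-4184, 8706, -808, -7038, 6069, -995, -2983, -3650, 1770, 45, -1225, -2, 0, 445] [(false, 313), (false, 313), (false, 313), (false, 293), (false, 313), (false, 313)],
  .prod 4 [5, 6, 5, 2, 1, 5, 6, 7, 6, 6] [5541, -11558, 1391, 9749, -8673, 459, 3943, 4494, -2487, -4, 1662, 15, 0, -278] [(false, 293), (false, 293), (false, 313), (false, 293), (false, 293), (false, 313), (false, 313), (false, 293), (false, 313), (false, 313), (false, 293), (false, 313), (false, 293)],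
  .prod 4 [0, 6, 2, 5, 6, 7, 6, 6, 7, 5] [1318, -2764, 498, 2542, -2394, -338, 934, 892, -666, 28, 416, 10, 0, 96] [(false, 293), (false, 293), (false, 313), (false, 313), (false, 313), (false, 293), (false, 293), (false, 313), (false, 313), (false, 293), (false, 313), (false, 293), (false, 313), (false, 313)],
  .root [0],
  .root [1],
  .root [2],
  .root [3]]

/-- All chunks. -/
def itemChunks : List (List Item) := [items0, items1, items2, items3, items4, items5, items6, items7, items8, items9, items10, items11, items12, items13, items14, items15, items16, items17, items18, items19, items20, items21, items22, items23, items24, items25, items26]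

/-- The number of facts. -/
def itemCount : ℕ := 858

/-- A fact. -/
def tab (n : ℕ) : Item := (itemChunks.getD (n / 32) []).getD (n % 32) (.root [])

end CfsgLib.LyIndex
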