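import Cfsg.Agent.Lib.LyIndex.CertCheck0
import Cfsg.Agent.Lib.LyIndex.CertCheck1
import Cfsg.Agent.Lib.LyIndex.CertCheck2
import Cfsg.Agent.Lib.LyIndex.ClosureData

/-!
# The five orbits are closed under z
-/

set_option autoImplicit false
set_option maxRecDepth 100000
set_option synthInstance.maxHeartbeats 400000

namespace CfsgLib.LyIndex

open CfsgLib.LyGTwo

theorem count_le : itemCount ≤ 960 := by decide

variable {G X : Type} [Group G] [MulAction G X] (C : Ctx G X)

theorem fact_holds {n : ℕ} (hn : n < itemCount) : Holds C (tab n) := by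
  refine holds_all C (N := itemCount) (fun m hm => ?_) n hn
  have hle := count_le
  have key : ∀ a b : ℕ, (Nat.ble itemCount b || chkItem tab b (tab b)) = true → a = b → b < itemCount →
      chkItem tab a (tab a) = true := by
    rintro a b h rfl hlt
    rw [Bool.or_eq_true, Nat.ble_eq] at h
    exact h.resolve_left (by omega)
  rcases lt_or_ge m 320 with h1 | h1
  · exact key m (0 * 320 + m) (List.all_eq_true.1 facts_ok0 m (List.mem_range.2 h1)) (by omega) (by omega)
  rcases lt_or_ge m 640 with h2 | h2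
  · exact key m (1 * 320 + (m - 320))
      (List.all_eq_true.1 facts_ok1 _ (List.mem_range.2 (by omega))) (by omega) (by omega)
  · exact key m (2 * 320 + (m - 640))
      (List.all_eq_true.1 facts_ok2 _ (List.mem_range.2 (by omega))) (by omega) (by omega)

/-- The word of a stabiliser fact. -/
def sWord (n : ℕ) : List ℕ :=
  match (tab n).asS with
  | some (_, w, _) => w
  | none => []

/-- A fact about a stabiliser of a given vertex. -/
def sOk (j n : ℕ) : Bool :=
  Nat.blt n itemCount && match (tab n).asS with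
    | some (j', _, _) => Nat.beq j' j
    | none => false

/-- The generators of a vertex stabiliser. -/
def gensOf (j : ℕ) : List (List ℕ) := (genIdx.getD j []).map sWord

/-- The five facts of one orbit start at the five representatives. -/
def fiveOk (j : ℕ) (wd : List ℕ) (five : List ℕ) : Bool :=
  (List.range 5).all fun s =>
    Nat.blt (five.getD s itemCount) itemCount && match (tab (five.getD s itemCount)).asT with
      | some (j', u, _, _, _) => Nat.beq j' j && same u (rw5 s ++ wd)
      | none => false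

/-- The union of the orbit sets, which must not meet. -/
def maskAll (j : ℕ) : List (ℕ × List ℕ × List ℕ × List (ℕ × ℕ)) → Option ℕ
  | [] => some 0
  | (i, wd, five, rows) :: l =>
    match grow (gensOf j) rows (2 ^ i), maskAll j l with
    | some m, some a =>
      if Nat.blt i 3906 && Nat.beq (m &&& a) 0 && okW wd && Nat.beq (img wd 0) i && fiveOk j wd five
      then some (m ||| a) else none
    | _, _ => none

/-- The orbits of a vertex. -/
def orbsOf (j : ℕ) : List (ℕ × List ℕ × List ℕ × List (ℕ × ℕ)) := orbTab.getD j []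

/-- The whole table. -/
def closedOk : Bool :=
  (List.range 5).all fun j =>
    (genIdx.getD j []).all (sOk j) && (gensOf j).all okW &&
      decide (maskAll j (orbsOf j) = some (2 ^ 3906 - 1)) &&
      Nat.beq ((orbsOf j).map fun o => o.2.2.2.length + 1).sum 3906

theorem closedOk_true : closedOk = true := by decide +kernel

theorem closed_facts {j : ℕ} (hj : j < 5) :
    (∀ n ∈ genIdx.getD j [], sOk j n = true) ∧ (∀ g ∈ gensOf j, okW g = true) ∧
      maskAll j (orbsOf j) = some (2 ^ 3906 - 1) ∧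
      ((orbsOf j).map fun o => o.2.2.2.length + 1).sum = 3906 := by
  have := List.all_eq_true.1 closedOk_true j (List.mem_range.2 hj)
  simp only [Bool.and_eq_true, List.all_eq_true, decide_eq_true_eq, Nat.beq_eq] at this
  exact ⟨this.1.1.1, this.1.1.2, this.1.2, this.2⟩

theorem gen_fix {j : ℕ} (hj : j < 5) {g : List ℕ} (hg : g ∈ gensOf j) :
    okW g = true ∧ ∃ e, C.W g • vert C j = C.lab e • vert C j := by
  obtain ⟨h1, h2, -, -⟩ := closed_facts hj
  refine ⟨h2 g hg, ?_⟩
  obtain ⟨n, hn, rfl⟩ := List.mem_map.1 hg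
  have := h1 n hn
  simp only [sOk, Bool.and_eq_true, Nat.blt_eq] at this
  obtain ⟨hlt, h⟩ := this
  split at h
  · rename_i j' w e hS
    rw [Nat.beq_eq] at h
    subst h
    refine ⟨e, ?_⟩
    simp only [sWord, hS]
    exact ((fact_holds C hlt).1 _ _ _ hS).2.2
  · simp at h

theorem Ctx.psi_W {w : List ℕ} (h : okW w = true) : C.psi (gv w) = C.W w := (C.W_gv h).symm

/-- The five facts of an orbit. -/
theorem five_spec {j : ℕ} {wd five : List ℕ} (h : fiveOk j wd five = true) {s : ℕ} (hs : s < 5) :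
    ∃ (k : ℕ) (v : List ℕ) (e : List ℤ), k < 5 ∧ okW v = true ∧
      (∃ u, (tab (five.getD s itemCount)).asT = some (j, u, k, v, e)) ∧
      C.z • C.W (rw5 s ++ wd) • vert C j = C.lab e • C.W v • vert C k := by
  have := List.all_eq_true.1 h s (List.mem_range.2 hs)
  simp only [Bool.and_eq_true, Nat.blt_eq] at this
  obtain ⟨hlt, h⟩ := this
  split at h
  · rename_i j' u k v e hT
    simp only [Bool.and_eq_true, Nat.beq_eq] at h
    obtain ⟨rfl, hs'⟩ := h
    obtain ⟨-, hk, -, hv, a⟩ := (fact_holds C hlt).2 _ _ _ _ _ hT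
    exact ⟨k, v, e, hk, hv, ⟨u, hT⟩, by rw [← C.W_same hs']; exact a⟩
  · simp at h

/-- The points of the five orbits up to central factors. -/
def inU (q : X) : Prop := ∃ j < 5, ∃ (e : List ℤ) (m : Mt), q = C.lab e • C.psi m • vert C j

theorem inU_lab {q : X} (h : inU C q) (e : List ℤ) : inU C (C.lab e • q) := by
  obtain ⟨j, hj, f, m, rfl⟩ := h
  exact ⟨j, hj, vadd e f, m, by rw [C.lab_add, mul_smul]⟩

theorem inU_psi {q : X} (h : inU C q) (n : Mt) : inU C (C.psi n • q) := by
  obtain ⟨j, hj, f, m, rfl⟩ := h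
  exact ⟨j, hj, f, n * m, by rw [C.smul_lab, map_mul, mul_smul]⟩

/-- The elements taking the first point to a given one. -/
def fib (i : ℕ) : Set Mt := {h | h⁻¹ • pnt 0 = pnt i}

theorem mem_Pt_iff {h : Mt} : h ∈ fib 0 ↔ h ∈ Pt := by
  rw [fib, Set.mem_setOf_eq, table_spec.1, MulAction.Quotient.smul_coe, smul_eq_mul, mul_one,
    QuotientGroup.eq, inv_inv, mul_one]

theorem fib_decomp {i : ℕ} {wd : List ℕ} (hwd : okW wd = true) (hi : img wd 0 = i) {h : Mt}
    (hh : h ∈ fib i) : ∃ l : List ℕ, (∀ g ∈ l, g < 16) ∧ ∃ s < 5, h = gv (xs l ++ (rw5 s ++ wd)) := by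
  have h0 : h * (gv wd)⁻¹ ∈ fib 0 := by
    show (h * (gv wd)⁻¹)⁻¹ • pnt 0 = pnt 0
    rw [mul_inv_rev, inv_inv, mul_smul, (hh : h⁻¹ • pnt 0 = pnt i), ← hi,
      ← (img_spec hwd (by norm_num)).2, smul_inv_smul]
  obtain ⟨l, hl, s, hs, e⟩ := pt_decomp (mem_Pt_iff.1 h0)
  refine ⟨l, hl, s, hs, ?_⟩
  rw [← List.append_assoc, gv_append, ← e, inv_mul_cancel_right]

theorem z_step {l : List ℕ} (hl : ∀ g ∈ l, g < 16) {u : List ℕ} (hu : okW u = true) {j k : ℕ}
    {v : List ℕ} {e : List ℤ} (hv : okW v = true)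
    (a : C.z • C.W u • vert C j = C.lab e • C.W v • vert C k) :
    C.z • C.psi (gv (xs l ++ u)) • vert C j =
      C.lab (vadd e (tauSum l)) • C.psi (gv (ks l ++ v)) • vert C k := by
  obtain ⟨hz, ho⟩ := z_xs C hl
  rw [C.psi_W (okW_append.2 ⟨okW_xs hl, hu⟩), C.psi_W (okW_append.2 ⟨ho, hv⟩), C.W_append,
    C.W_append, mul_smul, mul_smul, ← mul_smul C.z, hz, mul_smul, mul_smul,
    C.smul_lab (tauSum l) C.z, C.smul_lab (tauSum l) (C.W (ks l)), a, C.smul_lab e,
    ← mul_smul (C.lab (tauSum l)), ← C.lab_comm (tauSum l) (C.lab e), C.lab_add, mul_smul]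

theorem fib_step {i : ℕ} {g : List ℕ} (hg : okW g = true) (hi : i < 3906) {h : Mt} :
    h ∈ fib (img g i) ↔ h * (gv g)⁻¹ ∈ fib i := by
  show h⁻¹ • pnt 0 = pnt (img g i) ↔ (h * (gv g)⁻¹)⁻¹ • pnt 0 = pnt i
  rw [mul_inv_rev, inv_inv, mul_smul]
  constructor
  · intro e; rw [e, ← (img_spec hg hi).2, smul_inv_smul]
  · intro e; rw [← (img_spec hg hi).2, ← e, inv_smul_smul]

/-- All images under z of the points in one direction lie in the orbits. -/
def GoodDir (j i : ℕ) : Prop := i < 3906 ∧ ∀ h ∈ fib i, inU C (C.z • C.psi h • vert C j)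

theorem orbit_good {j : ℕ} (hj : j < 5) :
    ∀ {l : List (ℕ × List ℕ × List ℕ × List (ℕ × ℕ))} {a : ℕ}, maskAll j l = some a →
      ∀ i, a.testBit i = true → GoodDir C j i
  | [], a, h, i, hi => by
    simp only [maskAll, Option.some.injEq] at h
    subst h
    simp at hi
  | (i0, wd, five, rows) :: l, a, h, i, hi => by
    simp only [maskAll] at h
    split at h
    · rename_i m b hm hb
      split at h
      · rename_i hc
        simp only [Bool.and_eq_true, Nat.blt_eq, Nat.beq_eq] at hc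
        obtain ⟨⟨⟨⟨hlt, -⟩, hwd⟩, himg⟩, hfive⟩ := hc
        simp only [Option.some.injEq] at h
        subst h
        rw [Nat.testBit_or, Bool.or_eq_true] at hi
        rcases hi with hi | hi
        · have hP : ∀ g ∈ gensOf j, ∀ p, GoodDir C j p → GoodDir C j (img g p) := by
            rintro g hg p ⟨hp, hall⟩
            obtain ⟨hog, e, he⟩ := gen_fix C hj hg
            refine ⟨(img_spec hog hp).1, fun h hh => ?_⟩
            have h1 := inU_lab C (hall _ ((fib_step hog hp).1 hh)) e
            rwa [← C.smul_lab e C.z, ← C.smul_lab e (C.psi (h * (gv g)⁻¹)), ← he, ← C.psi_W hog,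
              ← mul_smul (C.psi _), ← map_mul, inv_mul_cancel_right] at h1
          refine (grow_spec hP hm fun p hp => ?_).1 i hi
          rw [Nat.testBit_two_pow, decide_eq_true_eq] at hp
          subst hp
          refine ⟨hlt, fun h hh => ?_⟩
          obtain ⟨l', hl', s, hs, rfl⟩ := fib_decomp hwd himg hh
          obtain ⟨k, v, e, hk, hv, -, a⟩ := five_spec C hfive hs
          exact ⟨k, hk, _, _, z_step C hl' (okW_append.2 ⟨(rw5_ok hs).1, hwd⟩) hv a⟩
        · exact orbit_good hj hb i hi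
      · simp at h
    · simp at h

theorem z_closed {q : X} (h : inU C q) : inU C (C.z • q) := by
  obtain ⟨j, hj, e, m, rfl⟩ := h
  rw [C.smul_lab]
  refine inU_lab C ?_ e
  obtain ⟨i, hi, he⟩ := pnt_surj (m⁻¹ • pnt 0)
  refine (orbit_good C hj (closed_facts hj).2.2.1 i ?_).2 m he.symm
  rw [Nat.testBit_two_pow_sub_one, decide_eq_true_eq]
  exact hi

theorem zi_closed {q : X} (h : inU C q) : inU C (C.z⁻¹ • q) := by
  obtain ⟨hv, hok⟩ := C.loop_val (i := 0) (by norm_num)
  obtain ⟨g1, g2, e⟩ : ∃ g1 g2, loopG 0 = [g1, g2] := ⟨_, _, rfl⟩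
  rw [e] at hv hok
  simp only [loopWord, C.W_append, C.W_z, C.W_nil, one_mul] at hv
  have hzi : C.z⁻¹ = C.lab (vneg (loopR 0)) * (C.W g2 * (C.z * C.W g1)) := by
    rw [C.lab_neg, ← hv]; group
  rw [hzi, mul_smul, mul_smul, mul_smul, ← C.psi_W (hok g1 (by simp)), ← C.psi_W (hok g2 (by simp))]
  exact inU_lab C (inU_psi C (z_closed C (inU_psi C h _)) _) _

theorem inU_p0 : inU C C.p0 := ⟨0, by norm_num, vzero, 1, by rw [C.lab_zero, map_one, one_smul, one_smul]; rfl⟩

/-- The five orbits cover everything. -/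
theorem inU_all [MulAction.IsPretransitive G X]
    (hgen : ∀ S : Subgroup G, (∀ g < 5, C.f g ∈ S) → (∀ i < 14, C.t i ∈ S) → S = ⊤) (q : X) :
    inU C q := by
  let S : Subgroup G :=
    { carrier := {g | (∀ x, inU C x → inU C (g • x)) ∧ ∀ x, inU C x → inU C (g⁻¹ • x)}
      one_mem' := ⟨fun x hx => by rwa [one_smul], fun x hx => by rwa [inv_one, one_smul]⟩
      mul_mem' := fun {a b} ha hb => ⟨fun x hx => by rw [mul_smul]; exact ha.1 _ (hb.1 x hx),
        fun x hx => by rw [mul_inv_rev, mul_smul]; exact hb.2 _ (ha.2 x hx)⟩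
      inv_mem' := fun {a} ha => ⟨ha.2, by simpa using ha.1⟩ }
  have hpsi : ∀ g < 4, C.f g ∈ S := fun g hg => by
    rw [← C.psi_gen g hg]
    exact ⟨fun x hx => inU_psi C hx _, fun x hx => by rw [← map_inv]; exact inU_psi C hx _⟩
  have hS : S = ⊤ := hgen S (fun g hg => by
      rcases eq_or_ne g 4 with rfl | h4
      · exact ⟨fun x hx => z_closed C hx, fun x hx => zi_closed C hx⟩
      · exact hpsi g (by omega))
    (fun i hi => by
      refine ⟨fun x hx => ?_, fun x hx => ?_⟩
      · rw [← zpow_one (C.t i), ← C.lab_unit hi 1]; exact inU_lab C hx _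
      · rw [← zpow_neg_one (C.t i), ← C.lab_unit hi (-1)]; exact inU_lab C hx _)
  obtain ⟨g, rfl⟩ := MulAction.exists_smul_eq G C.p0 q
  exact ((hS ▸ Subgroup.mem_top g : g ∈ S)).1 _ (inU_p0 C)

end CfsgLib.LyIndex
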