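import Cfsg.Agent.Lib.LyIndex.Closed
import Mathlib.Algebra.BigOperators.Ring.Finset

/-!
# Counting the neighbours of the five representatives in each orbit
-/

set_option autoImplicit false
set_option maxRecDepth 100000
set_option synthInstance.maxHeartbeats 400000

namespace CfsgLib.LyIndex

open CfsgLib.LyGTwo Finset
open scoped Classical

noncomputable local instance mtFintypeCount : Fintype Mt := @Fintype.ofFinite _ mt_finite

/-- The elements written in the sixteen words. -/
noncomputable def aSet : Finset Mt :=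
  univ.filter fun h => ∃ l : List ℕ, (∀ g ∈ l, g < 16) ∧ h = gv (xs l)

/-- One of five parts of a fibre. -/
noncomputable def partS (wd : List ℕ) (s : ℕ) : Finset Mt := aSet.image (· * gv (rw5 s ++ wd))

/-- A fibre as a finite set. -/
noncomputable def fibF (i : ℕ) : Finset Mt := univ.filter fun h => h ∈ fib i

theorem mem_fibF {i : ℕ} {h : Mt} : h ∈ fibF i ↔ h ∈ fib i := by simp [fibF]

theorem img_xs : ∀ {l : List ℕ}, (∀ g ∈ l, g < 16) → img (xs l) 0 = 0
  | [], _ => rfl
  | g :: l, h => by
    rw [xs, List.flatMap_cons, img_append, (xW_ok (h g List.mem_cons_self)).2]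
    exact img_xs fun x hx => h x (List.mem_cons_of_mem _ hx)

theorem gv_mem_fib {w : List ℕ} (h : okW w = true) : gv w ∈ fib (img w 0) := (img_spec h (by norm_num)).2

theorem xs_pow {l : List ℕ} (hl : ∀ g ∈ l, g < 16) :
    ∀ n : ℕ, ∃ l' : List ℕ, (∀ g ∈ l', g < 16) ∧ gv (xs l') = gv (xs l) ^ n
  | 0 => ⟨[], by simp, rfl⟩
  | n + 1 => by
    obtain ⟨l', h1, h2⟩ := xs_pow hl n
    exact ⟨l' ++ l, fun g hg => (List.mem_append.1 hg).elim (h1 g) (hl g), by
      rw [xs_append, gv_append, h2, pow_succ]⟩

theorem xs_inv {l : List ℕ} (hl : ∀ g ∈ l, g < 16) :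
    ∃ l' : List ℕ, (∀ g ∈ l', g < 16) ∧ gv (xs l') = (gv (xs l))⁻¹ := by
  haveI := mt_finite
  obtain ⟨l', h1, h2⟩ := xs_pow hl (orderOf (gv (xs l)) - 1)
  refine ⟨l', h1, h2.trans (eq_inv_of_mul_eq_one_left ?_)⟩
  rw [← pow_succ, Nat.sub_add_cancel (orderOf_pos _), pow_orderOf_eq_one]

theorem parts_disjoint (wd : List ℕ) :
    ((range 5 : Finset ℕ) : Set ℕ).PairwiseDisjoint (partS wd) := by
  intro s hs t ht hne
  rw [Function.onFun, Finset.disjoint_left]
  intro h h1 h2
  simp only [partS, aSet, mem_image, mem_filter, mem_univ, true_and] at h1 h2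
  obtain ⟨a, ⟨l, hl, rfl⟩, rfl⟩ := h1
  obtain ⟨b, ⟨l', hl', rfl⟩, e⟩ := h2
  obtain ⟨l2, hl2, e2⟩ := xs_inv hl'
  refine hne (coset_inj (l := l2 ++ l) (fun g hg => (List.mem_append.1 hg).elim (hl2 g) (hl g))
    (mem_range.1 hs) (mem_range.1 ht) ?_)
  rw [xs_append, gv_append (xs l2), e2]
  simp only [gv_append] at e ⊢
  rw [← mul_assoc, ← mul_assoc] at e
  have e' := mul_right_cancel e
  rw [eq_inv_mul_iff_mul_eq, ← mul_assoc, e', mul_inv_cancel_right]

theorem fib_parts {i : ℕ} {wd : List ℕ} (hwd : okW wd = true) (hi : img wd 0 = i) :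
    fibF i = (range 5).biUnion (partS wd) := by
  ext h
  simp only [mem_fibF, mem_biUnion, mem_range, partS, aSet, mem_image, mem_filter, mem_univ, true_and]
  constructor
  · intro hh
    obtain ⟨l, hl, s, hs, rfl⟩ := fib_decomp hwd hi hh
    exact ⟨s, hs, _, ⟨l, hl, rfl⟩, (gv_append _ _).symm⟩
  · rintro ⟨s, hs, _, ⟨l, hl, rfl⟩, rfl⟩
    have hok : okW (xs l ++ (rw5 s ++ wd)) = true :=
      okW_append.2 ⟨okW_xs hl, okW_append.2 ⟨(rw5_ok hs).1, hwd⟩⟩
    have := gv_mem_fib hok
    rwa [img_append, img_xs hl, img_append, (rw5_ok hs).2, hi, gv_append] at this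

theorem part_card (wd : List ℕ) (s : ℕ) : (partS wd s).card = aSet.card :=
  card_image_of_injective _ (mul_left_injective _)

theorem aSet_card : aSet.card * 5 = 1500000 := by
  have h : fibF 0 = univ.filter fun h => h ∈ Pt := by
    ext h; simp only [mem_fibF, mem_filter, mem_univ, true_and, mem_Pt_iff]
  have e := congrArg Finset.card (fib_parts (i := 0) (wd := []) rfl rfl)
  rw [h, card_biUnion (parts_disjoint _), Finset.sum_congr rfl fun s _ => part_card [] s,
    Finset.sum_const, card_range, smul_eq_mul, ← Fintype.card_subtype, ← Nat.card_eq_fintype_card] at e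
  rw [show Nat.card {h // h ∈ Pt} = Nat.card ↥Pt from rfl, cosets_card.2] at e
  omega

variable {G X : Type} [Group G] [MulAction G X] (C : Ctx G X)

/-- The orbit of a representative. -/
def orb (j : ℕ) : Set X := Set.range fun m : Mt => C.psi m • vert C j

theorem mem_orb_iff (m : Mt) (k k' : ℕ) : C.psi m • vert C k ∈ orb C k' ↔ orb C k = orb C k' := by
  constructor
  · rintro ⟨n, hn⟩
    ext x
    constructor
    · rintro ⟨p, rfl⟩
      refine ⟨p * m⁻¹ * n, ?_⟩
      simp only at hn ⊢
      rw [map_mul, mul_smul, hn, ← mul_smul, ← map_mul, inv_mul_cancel_right]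
    · rintro ⟨p, rfl⟩
      refine ⟨p * n⁻¹ * m, ?_⟩
      simp only at hn ⊢
      rw [map_mul, mul_smul, ← hn, ← mul_smul, ← map_mul, inv_mul_cancel_right]
  · exact fun e => e ▸ ⟨m, rfl⟩

/-- The target vertex of a fact. -/
def kOf (n : ℕ) : ℕ :=
  match (tab n).asT with
  | some (_, _, k, _, _) => k
  | none => 5

/-- The elements moving a vertex into an orbit. -/
noncomputable def hitSet (x : X) (k' : ℕ) : Finset Mt :=
  univ.filter fun h => C.z • C.psi h • x ∈ orb C k'

/-- The number of targets among five. -/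
noncomputable def hitFive (five : List ℕ) (k' : ℕ) : ℕ :=
  ((range 5).filter fun s => orb C (kOf (five.getD s itemCount)) = orb C k').card

variable (hlab : ∀ e, C.lab e = 1)
include hlab

theorem seed_count {j i : ℕ} {wd five : List ℕ} (hwd : okW wd = true) (hi : img wd 0 = i)
    (h5 : fiveOk j wd five = true) (k' : ℕ) :
    (fibF i ∩ hitSet C (vert C j) k').card = aSet.card * hitFive C five k' := by
  rw [fib_parts hwd hi, biUnion_inter, card_biUnion ((parts_disjoint wd).mono fun s => inter_subset_left)]
  have hs : ∀ s ∈ range 5, (partS wd s ∩ hitSet C (vert C j) k').card =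
      if orb C (kOf (five.getD s itemCount)) = orb C k' then aSet.card else 0 := by
    intro s hs
    obtain ⟨k, v, e, -, hv, ⟨u, hT⟩, a⟩ := five_spec C h5 (mem_range.1 hs)
    have hk : kOf (five.getD s itemCount) = k := by simp only [kOf, hT]
    have key : ∀ h ∈ partS wd s, (h ∈ hitSet C (vert C j) k' ↔ orb C k = orb C k') := by
      intro h hh
      simp only [partS, aSet, mem_image, mem_filter, mem_univ, true_and] at hh
      obtain ⟨_, ⟨l, hl, rfl⟩, rfl⟩ := hh
      simp only [hitSet, mem_filter, mem_univ, true_and]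
      rw [← gv_append, z_step C hl (okW_append.2 ⟨(rw5_ok (mem_range.1 hs)).1, hwd⟩) hv a, hlab,
        one_smul, mem_orb_iff]
    rw [hk]
    split_ifs with hq
    · rw [inter_eq_left.2 fun h hh => (key h hh).2 hq, part_card]
    · rw [card_eq_zero, Finset.eq_empty_iff_forall_notMem]
      intro h hh
      rw [mem_inter] at hh
      exact hq ((key h hh.1).1 hh.2)
  rw [sum_congr rfl hs, ← sum_filter, sum_const, smul_eq_mul, mul_comm]
  rfl

theorem move_count {j i : ℕ} (hj : j < 5) (hi : i < 3906) {g : List ℕ} (hg : g ∈ gensOf j) (k' : ℕ) :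
    (fibF (img g i) ∩ hitSet C (vert C j) k').card = (fibF i ∩ hitSet C (vert C j) k').card := by
  obtain ⟨hog, e, he⟩ := gen_fix C hj hg
  rw [hlab, one_smul, ← C.psi_W hog] at he
  have key : ∀ h : Mt, h ∈ hitSet C (vert C j) k' ↔ h * (gv g)⁻¹ ∈ hitSet C (vert C j) k' := by
    intro h
    simp only [hitSet, mem_filter, mem_univ, true_and]
    conv_rhs => rw [← he, ← mul_smul (C.psi _), ← map_mul, inv_mul_cancel_right]
  refine card_nbij' (fun h => h * (gv g)⁻¹) (fun h => h * gv g) ?_ ?_ ?_ ?_
  · intro h hh
    simp only [coe_inter, Set.mem_inter_iff, mem_coe, mem_fibF] at hh ⊢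
    exact ⟨(fib_step hog hi).1 hh.1, (key h).1 hh.2⟩
  · intro h hh
    simp only [coe_inter, Set.mem_inter_iff, mem_coe, mem_fibF] at hh ⊢
    refine ⟨(fib_step hog hi).2 ?_, (key _).2 ?_⟩ <;> rw [mul_inv_cancel_right]
    exacts [hh.1, hh.2]
  · intro h _; exact inv_mul_cancel_right _ _
  · intro h _; exact mul_inv_cancel_right _ _

omit hlab in
/-- The number of facts of an orbit list with a given target. -/
def dirSum (k : ℕ) : List (ℕ × List ℕ × List ℕ × List (ℕ × ℕ)) → ℕ
  | [] => 0
  | (_, _, five, rows) :: l =>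
    (rows.length + 1) * ((List.range 5).filter fun s => Nat.beq (kOf (five.getD s itemCount)) k).length +
      dirSum k l

theorem list_count {j : ℕ} (hj : j < 5) (k' : ℕ) :
    ∀ {l : List (ℕ × List ℕ × List ℕ × List (ℕ × ℕ))} {a : ℕ}, maskAll j l = some a →
      ∃ S : Finset ℕ, (∀ i ∈ S, a.testBit i = true ∧ i < 3906) ∧
        S.card = (l.map fun o => o.2.2.2.length + 1).sum ∧
        ∑ i ∈ S, (fibF i ∩ hitSet C (vert C j) k').card =
          aSet.card * ∑ k ∈ (range 5).filter (fun k => orb C k = orb C k'), dirSum k l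
  | [], a, _ => ⟨∅, by simp, by simp, by simp [dirSum]⟩
  | (i0, wd, five, rows) :: l, a, h => by
    simp only [maskAll] at h
    split at h
    · rename_i m b hm hb
      split at h
      · rename_i hc
        simp only [Bool.and_eq_true, Nat.blt_eq, Nat.beq_eq] at hc
        obtain ⟨⟨⟨⟨hlt, hdis⟩, hwd⟩, himg⟩, hfive⟩ := hc
        simp only [Option.some.injEq] at h
        subst h
        obtain ⟨S, hS, hcard, hsum⟩ := list_count hj k' hb
        let P : ℕ → Prop := fun i => i < 3906 ∧
          (fibF i ∩ hitSet C (vert C j) k').card = aSet.card * hitFive C five k'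
        have hP : ∀ g ∈ gensOf j, ∀ p, P p → P (img g p) := by
          rintro g hg p ⟨hp, e⟩
          exact ⟨(img_spec (gen_fix C hj hg).1 hp).1, (move_count C hlab hj hp hg k').trans e⟩
        obtain ⟨hin, hcnt⟩ := grow_spec hP hm (fun p hp => by
          rw [Nat.testBit_two_pow, decide_eq_true_eq] at hp
          subst hp
          exact ⟨hlt, seed_count C hlab hwd himg hfive k'⟩)
        obtain ⟨S1, hS1, hS1c⟩ := hcnt {i0} (fun i hi => by
          rw [mem_singleton.1 hi]; exact Nat.testBit_two_pow_self)
        have hd : Disjoint S1 S := disjoint_left.2 fun i h1 h2 => by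
          have e := congrArg (fun x : ℕ => x.testBit i) hdis
          simp [Nat.testBit_and, hS1 i h1, (hS i h2).1] at e
        refine ⟨S1 ∪ S, fun i hi => ?_, ?_, ?_⟩
        · rw [Nat.testBit_or, Bool.or_eq_true]
          rcases mem_union.1 hi with h1 | h1
          · exact ⟨Or.inl (hS1 i h1), (hin i (hS1 i h1)).1⟩
          · exact ⟨Or.inr (hS i h1).1, (hS i h1).2⟩
        · simp only [card_union_of_disjoint hd, hS1c, hcard, List.map_cons, List.sum_cons, card_singleton]
          omega
        · have hfib : hitFive C five k' = ∑ k ∈ (range 5).filter (fun k => orb C k = orb C k'),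
              ((List.range 5).filter fun s => Nat.beq (kOf (five.getD s itemCount)) k).length := by
            rw [hitFive, card_eq_sum_card_fiberwise (f := fun s => kOf (five.getD s itemCount))
              (t := (range 5).filter (fun k => orb C k = orb C k'))]
            · refine sum_congr rfl fun k hk => ?_
              have hfs : ((range 5).filter fun s => orb C (kOf (five.getD s itemCount)) = orb C k').filter
                  (fun s => kOf (five.getD s itemCount) = k) =
                  (range 5).filter (fun s => Nat.beq (kOf (five.getD s itemCount)) k = true) := by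
                rw [filter_filter]
                refine filter_congr fun s _ => ?_
                rw [Nat.beq_eq]
                exact ⟨fun h => h.2, fun h => ⟨by rw [h]; exact (mem_filter.1 hk).2, h⟩⟩
              rw [hfs, ← List.toFinset_card_of_nodup (List.Nodup.filter _ List.nodup_range)]
              congr 1
              ext s; simp
            · intro s hs
              simp only [coe_filter, mem_range, Set.mem_setOf_eq] at hs ⊢
              obtain ⟨k, v, e, hk, -, ⟨u, hT⟩, -⟩ := five_spec C hfive hs.1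
              have : kOf (five.getD s itemCount) = k := by simp only [kOf, hT]
              exact ⟨this ▸ hk, hs.2⟩
          rw [sum_union hd, hsum, sum_congr rfl fun i hi => (hin i (hS1 i hi)).2, sum_const, hS1c,
            hfib, card_singleton, smul_eq_mul]
          simp only [dirSum, sum_add_distrib, ← mul_sum]
          ring
      · simp at h
    · simp at h

omit hlab in
theorem dir_checks : ((List.range 5).all fun j => (List.range 5).all fun k =>
    Nat.beq (dirSum k (orbsOf j)) ((dirTab.getD j []).getD k 0)) = true := by decide +kernel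

/-- The number of hits of a vertex in an orbit. -/
theorem hit_count {j : ℕ} (hj : j < 5) (k' : ℕ) :
    (hitSet C (vert C j) k').card =
      aSet.card * ∑ k ∈ (range 5).filter (fun k => orb C k = orb C k'), (dirTab.getD j []).getD k 0 := by
  obtain ⟨-, -, hm, hsum5⟩ := closed_facts hj
  obtain ⟨S, hS, hc, hsum⟩ := list_count C hlab hj k' hm
  have hSr : S = range 3906 := eq_of_subset_of_card_le (fun i hi => mem_range.2 (hS i hi).2)
    (by rw [card_range, hc, hsum5])
  have hU : hitSet C (vert C j) k' = (range 3906).biUnion fun i => fibF i ∩ hitSet C (vert C j) k' := by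
    ext h
    simp only [mem_biUnion, mem_range, mem_inter, mem_fibF]
    refine ⟨fun hh => ?_, fun ⟨i, _, _, hh⟩ => hh⟩
    obtain ⟨i, hi, e⟩ := pnt_surj (h⁻¹ • pnt 0)
    exact ⟨i, hi, e.symm, hh⟩
  rw [hU, card_biUnion, ← hSr, hsum]
  · refine congrArg _ (sum_congr rfl fun k hk => ?_)
    have := List.all_eq_true.1 (List.all_eq_true.1 dir_checks j (List.mem_range.2 hj)) k
      (List.mem_range.2 (mem_range.1 (mem_filter.1 hk).1))
    simpa using this
  · intro a ha b hb hne
    rw [Function.onFun, disjoint_left]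
    intro h h1 h2
    rw [mem_inter, mem_fibF] at h1 h2
    exact hne (pnt_inj (mem_range.1 ha) (mem_range.1 hb) ((Eq.symm h1.1).trans h2.1))

end CfsgLib.LyIndex
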