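import Mathlib.Data.List.Basic

/-!
# Words for the subgroup normalised by z (generated)
-/

set_option autoImplicit false

namespace CfsgLib.LyIndex

/-- Sixteen words generating the subgroup. -/
def xW : List (List ℕ) := [
  [5, 6, 5, 1, 7, 6, 0, 7, 1, 0],
  [6, 6, 0, 2, 5, 1, 2, 1],
  [5, 6, 5, 2, 0, 1, 0],
  [6, 5, 1, 2, 6, 0, 1],
  [1, 1, 5, 6, 2, 1, 0, 2, 6, 6, 7],
  [5, 5, 5],
  [1, 5, 6, 5, 5],
  [0, 1, 1, 0, 6, 6, 5],
  [5, 6, 2, 5, 1, 2, 6, 0, 1, 0],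
  [6, 7, 6, 0, 7, 5, 1, 1],
  [5, 6, 5, 7, 0, 1, 0],
  [6, 5, 1, 7, 6, 0, 1],
  [2, 1, 1, 7, 5, 6, 7, 1, 0, 6, 6],
  [0, 0, 0],
  [0, 0, 1, 0, 6],
  [0, 1, 1, 5, 6, 6, 5]]

/-- Their conjugates by z. -/
def kW : List (List ℕ) := [
  [2],
  [5, 2, 0],
  [6, 2, 1],
  [1, 2, 6],
  [7, 5, 7, 0, 2, 5, 2, 0],
  [0],
  [1, 0, 6],
  [1, 1, 0, 6, 6],
  [7],
  [5, 7, 0],
  [6, 7, 1],
  [1, 7, 6],
  [5, 7, 0, 7, 5, 2, 0, 2],
  [5],
  [1, 5, 6],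
  [1, 1, 5, 6, 6]]

/-- Five representatives. -/
def rW : List (List ℕ) := [
  [],
  [2, 0, 7, 5, 7, 6, 5, 1, 5],
  [5, 6, 7, 5, 1, 2],
  [7, 5, 6, 2, 2, 6, 5, 1, 1, 5],
  [2, 1, 7, 5, 2, 1, 7, 5, 2]]

/-- Decompositions of products of a representative and a letter. -/
def decW : List (ℕ × ℕ × List ℕ × ℕ) := [
  (0, 0, [7, 5, 15], 0),
  (0, 1, [0, 4, 5, 14, 3, 15], 3),
  (0, 2, [1, 4, 14, 10, 6], 0),
  (0, 3, [0, 10, 3, 9], 0),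
  (0, 4, [1, 1, 11], 0),
  (0, 5, [7, 8, 15, 10], 0),
  (0, 6, [12, 12], 0),
  (0, 7, [5, 5, 5], 0),
  (0, 8, [6, 15, 14, 2, 15], 2),
  (0, 9, [0, 2, 3, 3, 2], 0),
  (0, 10, [1, 8, 2, 11], 0),
  (0, 11, [3, 9, 9], 0),
  (0, 12, [2, 7, 0, 15], 0),
  (0, 13, [4, 4], 0),
  (1, 0, [13, 14, 11, 14, 10], 2),
  (1, 1, [13, 14, 0, 15, 8, 13], 2),
  (1, 2, [0, 3, 3, 9, 0], 1),
  (1, 3, [2, 11, 11, 10], 1),
  (1, 4, [3, 8, 10, 9], 1),
  (1, 5, [4, 9, 11], 1),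
  (1, 6, [4, 4], 1),
  (1, 7, [0, 5, 4, 7, 1, 7], 2),
  (1, 8, [14, 0, 13, 14, 10, 15], 4),
  (1, 9, [0, 14, 1, 6, 2], 1),
  (1, 10, [2, 3, 3, 10], 1),
  (1, 11, [0, 2, 1, 11], 1),
  (1, 12, [1, 3, 12], 1),
  (1, 13, [12, 12], 1),
  (2, 0, [4, 7, 5, 0, 15, 8], 1),
  (2, 1, [6, 2, 4, 8, 7], 0),
  (2, 2, [13, 11, 5], 2),
  (2, 3, [3, 2, 8, 2], 2),
  (2, 4, [2], 2),
  (2, 5, [8, 1, 3], 2),
  (2, 6, [4, 4], 2),
  (2, 7, [2, 6, 3, 6, 5], 1),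
  (2, 8, [5, 0, 7, 8, 6, 5], 1),
  (2, 9, [13, 3, 5], 2),
  (2, 10, [10, 0, 10, 11], 2),
  (2, 11, [10], 2),
  (2, 12, [9, 11, 0], 2),
  (2, 13, [12, 12], 2),
  (3, 0, [3, 5, 0, 4, 11], 3),
  (3, 1, [15, 11, 14, 11, 7, 5, 14], 4),
  (3, 2, [4, 10, 10], 3),
  (3, 3, [4, 5, 10, 13], 3),
  (3, 4, [10, 7, 1, 8, 15], 3),
  (3, 5, [15, 3, 7], 3),
  (3, 6, [12], 3),
  (3, 7, [1, 10, 13, 10, 1], 3),
  (3, 8, [0, 7, 10, 6, 2, 13], 0),
  (3, 9, [2, 2, 12], 3),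
  (3, 10, [5, 2, 13, 12], 3),
  (3, 11, [7, 0, 9, 15, 2], 3),
  (3, 12, [15, 11, 7], 3),
  (3, 13, [4], 3),
  (4, 0, [3, 9, 14, 9, 15, 14], 4),
  (4, 1, [7, 2, 6, 5, 8, 6], 1),
  (4, 2, [1, 1, 11, 11, 12], 4),
  (4, 3, [13, 11, 0, 5], 4),
  (4, 4, [7, 4, 11, 15], 4),
  (4, 5, [10], 4),
  (4, 6, [4, 4], 4),
  (4, 7, [1, 7, 3, 6, 4, 7], 4),
  (4, 8, [6, 7, 5, 3, 6, 3, 7], 3),
  (4, 9, [3, 3, 4, 9, 9], 4),
  (4, 10, [9, 13, 3, 5], 4),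
  (4, 11, [7, 3, 12, 15], 4),
  (4, 12, [2], 4),
  (4, 13, [12, 12], 4)]

/-- An invariant set of pairs of points. -/
def pairSet : List (ℕ × ℕ) := [
  (1, 22), (1, 116), (1, 130), (1, 270), (1, 379), (9, 21), (9, 129), (9, 269), (9, 380), (9, 639),
  (10, 11), (10, 139), (10, 630), (10, 637), (10, 638), (11, 10), (11, 77), (11, 78), (11, 631), (11, 632),
  (12, 22), (12, 116), (12, 130), (12, 270), (12, 379), (21, 9), (21, 23), (21, 25), (21, 133), (21, 623),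
  (22, 1), (22, 12), (22, 24), (22, 134), (22, 654), (23, 21), (23, 129), (23, 269), (23, 380), (23, 639),
  (24, 22), (24, 116), (24, 130), (24, 270), (24, 379), (25, 21), (25, 129), (25, 269), (25, 380), (25, 639),
  (77, 11), (77, 139), (77, 630), (77, 637), (77, 638), (78, 11), (78, 139), (78, 630), (78, 637), (78, 638),
  (116, 1), (116, 12), (116, 24), (116, 134), (116, 654), (129, 9), (129, 23), (129, 25), (129, 133), (129, 623),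
  (130, 1), (130, 12), (130, 24), (130, 134), (130, 654), (133, 21), (133, 129), (133, 269), (133, 380), (133, 639),
  (134, 22), (134, 116), (134, 130), (134, 270), (134, 379), (139, 10), (139, 77), (139, 78), (139, 631), (139, 632),
  (269, 9), (269, 23), (269, 25), (269, 133), (269, 623), (270, 1), (270, 12), (270, 24), (270, 134), (270, 654),
  (379, 1), (379, 12), (379, 24), (379, 134), (379, 654), (380, 9), (380, 23), (380, 25), (380, 133), (380, 623),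
  (623, 21), (623, 129), (623, 269), (623, 380), (623, 639), (630, 10), (630, 77), (630, 78), (630, 631), (630, 632),
  (631, 11), (631, 139), (631, 630), (631, 637), (631, 638), (632, 11), (632, 139), (632, 630), (632, 637), (632, 638),
  (637, 10), (637, 77), (637, 78), (637, 631), (637, 632), (638, 10), (638, 77), (638, 78), (638, 631), (638, 632),
  (639, 9), (639, 23), (639, 25), (639, 133), (639, 623), (654, 22), (654, 116), (654, 130), (654, 270), (654, 379)]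

end CfsgLib.LyIndex
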