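import Cfsg.Agent.Lib.LyIndex.Same
import Cfsg.Agent.Lib.LyIndex.DecompData

/-!
# Five cosets of a subgroup inside the stabiliser of the first point
-/

set_option autoImplicit false
set_option maxRecDepth 100000
set_option synthInstance.maxHeartbeats 400000

namespace CfsgLib.LyIndex

open CfsgLib.LyGTwo

/-- The word of a list of the sixteen words. -/
def xs (l : List ℕ) : List ℕ := l.flatMap fun g => xW.getD g []

/-- A representative. -/
def rw5 (s : ℕ) : List ℕ := rW.getD s []

/-- A letter of the stage generating the stabiliser. -/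
def pLet (i : ℕ) : List ℕ := stW ixTwo i

/-- The decompositions are right. -/
def decOk : Bool :=
  (List.range 5).all fun s => (List.range certTwo.ng).all fun i =>
    decW.any fun d => Nat.beq d.1 s && Nat.beq d.2.1 i && d.2.2.1.all (fun g => Nat.blt g 16) &&
      Nat.blt d.2.2.2 5 && same (rw5 s ++ pLet i) (xs d.2.2.1 ++ rw5 d.2.2.2)

theorem dec_ok : decOk = true ∧ rw5 0 = [] ∧ invChk certTwo ixTwo = true ∧
    ((List.range 16).all fun g => okW (xW.getD g []) && Nat.beq (img (xW.getD g []) 0) 0) = true ∧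
    ((List.range 5).all fun s => okW (rw5 s) && Nat.beq (img (rw5 s) 0) 0) = true := by
  refine ⟨?_, ?_, chks_ok.2.2.2.2.1, ?_, ?_⟩ <;> decide +kernel

theorem xW_ok {g : ℕ} (hg : g < 16) : okW (xW.getD g []) = true ∧ img (xW.getD g []) 0 = 0 := by
  have := List.all_eq_true.1 dec_ok.2.2.2.1 g (List.mem_range.2 hg)
  simpa using this

theorem rw5_ok {s : ℕ} (hs : s < 5) : okW (rw5 s) = true ∧ img (rw5 s) 0 = 0 := by
  have := List.all_eq_true.1 dec_ok.2.2.2.2 s (List.mem_range.2 hs)
  simpa using this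

theorem okW_xs : ∀ {l : List ℕ}, (∀ g ∈ l, g < 16) → okW (xs l) = true
  | [], _ => rfl
  | g :: l, h => by
    rw [xs, List.flatMap_cons, okW_append]
    exact ⟨(xW_ok (h g List.mem_cons_self)).1, okW_xs fun x hx => h x (List.mem_cons_of_mem _ hx)⟩

theorem xs_append (l l' : List ℕ) : xs (l ++ l') = xs l ++ xs l' := List.flatMap_append

/-- Every element fixing the first point is in one of the five cosets. -/
theorem pt_decomp {m : Mt} (hm : m ∈ Pt) :
    ∃ l : List ℕ, (∀ g ∈ l, g < 16) ∧ ∃ s < 5, m = gv (xs l ++ rw5 s) := by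
  obtain ⟨hdec, h0, hinv, -, -⟩ := dec_ok
  have step : ∀ (x : Mt) (i : ℕ), i < certTwo.ng →
      (∃ l : List ℕ, (∀ g ∈ l, g < 16) ∧ ∃ s < 5, x = gv (xs l ++ rw5 s)) →
      ∃ l : List ℕ, (∀ g ∈ l, g < 16) ∧ ∃ s < 5, x * stE gG ixTwo i = gv (xs l ++ rw5 s) := by
    rintro x i hi ⟨l, hl, s, hs, rfl⟩
    have h := List.all_eq_true.1 (List.all_eq_true.1 hdec s (List.mem_range.2 hs)) i (List.mem_range.2 hi)
    obtain ⟨⟨s', i', l', t⟩, -, hd⟩ := List.any_eq_true.1 h
    simp only [Bool.and_eq_true, Nat.beq_eq, Nat.blt_eq, List.all_eq_true] at hd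
    obtain ⟨⟨⟨⟨-, -⟩, hl'⟩, ht⟩, hsame⟩ := hd
    refine ⟨l ++ l', fun g hg => (List.mem_append.1 hg).elim (hl g) (hl' g), t, ht, ?_⟩
    rw [xs_append, List.append_assoc, gv_append (xs l) (xs l' ++ rw5 t), ← gv_same hsame,
      gv_append (xs l) (rw5 s), gv_append (rw5 s), mul_assoc]
    rfl
  induction hm using Subgroup.closure_induction_right with
  | one => exact ⟨[], by simp, 0, by norm_num, by rw [h0]; rfl⟩
  | mul_right x _ y hy ih =>
    obtain ⟨i, hi, rfl⟩ := hy
    exact step x i hi ih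
  | mul_inv_cancel x _ y hy ih =>
    obtain ⟨i, hi, rfl⟩ := hy
    rw [← (invChk_sound gG hinv hi).2]
    exact step x _ (invChk_sound gG hinv hi).1 ih

/-- Membership in the invariant set. -/
def inPairs (a b : ℕ) : Bool := pairSet.any fun p => Nat.beq p.1 a && Nat.beq p.2 b

theorem pairs_ok :
    ((List.range 16).all fun g => pairSet.all fun p =>
      inPairs (img (xW.getD g []) p.1) (img (xW.getD g []) p.2)) = true ∧
    inPairs 1 22 = true ∧
    ((List.range 5).all fun s => (List.range 5).all fun t => Nat.beq s t ||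
      (okW (rw5 t ++ invW (rw5 s)) &&
        !inPairs (img (rw5 t ++ invW (rw5 s)) 1) (img (rw5 t ++ invW (rw5 s)) 22))) = true := by
  refine ⟨?_, ?_, ?_⟩ <;> decide +kernel

theorem img_append (u v : List ℕ) (i : ℕ) : img (u ++ v) i = img v (img u i) := List.foldl_append

theorem pairs_xs : ∀ {l : List ℕ}, (∀ g ∈ l, g < 16) → ∀ {a b : ℕ}, inPairs a b = true →
    inPairs (img (xs l) a) (img (xs l) b) = true
  | [], _, _, _, h => h
  | g :: l, hl, a, b, h => by
    rw [xs, List.flatMap_cons, img_append, img_append]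
    refine pairs_xs (fun x hx => hl x (List.mem_cons_of_mem _ hx)) ?_
    obtain ⟨p, hp, he⟩ := List.any_eq_true.1 h
    simp only [Bool.and_eq_true, Nat.beq_eq] at he
    have := List.all_eq_true.1 (List.all_eq_true.1 pairs_ok.1 g (List.mem_range.2 (hl g List.mem_cons_self))) p hp
    rwa [he.1, he.2] at this

theorem invW_append (u v : List ℕ) : invW (u ++ v) = invW v ++ invW u := by
  simp [invW, List.reverse_append]

/-- The five cosets are different. -/
theorem coset_inj {l : List ℕ} (hl : ∀ g ∈ l, g < 16) {s t : ℕ} (hs : s < 5) (ht : t < 5)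
    (h : gv (rw5 t) * (gv (rw5 s))⁻¹ = gv (xs l)) : s = t := by
  by_contra hne
  have h3 := List.all_eq_true.1 (List.all_eq_true.1 pairs_ok.2.2 s (List.mem_range.2 hs)) t (List.mem_range.2 ht)
  simp only [Bool.or_eq_true, Nat.beq_eq, hne, false_or, Bool.and_eq_true, Bool.not_eq_true'] at h3
  obtain ⟨hok, hout⟩ := h3
  have key : ∀ b < 3906, img (rw5 t ++ invW (rw5 s)) b = img (xs l) b := by
    intro b hb
    obtain ⟨h1, e1⟩ := img_spec hok hb
    obtain ⟨h2, e2⟩ := img_spec (okW_xs hl) hb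
    refine pnt_inj h1 h2 ?_
    rw [← e1, ← e2, gv_append, gv_invW, h]
  rw [key 1 (by norm_num), key 22 (by norm_num), pairs_xs hl pairs_ok.2.1] at hout
  exact Bool.noConfusion hout

end CfsgLib.LyIndex
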