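import Cfsg.Agent.Lib.LyIndex.Count

/-!
# The five orbits have exactly the expected sizes
-/

set_option autoImplicit false
set_option maxRecDepth 100000
set_option synthInstance.maxHeartbeats 400000

namespace CfsgLib.LyIndex

open CfsgLib.LyGTwo Finset
open scoped Classical

noncomputable local instance mtFintypeExact : Fintype Mt := @Fintype.ofFinite _ mt_finite

/-- An entry of the table of directions. -/
def dirEnt (j k : ℕ) : ℕ := (dirTab.getD j []).getD k 0

/-- A merged row of the table. -/
def mergeRow (L : List ℕ) (j c : ℕ) : ℕ :=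
  (((List.range 5).filter fun k => Nat.beq (L.getD k 0) (L.getD c 0)).map (dirEnt j)).sum

/-- No merging of the five representatives keeps the rows compatible. -/
def mergeCheck : Bool :=
  (List.range 2).all fun b1 => (List.range 3).all fun b2 => (List.range 4).all fun b3 => (List.range 5).all fun b4 =>
    Nat.beq b1 0 ||
    (!((List.range 5).all fun j => (List.range 5).all fun j' =>
        !Nat.beq ([0, b1, b2, b3, b4].getD j 0) ([0, b1, b2, b3, b4].getD j' 0) ||
          (List.range 5).all fun c =>
            Nat.beq (mergeRow [0, b1, b2, b3, b4] j c) (mergeRow [0, b1, b2, b3, b4] j' c))) ||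
    (Nat.beq b1 1 && Nat.beq b2 2 && Nat.beq b3 3 && Nat.beq b4 4)

theorem mergeCheck_ok : mergeCheck = true := by decide +kernel

/-- The sizes of the five orbits. -/
def orbSize (j : ℕ) : ℕ := [1, 19530, 5812500, 2034375, 968750].getD j 0

variable {G X : Type} [Group G] [MulAction G X] (C : Ctx G X)

/-- An orbit as a finite set. -/
noncomputable def orbF (j : ℕ) : Finset X := univ.image fun m : Mt => C.psi m • vert C j

theorem mem_orbF {j : ℕ} {x : X} : x ∈ orbF C j ↔ x ∈ orb C j := by simp [orbF, orb]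

theorem hit_translate (m : Mt) (x : X) (k : ℕ) :
    (hitSet C (C.psi m • x) k).card = (hitSet C x k).card := by
  refine card_nbij' (fun h => h * m) (fun h => h * m⁻¹) ?_ ?_ ?_ ?_
  · intro h hh
    simp only [hitSet, coe_filter, mem_univ, true_and, Set.mem_setOf_eq] at hh ⊢
    rwa [map_mul, mul_smul]
  · intro h hh
    simp only [hitSet, coe_filter, mem_univ, true_and, Set.mem_setOf_eq] at hh ⊢
    rwa [← mul_smul (C.psi _), ← map_mul, inv_mul_cancel_right]
  · intro h _; exact mul_inv_cancel_right _ _
  · intro h _; exact inv_mul_cancel_right _ _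

/-- The points of one orbit that z sends into another. -/
noncomputable def crossSet (j k : ℕ) : Finset X := (orbF C j).filter fun x => C.z • x ∈ orb C k

theorem double_count (j k : ℕ) :
    (orbF C j).card * (hitSet C (vert C j) k).card = Fintype.card Mt * (crossSet C j k).card := by
  have h1 : ∑ x ∈ orbF C j, (hitSet C x k).card = (orbF C j).card * (hitSet C (vert C j) k).card := by
    rw [sum_const_nat]
    intro x hx
    obtain ⟨m, rfl⟩ := (mem_orbF C).1 hx
    exact hit_translate C m _ k
  have h2 : ∀ h : Mt, ((orbF C j).filter fun x => C.z • C.psi h • x ∈ orb C k).card = (crossSet C j k).card := by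
    intro h
    refine card_nbij' (fun x => C.psi h • x) (fun x => C.psi h⁻¹ • x) ?_ ?_ ?_ ?_
    · intro x hx
      simp only [crossSet, coe_filter, mem_orbF, Set.mem_setOf_eq] at hx ⊢
      obtain ⟨⟨m, rfl⟩, hx⟩ := hx
      refine ⟨⟨h * m, ?_⟩, hx⟩
      simp only [map_mul, mul_smul]
    · intro x hx
      simp only [crossSet, coe_filter, mem_orbF, Set.mem_setOf_eq] at hx ⊢
      obtain ⟨⟨m, rfl⟩, hx⟩ := hx
      refine ⟨⟨h⁻¹ * m, by simp only [map_mul, mul_smul]⟩, ?_⟩
      rwa [← mul_smul (C.psi h), ← map_mul, mul_inv_cancel, map_one, one_smul]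
    · intro x _; simp [map_inv]
    · intro x _; simp [map_inv]
  calc (orbF C j).card * (hitSet C (vert C j) k).card
      = ∑ x ∈ orbF C j, (hitSet C x k).card := h1.symm
    _ = ∑ x ∈ orbF C j, ∑ h : Mt, if C.z • C.psi h • x ∈ orb C k then 1 else 0 := by
        exact sum_congr rfl fun x _ => by rw [hitSet, card_filter]
    _ = ∑ h : Mt, ∑ x ∈ orbF C j, if C.z • C.psi h • x ∈ orb C k then 1 else 0 := sum_comm
    _ = ∑ h : Mt, (crossSet C j k).card := sum_congr rfl fun h _ => by rw [← h2 h, card_filter]
    _ = Fintype.card Mt * (crossSet C j k).card := by rw [sum_const, smul_eq_mul, card_univ]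

variable (hlab : ∀ e, C.lab e = 1)
include hlab

theorem cross_le (j k : ℕ) : (crossSet C j k).card ≤ (crossSet C k j).card := by
  obtain ⟨hv, hok⟩ := C.loop_val (i := 0) (by norm_num)
  obtain ⟨g1, g2, e⟩ : ∃ g1 g2, loopG 0 = [g1, g2] := ⟨_, _, rfl⟩
  rw [e] at hv hok
  simp only [loopWord, C.W_append, C.W_z, C.W_nil, one_mul, hlab] at hv
  have hg1 : okW g1 = true := hok g1 (by simp)
  have hg2 : okW g2 = true := hok g2 (by simp)
  have hz : C.z * C.W g1 * C.z = (C.W g2)⁻¹ := eq_inv_of_mul_eq_one_right (by rw [← hv]; group)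
  refine card_le_card_of_injOn (fun x => C.psi (gv g1) • C.z • x) ?_ ?_
  · intro x hx
    simp only [crossSet, coe_filter, mem_orbF, Set.mem_setOf_eq] at hx ⊢
    obtain ⟨⟨m, hm⟩, ⟨n, hn⟩⟩ := hx
    refine ⟨⟨gv g1 * n, by simp only at hn ⊢; rw [map_mul, mul_smul, hn]⟩, ?_⟩
    rw [C.psi_W hg1, ← mul_smul, ← mul_smul, hz, ← C.psi_W hg2, ← map_inv]
    exact ⟨(gv g2)⁻¹ * m, by simp only at hm ⊢; rw [map_mul, mul_smul, hm]⟩
  · intro x _ y _ hxy
    simpa using hxy

theorem cross_symm (j k : ℕ) : (crossSet C j k).card = (crossSet C k j).card :=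
  le_antisymm (cross_le C hlab j k) (cross_le C hlab k j)

omit hlab in
theorem aSet_pos : 0 < aSet.card := by have := aSet_card; omega

theorem balance {j k : ℕ} (hj : j < 5) (hk : k < 5) :
    (orbF C j).card * ∑ l ∈ (range 5).filter (fun l => orb C l = orb C k), dirEnt j l =
      (orbF C k).card * ∑ l ∈ (range 5).filter (fun l => orb C l = orb C j), dirEnt k l := by
  have e1 := double_count C j k
  have e2 := double_count C k j
  rw [cross_symm C hlab k j] at e2
  rw [← e2, hit_count C hlab hj, hit_count C hlab hk, mul_left_comm, mul_left_comm (orbF C k).card] at e1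
  exact Nat.eq_of_mul_eq_mul_left aSet_pos e1

variable (h1 : vert C 1 ≠ vert C 0)
include h1

omit hlab h1 in
theorem psi_fix (m : Mt) : C.psi m • C.p0 = C.p0 := by
  obtain ⟨w, hw, rfl⟩ := exists_word m
  rw [C.psi_W hw]
  exact fix_word C hw

omit hlab h1 in
theorem orb_zero : orb C 0 = {C.p0} := by
  ext x
  simp only [orb, Set.mem_range, Set.mem_singleton_iff, vert_zero, psi_fix]
  exact ⟨fun ⟨_, h⟩ => h.symm, fun h => ⟨1, h.symm⟩⟩

theorem orb_inj {j k : ℕ} (hj : j < 5) (hk : k < 5) (h : orb C j = orb C k) : j = k := by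
  let cls : ℕ → ℕ := fun i => Nat.find (⟨i, rfl⟩ : ∃ l, orb C l = orb C i)
  have hle : ∀ i, cls i ≤ i := fun i => Nat.find_min' _ rfl
  have hspec : ∀ i, orb C (cls i) = orb C i := fun i => Nat.find_spec (⟨i, rfl⟩ : ∃ l, orb C l = orb C i)
  have hiff : ∀ a b, cls a = cls b ↔ orb C a = orb C b := by
    intro a b
    constructor
    · intro e; rw [← hspec a, e, hspec]
    · intro e
      exact le_antisymm (Nat.find_min' _ ((hspec b).trans e.symm)) (Nat.find_min' _ ((hspec a).trans e))
  have hL : ∀ i < 5, [0, cls 1, cls 2, cls 3, cls 4].getD i 0 = cls i := by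
    intro i hi
    interval_cases i
    · simp [Nat.le_zero.1 (hle 0)]
    all_goals rfl
  have hrow : ∀ a < 5, ∀ c < 5, mergeRow [0, cls 1, cls 2, cls 3, cls 4] a c =
      ∑ l ∈ (range 5).filter (fun l => orb C l = orb C c), dirEnt a l := by
    intro a ha c hc
    rw [mergeRow, ← List.sum_toFinset _ (List.Nodup.filter _ List.nodup_range)]
    refine sum_congr ?_ fun _ _ => rfl
    ext l
    simp only [List.mem_toFinset, List.mem_filter, List.mem_range, mem_filter, mem_range, Nat.beq_eq]
    exact and_congr_right fun hl => by rw [hL l hl, hL c hc, hiff]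
  have hne : cls 1 ≠ 0 := by
    intro e
    have e2 : orb C 1 = orb C 0 := by rw [← hspec 1, e]
    have : vert C 1 ∈ orb C 1 := ⟨1, by simp⟩
    rw [e2, orb_zero] at this
    exact h1 this
  have hc := mergeCheck_ok
  simp only [mergeCheck, List.all_eq_true, List.mem_range] at hc
  have hc' := hc (cls 1) (by linarith [hle 1]) (cls 2) (by linarith [hle 2]) (cls 3) (by linarith [hle 3])
    (cls 4) (by linarith [hle 4])
  simp only [Bool.or_eq_true, Nat.beq_eq, hne, false_or, Bool.and_eq_true] at hc'
  rcases hc' with hc' | hc'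
  · exfalso
    rw [Bool.not_eq_true'] at hc'
    refine Bool.false_ne_true (hc'.symm.trans ?_)
    rw [List.all_eq_true]
    intro a ha
    rw [List.all_eq_true]
    intro b hb
    rw [List.mem_range] at ha hb
    rw [hL a ha, hL b hb, Bool.or_eq_true, Bool.not_eq_true']
    rcases eq_or_ne (cls a) (cls b) with e | e
    · refine Or.inr (List.all_eq_true.2 fun c hc2 => ?_)
      rw [List.mem_range] at hc2
      rw [Nat.beq_eq, hrow a ha c hc2, hrow b hb c hc2]
      have hab := (hiff a b).1 e
      have n1 := hit_count C hlab ha c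
      have n2 := hit_count C hlab hb c
      have e3 : (hitSet C (vert C a) c).card = (hitSet C (vert C b) c).card := by
        obtain ⟨m, hm⟩ : vert C a ∈ orb C b := hab ▸ ⟨1, by simp⟩
        rw [← hm, hit_translate]
      exact Nat.eq_of_mul_eq_mul_left aSet_pos (n1.symm.trans (e3.trans n2))
    · left
      rw [← Bool.not_eq_true, Nat.beq_eq]
      exact e
  · obtain ⟨⟨⟨c1, c2⟩, c3⟩, c4⟩ := hc'
    have hid : ∀ i < 5, cls i = i := by
      intro i hi
      interval_cases i
      exacts [Nat.le_zero.1 (hle 0), c1, c2, c3, c4]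
    rw [← hid j hj, ← hid k hk]
    exact (hiff j k).2 h

theorem orb_card {j : ℕ} (hj : j < 5) : (orbF C j).card = orbSize j := by
  have hs : ∀ a < 5, ∀ c < 5, ∑ l ∈ (range 5).filter (fun l => orb C l = orb C c), dirEnt a l = dirEnt a c := by
    intro a _ c hc
    rw [sum_filter, sum_eq_single c]
    · rw [if_pos rfl]
    · intro l hl hne
      rw [if_neg fun e => hne (orb_inj C hlab h1 (mem_range.1 hl) hc e)]
    · intro h; exact absurd (mem_range.2 hc) h
  have hb : ∀ a < 5, ∀ c < 5, (orbF C a).card * dirEnt a c = (orbF C c).card * dirEnt c a := by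
    intro a ha c hc
    have := balance C hlab ha hc
    rwa [hs a ha c hc, hs c hc a ha] at this
  have h0 : (orbF C 0).card = 1 := by
    have : orbF C 0 = {C.p0} := by
      ext x; rw [mem_orbF, orb_zero]; simp
    rw [this, card_singleton]
  have e1 := hb 0 (by norm_num) 1 (by norm_num)
  have e2 := hb 1 (by norm_num) 2 (by norm_num)
  have e3 := hb 1 (by norm_num) 3 (by norm_num)
  have e4 := hb 1 (by norm_num) 4 (by norm_num)
  simp [dirEnt, dirTab] at e1 e2 e3 e4
  interval_cases j <;> simp [orbSize] <;> omega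

/-- The number of points. -/
theorem space_card (hcov : ∀ q, inU C q) : Nat.card X = 8835156 := by
  have hq : ∀ x : X, x ∈ (range 5).biUnion (orbF C) := by
    intro x
    obtain ⟨j, hj, e, m, rfl⟩ := hcov x
    rw [hlab, one_smul]
    exact mem_biUnion.2 ⟨j, mem_range.2 hj, (mem_orbF C).2 ⟨m, rfl⟩⟩
  letI : Fintype X := ⟨(range 5).biUnion (orbF C), hq⟩
  rw [Nat.card_eq_fintype_card]
  show ((range 5).biUnion (orbF C)).card = _
  rw [card_biUnion, sum_congr rfl fun j hj => orb_card C hlab h1 (mem_range.1 hj)]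
  · simp [sum_range_succ, orbSize]
  · intro a ha b hb hne
    rw [Function.onFun, disjoint_left]
    intro x hxa hxb
    rw [mem_orbF] at hxa hxb
    obtain ⟨m, rfl⟩ := hxa
    exact hne (orb_inj C hlab h1 (mem_range.1 ha) (mem_range.1 hb) ((mem_orb_iff C m a b).1 hxb))

end CfsgLib.LyIndex
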