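import Cfsg.Agent.Lib.LyIndex.Table

/-!
# Growing sets of points, and lower bounds from chains
-/

set_option autoImplicit false
set_option maxRecDepth 100000
set_option synthInstance.maxHeartbeats 400000

namespace CfsgLib.LyIndex

open CfsgLib.LyGTwo

/-- Add the children to a set of points; a child is the image of a point already present. -/
def grow (gens : List (List ℕ)) : List (ℕ × ℕ) → ℕ → Option ℕ
  | [], m => some m
  | (p, g) :: rows, m =>
    if m.testBit p && Nat.blt g gens.length && !m.testBit (img (gens.getD g []) p) then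
      grow gens rows (m ||| 2 ^ img (gens.getD g []) p)
    else none

theorem grow_spec {gens : List (List ℕ)} {P : ℕ → Prop}
    (hP : ∀ w ∈ gens, ∀ p, P p → P (img w p)) :
    ∀ {rows : List (ℕ × ℕ)} {m m' : ℕ}, grow gens rows m = some m' →
      (∀ i, m.testBit i = true → P i) →
      (∀ i, m'.testBit i = true → P i) ∧
      ∀ S : Finset ℕ, (∀ i ∈ S, m.testBit i = true) →
        ∃ S' : Finset ℕ, (∀ i ∈ S', m'.testBit i = true) ∧ S'.card = S.card + rows.length
  | [], m, m', h, hm => by
    obtain rfl : m = m' := Option.some.inj h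
    exact ⟨hm, fun S hS => ⟨S, hS, by simp⟩⟩
  | (p, g) :: rows, m, m', h, hm => by
    rw [grow] at h
    split at h
    next hc =>
      simp only [Bool.and_eq_true, Nat.blt_eq, Bool.not_eq_true'] at hc
      obtain ⟨⟨hp, hg⟩, hnew⟩ := hc
      set q := img (gens.getD g []) p with hq
      have hw : gens.getD g [] ∈ gens := by
        rw [List.getD_eq_getElem _ [] hg]
        exact List.getElem_mem hg
      obtain ⟨e1, e2⟩ := grow_spec hP h (fun i hi => by
        rw [Nat.testBit_or, Bool.or_eq_true] at hi
        rcases hi with hi | hi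
        · exact hm i hi
        · rw [Nat.testBit_two_pow, decide_eq_true_eq] at hi
          exact hi ▸ hP _ hw p (hm p hp))
      refine ⟨e1, fun S hS => ?_⟩
      obtain ⟨S', hS', hcard⟩ := e2 (insert q S) (by
        intro i hi
        rw [Nat.testBit_or, Bool.or_eq_true]
        rcases Finset.mem_insert.1 hi with rfl | hi
        · exact Or.inr (Nat.testBit_two_pow_self)
        · exact Or.inl (hS i hi))
      refine ⟨S', hS', ?_⟩
      rw [hcard, Finset.card_insert_of_notMem (fun hmem => by rw [hS q hmem] at hnew; exact Bool.noConfusion hnew)]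
      simp only [List.length_cons]
      omega
    next => exact absurd h (by simp)

/-- One level of a stabiliser chain: the point, the generators and the tree of its orbit. -/
structure Level where
  /-- the point -/
  pt : ℕ
  /-- the generators -/
  gens : List (List ℕ)
  /-- the tree -/
  rows : List (ℕ × ℕ)

/-- The check of a chain: the generators fix the points of the levels above. -/
def chainOk : List ℕ → List Level → Bool
  | _, [] => true
  | fixed, L :: Ls =>
    Nat.blt L.pt 3906 &&
    (L.gens.all fun w => okW w && fixed.all fun b => Nat.blt b 3906 && Nat.beq (img w b) b) &&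
    (grow L.gens L.rows (2 ^ L.pt)).isSome &&
    chainOk (L.pt :: fixed) Ls

/-- The bound of a chain. -/
def chainSize : List Level → ℕ
  | [] => 1
  | L :: Ls => (L.rows.length + 1) * chainSize Ls

/-- The pointwise stabiliser of a list of points. -/
def fixOf (l : List ℕ) : Subgroup Mt where
  carrier := {m | ∀ b ∈ l, m • pnt b = pnt b}
  one_mem' := fun b _ => one_smul _ _
  mul_mem' := fun {u v} hu hv b hb => by rw [mul_smul, hv b hb, hu b hb]
  inv_mem' := fun {u} hu b hb => by rw [inv_smul_eq_iff, hu b hb]

/-- The bases of a chain, innermost first. -/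
def chainPts : List ℕ → List Level → List ℕ
  | fixed, [] => fixed
  | fixed, L :: Ls => chainPts (L.pt :: fixed) Ls

theorem mt_finite : Finite Mt := Nat.finite_of_card_ne_zero (by rw [gTwo_card]; norm_num)

theorem chain_bound (K : Subgroup Mt) :
    ∀ {fixed : List ℕ} {Ls : List Level}, chainOk fixed Ls = true →
      (∀ L ∈ Ls, ∀ w ∈ L.gens, gv w ∈ K) →
      chainSize Ls * Nat.card ↥(K ⊓ fixOf (chainPts fixed Ls)) ≤ Nat.card ↥(K ⊓ fixOf fixed)
  | fixed, [], _, _ => by simp [chainSize, chainPts]
  | fixed, L :: Ls, h, hK => by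
    haveI := mt_finite
    simp only [chainOk, Bool.and_eq_true, Nat.blt_eq, List.all_eq_true, Nat.beq_eq,
      Option.isSome_iff_exists] at h
    obtain ⟨⟨⟨hpt, hgens⟩, m', hgrow⟩, hrest⟩ := h
    have ih := chain_bound K hrest fun L' hL' => hK L' (List.mem_cons_of_mem _ hL')
    set A := K ⊓ fixOf fixed with hA
    set B := K ⊓ fixOf (L.pt :: fixed) with hB
    have key : (L.rows.length + 1) * Nat.card B ≤ Nat.card A := by
      let P : ℕ → Prop := fun i => i < 3906 ∧ ∃ m ∈ A, m • pnt L.pt = pnt i
      have hP : ∀ w ∈ L.gens, ∀ p, P p → P (img w p) := by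
        rintro w hw p ⟨hp, m, hm, e⟩
        obtain ⟨hw6, hfix⟩ := hgens w hw
        obtain ⟨h1, h2⟩ := img_spec hw6 hp
        refine ⟨h1, (gv w)⁻¹ * m, mul_mem (Subgroup.mem_inf.2 ⟨inv_mem (hK L List.mem_cons_self w hw), ?_⟩) hm, ?_⟩
        · intro b hb
          obtain ⟨hb1, hb2⟩ := hfix b hb
          rw [(img_spec hw6 hb1).2, hb2]
        · rw [mul_smul, e, h2]
      obtain ⟨hin, hcount⟩ := grow_spec hP hgrow (fun i hi => by
        rw [Nat.testBit_two_pow, decide_eq_true_eq] at hi
        subst hi
        exact ⟨hpt, 1, one_mem _, one_smul _ _⟩)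
      obtain ⟨S, hS, hScard⟩ := hcount {L.pt} (fun i hi => by
        rw [Finset.mem_singleton.1 hi]; exact Nat.testBit_two_pow_self)
      rw [Finset.card_singleton, Nat.add_comm] at hScard
      choose f hfA hfv using fun i : S => (hin i.1 (hS i.1 i.2)).2
      let F : S × B → A := fun p => ⟨f p.1 * p.2.1, mul_mem (hfA p.1) (Subgroup.mem_inf.2
        ⟨(Subgroup.mem_inf.1 p.2.2).1, fun i hi => (Subgroup.mem_inf.1 p.2.2).2 i (List.mem_cons_of_mem _ hi)⟩)⟩
      have hF : Function.Injective F := by
        rintro ⟨i, u⟩ ⟨j, v⟩ e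
        have e' : f i * u.1 = f j * v.1 := congrArg Subtype.val e
        have hu : u.1 • pnt L.pt = pnt L.pt := (Subgroup.mem_inf.1 u.2).2 L.pt List.mem_cons_self
        have hv : v.1 • pnt L.pt = pnt L.pt := (Subgroup.mem_inf.1 v.2).2 L.pt List.mem_cons_self
        have e2 := congrArg (fun m : Mt => m • pnt L.pt) e'
        simp only [mul_smul, hu, hv, hfv] at e2
        obtain rfl : i = j := Subtype.ext
          (pnt_inj (hin i.1 (hS i.1 i.2)).1 (hin j.1 (hS j.1 j.2)).1 e2)
        obtain rfl : u = v := Subtype.ext (mul_left_cancel e')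
        rfl
      have := Nat.card_le_card_of_injective F hF
      rwa [Nat.card_prod, Nat.card_eq_fintype_card (α := S), Fintype.card_coe, hScard] at this
    calc chainSize (L :: Ls) * Nat.card ↥(K ⊓ fixOf (chainPts (L.pt :: fixed) Ls))
        = (L.rows.length + 1) * (chainSize Ls * Nat.card ↥(K ⊓ fixOf (chainPts (L.pt :: fixed) Ls))) := by
          rw [chainSize, mul_assoc]
      _ ≤ (L.rows.length + 1) * Nat.card B := Nat.mul_le_mul_left _ ih
      _ ≤ Nat.card A := key

theorem fix_nil : fixOf [] = ⊤ := by
  ext m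
  simp [fixOf]

/-- A chain in a subgroup bounds its order from below. -/
theorem chain_card (K : Subgroup Mt) {Ls : List Level} (h : chainOk [] Ls = true)
    (hK : ∀ L ∈ Ls, ∀ w ∈ L.gens, gv w ∈ K) : chainSize Ls ≤ Nat.card ↥K := by
  haveI := mt_finite
  have h1 := chain_bound K h hK
  have hpos : 0 < Nat.card ↥(K ⊓ fixOf (chainPts [] Ls)) := Nat.card_pos
  rw [fix_nil, inf_top_eq] at h1
  exact (Nat.le_mul_of_pos_right _ hpos).trans h1

end CfsgLib.LyIndex
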