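import Cfsg.Agent.Lib.LyIndex.Closed
import Cfsg.Agent.Lib.LyGTwo.Main

/-!
# Homomorphisms from G₂(5) and the setting of the presented Lyons group
-/

set_option autoImplicit false
set_option maxRecDepth 100000
set_option synthInstance.maxHeartbeats 400000

namespace CfsgLib.LyIndex

open CfsgLib.LyGTwo Cfsg.Lie

local instance : Fact (Nat.Prime 5) := ⟨by norm_num⟩

/-- Values satisfying the first 44 relators give a homomorphism from G₂(5). -/
theorem exists_mtHom {M : Type} [Group M] (f : ℕ → M) (h : ∀ j, prodV f (rel44 j) = 1) :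
    ∃ q : Mt →* M, ∀ g < 4, q (gG g) = f g := by
  let P : ℕ → Mt × M := fun g => (gG g, f g)
  have hP : ∀ j, prodV P (rel44 j) = 1 := fun j => Prod.ext
    (by rw [show (prodV P (rel44 j)).1 = MonoidHom.fst _ _ (prodV P (rel44 j)) from rfl, map_prodV]
        exact gG_rels j)
    (by rw [show (prodV P (rel44 j)).2 = MonoidHom.snd _ _ (prodV P (rel44 j)) from rfl, map_prodV]
        exact h j)
  obtain ⟨hfin, hcard⟩ := card_le P hP
  set Y := Subgroup.closure (P '' {g | g < 4})
  let p : ↥Y →* Mt := (MonoidHom.fst _ _).comp Y.subtype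
  have hp : Function.Surjective p := by
    intro x
    have hx : x ∈ Y.map (MonoidHom.fst _ _) := by
      rw [MonoidHom.map_closure, Set.image_image]
      exact gG_top.symm ▸ Subgroup.mem_top x
    obtain ⟨y, hy, e⟩ := hx
    exact ⟨⟨y, hy⟩, e⟩
  have hb : Function.Bijective p := by
    have h1 := Nat.card_le_card_of_surjective p hp
    exact (Nat.bijective_iff_surjective_and_card p).2
      ⟨hp, le_antisymm (hcard.trans_eq gTwo_card.symm) h1⟩
  let e : ↥Y ≃* Mt := MulEquiv.ofBijective p hb
  refine ⟨((MonoidHom.snd _ _).comp Y.subtype).comp e.symm.toMonoidHom, fun g hg => ?_⟩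
  have hy : P g ∈ Y := Subgroup.subset_closure ⟨g, hg, rfl⟩
  have he : e.symm (gG g) = ⟨P g, hy⟩ := (MulEquiv.symm_apply_eq e).2 rfl
  simp [he, P]

/-- The map of G₂(5) to the presented group. -/
noncomputable def psiLy : Mt →* Cfsg.Spor.Ly := (exists_mtHom fLy fLy_rel44).choose

theorem psiLy_gen : ∀ g < 4, psiLy (gG g) = fLy g := (exists_mtHom fLy fLy_rel44).choose_spec

/-- The image of G₂(5). -/
noncomputable def hLy : Subgroup Cfsg.Spor.Ly := psiLy.range

theorem hLy_eq : hLy = Subgroup.closure (fLy '' {g | g < 4}) := by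
  rw [hLy, MonoidHom.range_eq_map, ← gG_top, MonoidHom.map_closure, Set.image_image]
  exact congrArg _ (Set.image_congr fun g hg => psiLy_gen g hg)

theorem psiLy_injective : Function.Injective psiLy := by
  have := gTwo_simple
  rw [← MonoidHom.ker_eq_bot_iff]
  rcases IsSimpleGroup.eq_bot_or_eq_top_of_normal psiLy.ker (MonoidHom.normal_ker psiLy) with h | h
  · exact h
  · exact absurd ((psiLy_gen 0 (by norm_num)).symm.trans
      (MonoidHom.mem_ker.1 (h ▸ Subgroup.mem_top (gG 0)))) fLy_ne_one

theorem hLy_card : Nat.card ↥hLy = 5859000000 := by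
  rw [hLy, ← Nat.card_congr (MonoidHom.ofInjective psiLy_injective).toEquiv]
  exact gTwo_card

theorem fLy_top (S : Subgroup Cfsg.Spor.Ly) (h : ∀ g < 5, fLy g ∈ S) : S = ⊤ := by
  rw [eq_top_iff, ← PresentedGroup.closure_range_of, Subgroup.closure_le]
  rintro x ⟨g, rfl⟩
  rw [of_eq_genV, genV]
  refine list_prod_mem fun y hy => ?_
  obtain ⟨k, -, rfl⟩ := List.mem_map.1 hy
  simp only [letV]
  split
  · exact h _ (by omega)
  · exact inv_mem (h _ (by omega))

/-- The presented group acting on the cosets of the image of G₂(5). -/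
noncomputable def lyCtx : Ctx Cfsg.Spor.Ly (Cfsg.Spor.Ly ⧸ hLy) where
  f := fLy
  psi := psiLy
  psi_gen := psiLy_gen
  t := fun _ => 1
  t_mem := fun _ => one_mem _
  t_eq := fun i hi => by
    refine relW_one ?_
    have hlen : relW.length = 86 := by decide +kernel
    rw [List.getD_eq_getElem?_getD, List.getElem?_eq_getElem (by omega)]
    exact List.getElem_mem _
  h44 := fLy_rel44
  p0 := ((1 : Cfsg.Spor.Ly) : Cfsg.Spor.Ly ⧸ hLy)
  fix := fun g hg => by
    rw [MulAction.Quotient.smul_coe, smul_eq_mul, mul_one, QuotientGroup.eq, mul_one]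
    exact inv_mem ⟨gG g, psiLy_gen g hg⟩

theorem lyCtx_lab (e : List ℤ) : lyCtx.lab e = 1 :=
  List.prod_eq_one fun x hx => by
    obtain ⟨i, -, rfl⟩ := List.mem_map.1 hx
    exact one_zpow _

end CfsgLib.LyIndex
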