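import Cfsg.Agent.Lib.LyIndex.Exact
import Cfsg.Agent.Lib.LyIndex.Setting

/-!
# The index of G₂(5) in the presented Lyons group
-/

set_option autoImplicit false
set_option maxRecDepth 100000
set_option synthInstance.maxHeartbeats 400000

namespace CfsgLib.LyIndex

open CfsgLib.LyGTwo

/-- The number of fixed points of a word among the 3906. -/
def fixNum (w : List ℕ) : ℕ := ((List.range 3906).filter fun i => Nat.beq (img w i) i).length

theorem fixNum_checks : okW (xW.getD 0 []) = true ∧ okW (kW.getD 0 []) = true ∧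
    fixNum (xW.getD 0 []) = 31 ∧ fixNum (kW.getD 0 []) = 36 := by
  refine ⟨?_, ?_, ?_, ?_⟩ <;> decide +kernel

theorem fixNum_eq {w : List ℕ} (h : okW w = true) :
    fixNum w = Nat.card {q : Mt ⧸ Pt // gv w • q = q} := by
  classical
  have e : Nat.card {i : Fin 3906 // img w i = i} = fixNum w := by
    rw [Nat.card_eq_fintype_card, Fintype.card_subtype, fixNum,
      ← List.toFinset_card_of_nodup (List.Nodup.filter _ List.nodup_range)]
    refine Finset.card_nbij (fun i => i.val) ?_ ?_ ?_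
    · intro i hi
      simpa [i.isLt] using hi
    · exact fun a _ b _ h => Fin.ext h
    · intro i hi
      simp only [Finset.coe_sort_coe, List.coe_toFinset, Set.mem_setOf_eq, List.mem_filter, List.mem_range,
        Nat.beq_eq] at hi
      exact ⟨⟨i, hi.1⟩, by simpa using hi.2, rfl⟩
  rw [← e]
  refine Nat.card_eq_of_bijective (fun i => ⟨pnt i.1.val, ?_⟩) ⟨?_, ?_⟩
  · have := (img_spec h i.1.isLt).2
    rw [i.2, inv_smul_eq_iff] at this
    exact this.symm
  · intro a b hab
    exact Subtype.ext (Fin.ext (pnt_inj a.1.isLt b.1.isLt (congrArg Subtype.val hab)))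
  · rintro ⟨q, hq⟩
    obtain ⟨i, hi, rfl⟩ := pnt_surj q
    refine ⟨⟨⟨i, hi⟩, ?_⟩, rfl⟩
    refine pnt_inj (img_spec h hi).1 hi ?_
    rw [← (img_spec h hi).2, inv_smul_eq_iff, hq]

theorem not_conj (g : Mt) : g * gv (xW.getD 0 []) ≠ gv (kW.getD 0 []) * g := by
  intro e
  obtain ⟨hx, hk, n1, n2⟩ := fixNum_checks
  rw [fixNum_eq hx] at n1
  rw [fixNum_eq hk] at n2
  have : Nat.card {q : Mt ⧸ Pt // gv (xW.getD 0 []) • q = q} =
      Nat.card {q : Mt ⧸ Pt // gv (kW.getD 0 []) • q = q} := by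
    refine Nat.card_congr ((MulAction.toPerm g).subtypeEquiv fun q => ?_)
    rw [MulAction.toPerm_apply, ← mul_smul (gv (kW.getD 0 [])), ← e, mul_smul]
    exact (smul_left_cancel_iff g).symm
  omega

/-- In a group where G₂(5) is embedded and the fourteen factors are trivial, z is outside its image. -/
theorem z_notin {G X : Type} [Group G] [MulAction G X] (C : Ctx G X) (hlab : ∀ e, C.lab e = 1)
    (hinj : Function.Injective C.psi) : C.z ∉ C.psi.range := by
  rintro ⟨g, hg⟩
  obtain ⟨e, hok⟩ := C.z_conj (g := 0) (by norm_num)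
  obtain ⟨hx, hk, -, -⟩ := fixNum_checks
  rw [hlab, mul_one, ← C.psi_W hx, ← C.psi_W hk, ← hg, ← map_mul, ← map_mul] at e
  exact not_conj g (hinj e)

theorem ly_vert : vert lyCtx 1 ≠ vert lyCtx 0 := by
  intro e
  have h : vdef[0]? = some (0, []) := by decide
  rw [vert_zero, vert] at e
  simp only [vertAux, h, lyCtx.W_nil, one_smul] at e
  refine z_notin lyCtx lyCtx_lab psiLy_injective ?_
  show lyCtx.z ∈ hLy
  simp only [lyCtx, MulAction.Quotient.smul_coe, smul_eq_mul, mul_one, QuotientGroup.eq] at e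
  exact inv_mem_iff.1 e

theorem ly_cover (q : Cfsg.Spor.Ly ⧸ hLy) : inU lyCtx q :=
  inU_all lyCtx (fun S hf _ => fLy_top S hf) q

/-- The index. -/
theorem hLy_index : hLy.index = 8835156 := by
  rw [Subgroup.index_eq_card]
  exact space_card lyCtx lyCtx_lab ly_vert ly_cover

theorem abcd_index :
    ((Subgroup.closure ({Cfsg.Spor.Ly.a, Cfsg.Spor.Ly.b, Cfsg.Spor.Ly.c, Cfsg.Spor.Ly.d} :
      Set (FreeGroup Cfsg.Spor.Ly.Gen))).map
      (PresentedGroup.mk (Cfsg.Spor.coxRelators Cfsg.Spor.Ly.edges ∪ {r | r ∈ Cfsg.Spor.Ly.extra}))).index =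
      8835156 := by
  rw [abcd_image, ← hLy_eq]
  exact hLy_index

end CfsgLib.LyIndex
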