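import Mathlib.Data.List.Basic

/-!
# The definitions of the vertices (generated)
-/

set_option autoImplicit false

namespace CfsgLib.LyIndex

/-- The source vertex and the word of the vertices one to four. -/
def vdefData : List (ℕ × List ℕ) := [(0, []), (1, [2, 0, 7, 5, 7, 6, 0, 1, 0, 8, 2, 1, 0, 6]), (2, [2, 3, 1, 1, 7, 8, 2, 2, 0, 1, 1, 0, 7, 0]), (3, [3, 2, 0, 6, 2, 2, 3])]

end CfsgLib.LyIndex
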