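import Cfsg.Agent.Lib.LyIndex.Rel
import Cfsg.Agent.Lib.LyIndex.VertData
import Mathlib.Tactic.Group

/-!
# Derived facts about the points and their check
-/

set_option autoImplicit false
set_option maxRecDepth 100000
set_option synthInstance.maxHeartbeats 400000

namespace CfsgLib.LyIndex

open CfsgLib.LyGTwo

/-- The vertices after the first: the source vertex and the word. -/
def vdef : List (ℕ × List ℕ) := vdefData

/-- A derived fact. -/
inductive Item where
  /-- a word fixes the first point -/
  | root (w : List ℕ)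
  /-- the definition of a vertex -/
  | defn (j : ℕ) (u : List ℕ) (k : ℕ)
  /-- a product of stabiliser facts, `true` for an inverse -/
  | prod (j : ℕ) (w : List ℕ) (e : List ℤ) (l : List (Bool × ℕ))
  /-- a fact about z moved by the normalised subgroup and a stabiliser -/
  | conv (j : ℕ) (u : List ℕ) (k : ℕ) (v : List ℕ) (e : List ℤ) (ti : ℕ) (kk : List ℕ) (si : ℕ)
  /-- the last edge of a loop -/
  | loopT (j : ℕ) (u : List ℕ) (k : ℕ) (v : List ℕ) (e : List ℤ) (li : ℕ) (ts : List ℕ)
  /-- a closed loop -/
  | loopS (j : ℕ) (w : List ℕ) (e : List ℤ) (li : ℕ) (ts : List ℕ)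

/-- What a stabiliser fact says: vertex, word, label. -/
def Item.asS : Item → Option (ℕ × List ℕ × List ℤ)
  | .root w => some (0, w, vzero)
  | .prod j w e _ => some (j, w, e)
  | .loopS j w e _ _ => some (j, w, e)
  | _ => none

/-- What a fact about z says. -/
def Item.asT : Item → Option (ℕ × List ℕ × ℕ × List ℕ × List ℤ)
  | .defn j u k => some (j, u, k, [], vzero)
  | .conv j u k v e _ _ _ => some (j, u, k, v, e)
  | .loopT j u k v e _ _ => some (j, u, k, v, e)
  | _ => none

/-- The word and label of a product. -/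
def prodVal (tab : ℕ → Item) (n j : ℕ) : List (Bool × ℕ) → Option (List ℕ × List ℤ)
  | [] => some ([], vzero)
  | (b, i) :: l =>
    match (tab i).asS, prodVal tab n j l with
    | some (j', w, e), some (w', e') =>
      if Nat.blt i n && Nat.beq j' j then
        some ((if b then invW w else w) ++ w', vadd (if b then vneg e else e) e')
      else none
    | _, _ => none

/-- The label of a list of conjugations. -/
def tauSum : List ℕ → List ℤ
  | [] => vzero
  | g :: l => vadd (tau1 g) (tauSum l)

/-- The word of the images of conjugations. -/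
def ks (l : List ℕ) : List ℕ := l.flatMap fun g => kW.getD g []

/-- Follow a loop. -/
def walk (tab : ℕ → Item) (n : ℕ) : List (List ℕ) → List ℕ → ℕ → List ℕ → List ℤ →
    Option (ℕ × List ℕ × List ℤ)
  | _, [], j, w, e => some (j, w, e)
  | [], _ :: _, _, _, _ => none
  | g :: gs, i :: is, j, w, e =>
    match (tab i).asT with
    | some (j', u, k, v, f) =>
      if Nat.blt i n && Nat.beq j' j && same u w then walk tab n gs is k (g ++ v) (vadd e f) else none
    | none => none

/-- The start of a loop. -/
def startOf (tab : ℕ → Item) : List ℕ → Option (ℕ × List ℕ)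
  | [] => none
  | i :: _ => match (tab i).asT with
    | some (j, u, _, _, _) => some (j, u)
    | none => none

/-- The check of one fact from earlier ones. -/
def chkItem (tab : ℕ → Item) (n : ℕ) : Item → Bool
  | .root w => okW w
  | .defn j u k => decide (1 ≤ k ∧ k < 5 ∧ vdef[k - 1]? = some (j, u) ∧ j < k) && okW u
  | .prod j w e l =>
    Nat.blt j 5 && match prodVal tab n j l with
      | some (w', e') => same w w' && decide (e = e')
      | none => false
  | .conv j u k v e ti kk si =>
    match (tab ti).asT, (tab si).asS with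
    | some (j', u0, k', v0, e0), some (j'', l, f) =>
      Nat.blt ti n && Nat.blt si n && Nat.beq j' j && Nat.beq j'' j && Nat.beq k' k &&
        (kk.all fun g => Nat.blt g 16) && same u (xs kk ++ u0 ++ l) && same v (ks kk ++ v0) &&
        decide (e = vadd (vadd e0 f) (tauSum kk))
    | _, _ => false
  | .loopT j u k v e li ts =>
    Nat.blt li 20 && Nat.beq (ts.length + 1) (loopG li).length && match startOf tab ts with
    | some (j0, u0) => match walk tab n (loopG li) ts j0 u0 vzero with
      | some (q, w, s) => Nat.beq q j && Nat.beq j0 k && Nat.blt j 5 && Nat.blt k 5 && same u w &&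
          same v (invW ((loopG li).getD ts.length []) ++ u0) && decide (e = vadd (loopR li) (vneg s))
      | none => false
    | none => false
  | .loopS j w e li ts =>
    Nat.blt li 20 && Nat.beq ts.length (loopG li).length && match startOf tab ts with
    | some (j0, u0) => match walk tab n (loopG li) ts j0 u0 vzero with
      | some (q, w', s) => Nat.beq q j && Nat.beq j0 j && Nat.blt j 5 && same w (invW u0 ++ w') &&
          decide (e = vadd (loopR li) (vneg s))
      | none => false
    | none => false

variable {G X : Type} [Group G] [MulAction G X] (C : Ctx G X)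

/-- The vertices, computed with fuel. -/
def vertAux : ℕ → ℕ → X
  | 0, _ => C.p0
  | _ + 1, 0 => C.p0
  | n + 1, k + 1 => match vdef[k]? with
    | some (j, u) => C.z • C.W u • vertAux n j
    | none => C.p0

/-- The vertices. -/
def vert (k : ℕ) : X := vertAux C 5 k

/-- The meaning of a fact. -/
def Holds (it : Item) : Prop :=
  (∀ j w e, it.asS = some (j, w, e) →
    j < 5 ∧ okW w = true ∧ C.W w • vert C j = C.lab e • vert C j) ∧
  (∀ j u k v e, it.asT = some (j, u, k, v, e) →
    j < 5 ∧ k < 5 ∧ okW u = true ∧ okW v = true ∧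
      C.z • C.W u • vert C j = C.lab e • C.W v • vert C k)

theorem vert_zero : vert C 0 = C.p0 := rfl

theorem fix_word : ∀ {w : List ℕ}, okW w = true → C.W w • C.p0 = C.p0
  | [], _ => by rw [C.W_nil, one_smul]
  | g :: w, h => by
    simp only [okW, List.all_cons, Bool.and_eq_true] at h
    rw [Ctx.W, prodV_cons, mul_smul, show prodV C.f w = C.W w from rfl, fix_word (w := w) h.2]
    have hl := okG_lt h.1
    have h4 : g % 10 ≠ 4 ∧ g % 10 ≠ 9 := by
      constructor <;> intro e <;> rw [Nat.mod_eq_of_lt hl] at e <;> subst e <;> simp [okG] at h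
    simp only [letV]
    split
    · exact C.fix _ (by omega)
    · rw [inv_smul_eq_iff, C.fix _ (by omega)]

theorem xs_cons (g : ℕ) (l : List ℕ) : xs (g :: l) = xW.getD g [] ++ xs l := List.flatMap_cons

theorem z_xs : ∀ {l : List ℕ}, (∀ g ∈ l, g < 16) →
    C.z * C.W (xs l) = C.W (ks l) * C.z * C.lab (tauSum l) ∧ okW (ks l) = true
  | [], _ => ⟨by simp [xs, ks, tauSum, C.W_nil, C.lab_zero], rfl⟩
  | g :: l, h => by
    obtain ⟨e1, o1⟩ := C.z_conj (h g List.mem_cons_self)
    obtain ⟨e2, o2⟩ := z_xs (l := l) fun x hx => h x (List.mem_cons_of_mem _ hx)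
    have hk : ks (g :: l) = kW.getD g [] ++ ks l := List.flatMap_cons
    refine ⟨?_, by rw [hk, okW_append]; exact ⟨o1, o2⟩⟩
    rw [xs_cons, hk, C.W_append, C.W_append, tauSum, C.lab_add, ← mul_assoc, e1,
      mul_assoc _ (C.lab (tau1 g)), ← C.lab_comm (tau1 g) (C.W (xs l)), ← mul_assoc,
      mul_assoc (C.W (kW.getD g [])) C.z, e2, ← C.lab_comm (tau1 g) (C.lab (tauSum l))]
    simp only [mul_assoc]

theorem invW_ok {w : List ℕ} (h : okW w = true) : okW (invW w) = true := by
  simp only [okW, List.all_eq_true, invW, List.mem_map, List.mem_reverse] at *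
  rintro _ ⟨g, hg, rfl⟩
  have := h g hg
  have hl := okG_lt this
  interval_cases g <;> first | rfl | exact absurd this (by decide)

theorem prodVal_sound {tab : ℕ → Item} {n j : ℕ} (ih : ∀ m < n, Holds C (tab m)) :
    ∀ {l : List (Bool × ℕ)} {w : List ℕ} {e : List ℤ}, prodVal tab n j l = some (w, e) →
      okW w = true ∧ C.W w • vert C j = C.lab e • vert C j
  | [], w, e, h => by
    simp only [prodVal, Option.some.injEq, Prod.mk.injEq] at h
    obtain ⟨rfl, rfl⟩ := h
    exact ⟨rfl, by rw [C.W_nil, C.lab_zero]⟩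
  | (b, i) :: l, w, e, h => by
    simp only [prodVal] at h
    split at h
    · rename_i j' w1 e1 w2 e2 hS hP
      split at h
      · rename_i hc
        simp only [Bool.and_eq_true, Nat.blt_eq, Nat.beq_eq] at hc
        simp only [Option.some.injEq, Prod.mk.injEq] at h
        obtain ⟨rfl, rfl⟩ := h
        obtain ⟨hi, rfl⟩ := hc
        obtain ⟨-, o1, a1⟩ := (ih i hi).1 _ _ _ hS
        obtain ⟨o2, a2⟩ := prodVal_sound ih hP
        cases b
        · simp only [Bool.false_eq_true, if_false]
          refine ⟨okW_append.2 ⟨o1, o2⟩, ?_⟩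
          rw [C.W_append, mul_smul, a2, C.smul_lab, a1, C.lab_add, ← mul_smul, ← C.lab_comm]
        · simp only [if_true]
          refine ⟨okW_append.2 ⟨invW_ok o1, o2⟩, ?_⟩
          have a1' : (C.W w1)⁻¹ • vert C j' = (C.lab e1)⁻¹ • vert C j' := by
            rw [inv_smul_eq_iff, ← C.lab_neg, C.smul_lab, a1, ← mul_smul, C.lab_neg,
              inv_mul_cancel, one_smul]
          rw [C.W_append, C.W_invW, mul_smul, a2, C.smul_lab, a1', C.lab_add, C.lab_neg,
            ← mul_smul, ← C.lab_neg, C.lab_comm]
      · simp at h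
    · simp at h

theorem walk_sound {tab : ℕ → Item} {n : ℕ} (ih : ∀ m < n, Holds C (tab m)) :
    ∀ {gs : List (List ℕ)} {is : List ℕ} {j : ℕ} {w : List ℕ} {e : List ℤ} {q : ℕ} {w' : List ℕ}
      {e' : List ℤ}, (∀ g ∈ gs, okW g = true) → okW w = true → j < 5 →
      walk tab n gs is j w e = some (q, w', e') →
      okW w' = true ∧ q < 5 ∧ C.W (loopWord (gs.take is.length)) • C.lab e • C.W w • vert C j =
        C.lab e' • C.W w' • vert C q
  | gs, [], j, w, e, q, w', e', _, hw, hj, h => by
    rcases gs with _ | ⟨g, gs⟩ <;>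
    · simp only [walk, Option.some.injEq, Prod.mk.injEq] at h
      obtain ⟨rfl, rfl, rfl⟩ := h
      exact ⟨hw, hj, by rw [List.length_nil, List.take_zero, loopWord, C.W_nil, one_smul]⟩
  | [], _ :: _, j, w, e, q, w', e', _, _, _, h => by simp [walk] at h
  | g :: gs, i :: is, j, w, e, q, w', e', hg, hw, hj, h => by
    simp only [walk] at h
    split at h
    · rename_i j' u k v f hT
      split at h
      · rename_i hc
        simp only [Bool.and_eq_true, Nat.blt_eq, Nat.beq_eq] at hc
        obtain ⟨⟨hi, rfl⟩, hs⟩ := hc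
        obtain ⟨-, hk, -, ov, a⟩ := (ih i hi).2 _ _ _ _ _ hT
        obtain ⟨o', hq, a'⟩ := walk_sound ih (gs := gs) (fun x hx => hg x (List.mem_cons_of_mem _ hx))
          (okW_append.2 ⟨hg g List.mem_cons_self, ov⟩) hk h
        refine ⟨o', hq, ?_⟩
        rw [← a', List.length_cons, List.take_succ_cons, loopWord, C.W_append, C.W_append, C.W_z,
          mul_smul, mul_smul, C.smul_lab e, C.smul_lab e, ← C.W_same hs, a, C.lab_add,
          C.smul_lab f, C.W_append, mul_smul, mul_smul]
      · simp at h
    · simp at h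

theorem start_spec {tab : ℕ → Item} {ts : List ℕ} {j0 : ℕ} {u0 : List ℕ} {n : ℕ}
    {gs : List (List ℕ)} {r : ℕ × List ℕ × List ℤ} (ih : ∀ m < n, Holds C (tab m))
    (hs : startOf tab ts = some (j0, u0)) (hw : walk tab n gs ts j0 u0 vzero = some r) :
    j0 < 5 ∧ okW u0 = true := by
  rcases ts with _ | ⟨i, ts⟩
  · simp [startOf] at hs
  · simp only [startOf] at hs
    split at hs
    · rename_i j u k v e hT
      simp only [Option.some.injEq, Prod.mk.injEq] at hs
      obtain ⟨rfl, rfl⟩ := hs
      rcases gs with _ | ⟨g, gs⟩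
      · simp [walk] at hw
      · simp only [walk, hT] at hw
        split at hw
        · rename_i hc
          simp only [Bool.and_eq_true, Nat.blt_eq] at hc
          obtain ⟨a, -, b, -⟩ := (ih i hc.1.1).2 _ _ _ _ _ hT
          exact ⟨a, b⟩
        · simp at hw
    · simp at hs

theorem loop_split : ∀ {gs : List (List ℕ)} {n : ℕ}, gs.length = n + 1 →
    C.W (loopWord gs) = C.W (gs.getD n []) * C.z * C.W (loopWord (gs.take n))
  | [], _, h => by simp at h
  | g :: gs, 0, h => by
    simp only [List.length_cons, Nat.add_left_inj, List.length_eq_zero_iff] at h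
    subst h
    simp [loopWord, C.W_append, C.W_z, C.W_nil]
  | g :: gs, n + 1, h => by
    simp only [List.length_cons, Nat.add_left_inj] at h
    rw [loopWord, List.take_succ_cons, loopWord, List.getD_cons_succ]
    simp only [C.W_append, C.W_z]
    rw [loop_split h]
    simp only [mul_assoc]

theorem chk_sound {tab : ℕ → Item} {n : ℕ} {it : Item} (ih : ∀ m < n, Holds C (tab m))
    (h : chkItem tab n it = true) : Holds C it := by
  cases it with
  | root w =>
    refine ⟨fun j w' e hS => ?_, fun _ _ _ _ _ hT => by simp [Item.asT] at hT⟩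
    simp only [Item.asS, Option.some.injEq, Prod.mk.injEq] at hS
    obtain ⟨rfl, rfl, rfl⟩ := hS
    exact ⟨by norm_num, h, by rw [vert_zero, fix_word C h, C.lab_zero, one_smul]⟩
  | defn j u k =>
    refine ⟨fun _ _ _ hS => by simp [Item.asS] at hS, fun j' u' k' v' e hT => ?_⟩
    simp only [Item.asT, Option.some.injEq, Prod.mk.injEq] at hT
    obtain ⟨rfl, rfl, rfl, rfl, rfl⟩ := hT
    simp only [chkItem, Bool.and_eq_true, decide_eq_true_eq] at h
    obtain ⟨⟨hk1, hk5, hv, hjk⟩, hu⟩ := h
    refine ⟨by omega, hk5, hu, rfl, ?_⟩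
    rw [C.lab_zero, one_smul, C.W_nil, one_smul]
    obtain ⟨k, rfl⟩ : ∃ k', k = k' + 1 := ⟨k - 1, by omega⟩
    simp only [Nat.add_sub_cancel] at hv
    have hfuel : ∀ a b i : ℕ, i ≤ a → i ≤ b → vertAux C a i = vertAux C b i := by
      have hd : ∀ (i : ℕ) (q : ℕ × List ℕ), vdef[i]? = some q → q.1 ≤ i := by
        intro i q hq
        have hl : i < 4 := by
          by_contra hl
          rw [List.getElem?_eq_none (by
            have : vdef.length = 4 := rfl
            omega)] at hq
          simp at hq
        interval_cases i <;> (cases hq; decide)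
      intro a
      induction a with
      | zero =>
        intro b i hi _
        obtain rfl : i = 0 := by omega
        cases b <;> rfl
      | succ a iha =>
        intro b i hi hb
        rcases i with _ | i
        · cases b <;> rfl
        · obtain ⟨b, rfl⟩ : ∃ b', b = b' + 1 := ⟨b - 1, by omega⟩
          simp only [vertAux]
          split
          · rename_i q w hq
            have := hd i _ hq
            rw [iha b q (by omega) (by omega)]
          · rfl
    show C.z • C.W u • vert C j = vert C (k + 1)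
    conv_rhs => rw [vert, vertAux, hv]
    simp only
    rw [vert, hfuel 5 4 j (by omega) (by omega)]
  | prod j w e l =>
    refine ⟨fun j' w' e' hS => ?_, fun _ _ _ _ _ hT => by simp [Item.asT] at hT⟩
    simp only [Item.asS, Option.some.injEq, Prod.mk.injEq] at hS
    obtain ⟨rfl, rfl, rfl⟩ := hS
    simp only [chkItem, Bool.and_eq_true, Nat.blt_eq] at h
    obtain ⟨hj, h⟩ := h
    split at h
    · rename_i w' e' hP
      simp only [Bool.and_eq_true, decide_eq_true_eq] at h
      obtain ⟨hs, rfl⟩ := h
      exact ⟨hj, (same_ok hs).1, by rw [C.W_same hs]; exact (prodVal_sound C ih hP).2⟩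
    · simp at h
  | conv j u k v e ti kk si =>
    refine ⟨fun _ _ _ hS => by simp [Item.asS] at hS, fun j' u' k' v' e' hT => ?_⟩
    simp only [Item.asT, Option.some.injEq, Prod.mk.injEq] at hT
    obtain ⟨rfl, rfl, rfl, rfl, rfl⟩ := hT
    simp only [chkItem] at h
    split at h
    · rename_i j' u0 k' v0 e0 j'' l f hT0 hS0
      simp only [Bool.and_eq_true, Nat.blt_eq, Nat.beq_eq, decide_eq_true_eq, List.all_eq_true] at h
      obtain ⟨⟨⟨⟨⟨⟨⟨⟨hti, hsi⟩, rfl⟩, e2⟩, rfl⟩, hkk⟩, hu⟩, hv⟩, rfl⟩ := h
      subst e2
      obtain ⟨hj, hk, -, -, a⟩ := (ih ti hti).2 _ _ _ _ _ hT0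
      obtain ⟨-, -, b⟩ := (ih si hsi).1 _ _ _ hS0
      refine ⟨hj, hk, (same_ok hu).1, (same_ok hv).1, ?_⟩
      rw [C.W_same hu, C.W_same hv]
      simp only [C.W_append, mul_smul]
      rw [b, C.smul_lab f, C.smul_lab f, C.smul_lab f, ← mul_smul C.z, (z_xs C hkk).1, mul_smul,
        mul_smul, C.smul_lab (tauSum kk) C.z, C.smul_lab (tauSum kk) (C.W (ks kk)), a, C.smul_lab e0,
        C.lab_add, C.lab_add]
      simp only [← mul_smul]
      congr 1
      simp only [← mul_assoc]
      rw [C.lab_comm e0 (C.lab f * C.lab (tauSum kk)), ← mul_assoc]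
    · simp at h
  | loopT j u k v e li ts =>
    refine ⟨fun _ _ _ hS => by simp [Item.asS] at hS, fun j' u' k' v' e' hT => ?_⟩
    simp only [Item.asT, Option.some.injEq, Prod.mk.injEq] at hT
    obtain ⟨rfl, rfl, rfl, rfl, rfl⟩ := hT
    simp only [chkItem, Bool.and_eq_true, Nat.blt_eq, Nat.beq_eq] at h
    obtain ⟨⟨hli, hlen⟩, h⟩ := h
    split at h
    · rename_i j0 u0 hst
      split at h
      · rename_i q w s hwk
        simp only [Bool.and_eq_true, Nat.blt_eq, Nat.beq_eq, decide_eq_true_eq] at h
        obtain ⟨⟨⟨⟨⟨⟨rfl, rfl⟩, hj⟩, hk⟩, hu⟩, hv⟩, rfl⟩ := h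
        obtain ⟨hval, hgs⟩ := C.loop_val hli
        obtain ⟨hj0, hu0⟩ := start_spec C ih hst hwk
        obtain ⟨-, -, a⟩ := walk_sound C ih hgs hu0 hj0 hwk
        refine ⟨hj, hk, (same_ok hu).1, (same_ok hv).1, ?_⟩
        rw [loop_split C hlen.symm] at hval
        rw [C.W_same hu, C.W_same hv, C.W_append, C.W_invW, mul_smul, C.lab_add, C.lab_neg]
        rw [C.lab_zero, one_smul] at a
        set g := (loopG li).getD ts.length [] with hg
        set P := C.W (loopWord ((loopG li).take ts.length)) with hP
        have e1 : C.z * P = (C.W g)⁻¹ * C.lab (loopR li) := by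
          rw [← hval]; group
        have e2 := congrArg (fun x : G => x • C.W u0 • vert C j0) e1
        simp only [mul_smul] at e2
        rw [a, C.smul_lab s, C.smul_lab (loopR li)] at e2
        rw [eq_inv_smul_iff.2 e2, ← mul_smul (C.lab s)⁻¹, ← C.lab_neg, C.lab_comm, C.lab_neg]
      · simp at h
    · simp at h
  | loopS j w e li ts =>
    refine ⟨fun j' w' e' hS => ?_, fun _ _ _ _ _ hT => by simp [Item.asT] at hT⟩
    simp only [Item.asS, Option.some.injEq, Prod.mk.injEq] at hS
    obtain ⟨rfl, rfl, rfl⟩ := hS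
    simp only [chkItem, Bool.and_eq_true, Nat.blt_eq, Nat.beq_eq] at h
    obtain ⟨⟨hli, hlen⟩, h⟩ := h
    split at h
    · rename_i j0 u0 hst
      split at h
      · rename_i q w' s hwk
        simp only [Bool.and_eq_true, Nat.blt_eq, Nat.beq_eq, decide_eq_true_eq] at h
        obtain ⟨⟨⟨⟨rfl, e2⟩, hj⟩, hw⟩, rfl⟩ := h
        subst e2
        obtain ⟨hval, hgs⟩ := C.loop_val hli
        obtain ⟨hj0, hu0⟩ := start_spec C ih hst hwk
        obtain ⟨-, -, a⟩ := walk_sound C ih hgs hu0 hj0 hwk
        refine ⟨hj, (same_ok hw).1, ?_⟩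
        rw [hlen, List.take_length, hval, C.lab_zero, one_smul] at a
        rw [C.W_same hw, C.W_append, C.W_invW, mul_smul, inv_smul_eq_iff, C.smul_lab,
          C.lab_add, C.lab_neg, mul_smul, ← C.lab_neg, C.smul_lab (vneg s), C.lab_neg, eq_inv_smul_iff]
        exact a.symm
      · simp at h
    · simp at h

/-- All facts below a bound hold once each is checked from the earlier ones. -/
theorem holds_all {tab : ℕ → Item} {N : ℕ} (h : ∀ n < N, chkItem tab n (tab n) = true) :
    ∀ n < N, Holds C (tab n) := by
  intro n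
  induction n using Nat.strong_induction_on with
  | _ n ihn => exact fun hn => chk_sound C (fun m hm => ihn m hm (hm.trans hn)) (h n hn)

end CfsgLib.LyIndex
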