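import Cfsg.Agent.Lib.LyIndex.Setting
import Cfsg.Agent.Lib.Known.SL2Multiplier
import Cfsg.Agent.S2100
import Mathlib.GroupTheory.Commutator.Basic

/-!
# Stem extensions of the presented Lyons group
-/

set_option autoImplicit false
set_option maxRecDepth 100000
set_option synthInstance.maxHeartbeats 400000

namespace CfsgLib.LyIndex

open CfsgLib.LyGTwo Cfsg.Lie
open scoped commutatorElement

local instance : Fact (Nat.Prime 5) := ⟨by norm_num⟩

/-- A multiple of a label. -/
def vscale (c : ℤ) (a : List ℤ) : List ℤ := (List.range 14).map fun i => c * a.getD i 0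

/-- An integer combination of labels. -/
def vcomb : List ℤ → List (List ℤ) → List ℤ
  | c :: cs, a :: as => vadd (vscale c a) (vcomb cs as)
  | _, _ => vzero

/-- The exponent sums of z in the last fourteen relators. -/
def zExp : List ℤ := [0, 0, 0, 0, 0, 0, 0, 0, 2, 3, 3, 0, 0, 0]

/-- The labels of the chosen facts. -/
def eqLabs : List (List ℤ) := eqIdx.map fun n => ((tab n).asS.getD (0, [], [])).2.2

/-- The chosen facts are about empty words and their labels give the fourteen relations. -/
def eqChk : Bool :=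
  (eqIdx.all fun n => Nat.blt n itemCount && match (tab n).asS with
    | some (_, [], _) => true
    | _ => false) &&
  (List.range 14).all fun i => decide (vcomb (eqCoef.getD i []) eqLabs =
    vadd (vunit i 1) (vscale (zExp.getD i 0) (vadd (vunit 8 1) (vunit 9 (-1)))))

theorem eqChk_ok : eqChk = true := by decide +kernel

section labels

variable {G X : Type} [Group G] [MulAction G X] (C : Ctx G X)

theorem prod_pow_scale (c : ℤ) : ∀ (l : List ℕ) (a : ℕ → ℤ),
    (l.map fun i => C.t i ^ (c * a i)).prod = (l.map fun i => C.t i ^ a i).prod ^ c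
  | [], _ => by simp
  | i :: l, a => by
    simp only [List.map_cons, List.prod_cons]
    have hc : Commute (C.t i ^ a i) (l.map fun i => C.t i ^ a i).prod :=
      (Subgroup.mem_center_iff.1 (zpow_mem (C.t_mem i) _) _).symm
    rw [prod_pow_scale c l a, hc.mul_zpow, ← zpow_mul, mul_comm c]

theorem lab_scale (c : ℤ) (a : List ℤ) : C.lab (vscale c a) = C.lab a ^ c := by
  rw [vscale, Ctx.lab_map, prod_pow_scale]
  rfl

theorem lab_vcomb : ∀ {cs : List ℤ} {as : List (List ℤ)}, (∀ a ∈ as, C.lab a = 1) →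
    C.lab (vcomb cs as) = 1
  | [], _, _ => by rw [vcomb, C.lab_zero]; simp
  | _ :: _, [], _ => by rw [vcomb, C.lab_zero]; simp
  | c :: cs, a :: as, h => by
    rw [vcomb, C.lab_add, lab_scale, h a List.mem_cons_self, one_zpow, one_mul,
      lab_vcomb fun b hb => h b (List.mem_cons_of_mem _ hb)]

/-- When the chosen labels vanish, the fourteen central factors are powers of one element. -/
theorem t_pow (h : ∀ a ∈ eqLabs, C.lab a = 1) {i : ℕ} (hi : i < 14) :
    C.t i = (C.t 9 * (C.t 8)⁻¹) ^ zExp.getD i 0 := by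
  have hk := eqChk_ok
  simp only [eqChk, Bool.and_eq_true, List.all_eq_true, decide_eq_true_eq, List.mem_range] at hk
  have e := congrArg C.lab (hk.2 i hi)
  rw [lab_vcomb C h, C.lab_add, lab_scale, C.lab_add, C.lab_unit hi, C.lab_unit (by norm_num),
    C.lab_unit (by norm_num), zpow_one, zpow_one, zpow_neg_one] at e
  rw [eq_inv_of_mul_eq_one_left e.symm, ← inv_zpow, mul_inv_rev, inv_inv]

end labels

/-- The exponent sum of z. -/
def zSum (w : List ℕ) : Multiplicative ℤ :=
  prodV (fun g => Multiplicative.ofAdd (if g = 4 then 1 else 0 : ℤ)) w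

/-- The shape of the relators. -/
def relShape : Bool :=
  decide (relW.length = 86) &&
  ((List.range 44).all fun i => decide (zSum (relW.getD i []) = 1)) &&
  ((List.range 28).all fun i => decide (relW.getD (44 + i) [] = [])) &&
  (List.range 14).all fun i =>
    decide (zSum (relW.getD (72 + i) []) = Multiplicative.ofAdd (zExp.getD i 0))

theorem relShape_ok : relShape = true := by decide +kernel

theorem commutator_eq_top {P : Type} [Group P] [IsSimpleGroup P]
    (h : ¬ (Nat.card P).Prime) : commutator P = ⊤ := by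
  rcases IsSimpleGroup.eq_bot_or_eq_top_of_normal (commutator P) inferInstance with e | e
  · exfalso
    have hall : ∀ a b : P, a * b = b * a := fun a b => by
      rw [← commutatorElement_eq_one_iff_mul_comm, ← Subgroup.mem_bot, ← e]
      exact Subgroup.commutator_mem_commutator (Subgroup.mem_top a) (Subgroup.mem_top b)
    letI : CommGroup P := { (inferInstance : Group P) with mul_comm := hall }
    exact h IsSimpleGroup.prime_card
  · exact e

/-- G₂(5) lifts to every central extension of the presented group. -/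
theorem exists_gTwo_lift {Γ : Type} [Group Γ] (σ : Γ →* Cfsg.Spor.Ly) (hσ : Function.Surjective σ)
    (hc : σ.ker ≤ Subgroup.center Γ) : ∃ s : Mt →* Γ, ∀ m, σ (s m) = psiLy m := by
  haveI := mt_finite
  haveI := gTwo_simple
  let R : Subgroup Γ := hLy.comap σ
  let e : Mt ≃* ↥hLy := MonoidHom.ofInjective psiLy_injective
  let σR : ↥R →* ↥hLy := (σ.comp R.subtype).codRestrict hLy fun x => x.2
  let τ : ↥R →* Mt := e.symm.toMonoidHom.comp σR
  have hτ : ∀ r : ↥R, psiLy (τ r) = σ r := fun r =>
    congrArg Subtype.val (e.apply_symm_apply (σR r))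
  have hs : Function.Surjective τ := fun m => by
    obtain ⟨x, hx⟩ := hσ (psiLy m)
    refine ⟨⟨x, show σ x ∈ hLy by rw [hx]; exact ⟨m, rfl⟩⟩, psiLy_injective ?_⟩
    rw [hτ]
    exact hx
  have hcτ : τ.ker ≤ Subgroup.center ↥R := fun r hr => by
    refine Subgroup.mem_center_iff.2 fun g => Subtype.ext ?_
    refine Subgroup.mem_center_iff.1 (hc ?_) g.1
    rw [MonoidHom.mem_ker, ← hτ, MonoidHom.mem_ker.1 hr, map_one]
  have hmult : Cfsg.HasCyclicSchurMultiplier Mt 1 :=
    Cfsg.Agent.S2100.result (F := ZMod 5) (by rw [ZMod.card])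
  let p : ↥(commutator ↥R) →* Mt := τ.comp (commutator ↥R).subtype
  have hb : Function.Bijective p := by
    refine ⟨?_, ?_⟩
    · rw [injective_iff_map_eq_one]
      exact fun x hx => Subtype.ext
        (CfsgLib.Known.SL2Mult.free_of_trivial hmult τ hs hcτ x.1 x.2 hx)
    · intro m
      have htop : commutator Mt = ⊤ := commutator_eq_top (by rw [gTwo_card]; norm_num)
      have hm : m ∈ (commutator ↥R).map τ := by
        rw [commutator_def, Subgroup.map_commutator, ← MonoidHom.range_eq_map,
          MonoidHom.range_eq_top.2 hs, ← commutator_def, htop]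
        exact Subgroup.mem_top m
      obtain ⟨r, hr, rfl⟩ := hm
      exact ⟨⟨r, hr⟩, rfl⟩
  let q := MulEquiv.ofBijective p hb
  refine ⟨(R.subtype.comp (commutator ↥R).subtype).comp q.symm.toMonoidHom, fun m => ?_⟩
  show σ ((q.symm m).1 : ↥R) = psiLy m
  rw [← hτ]
  exact congrArg psiLy (q.apply_symm_apply m)

theorem lift_of_central {Γ : Type} [Group Γ] (σ : Γ →* Cfsg.Spor.Ly) (hσ : Function.Surjective σ)
    (hc : σ.ker ≤ Subgroup.center Γ) : ∃ θ : Cfsg.Spor.Ly →* Γ, ∀ x, σ (θ x) = x := by
  obtain ⟨s, hs⟩ := exists_gTwo_lift σ hσ hc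
  let f : ℕ → Γ := fun g => if g < 4 then s (gG g) else Function.surjInv hσ (fLy g)
  have hfσ : ∀ g, σ (f g) = fLy g := fun g => by
    simp only [f]
    split
    · rename_i h; rw [hs, psiLy_gen g h]
    · exact Function.surjInv_eq hσ _
  have hσprod : ∀ w, σ (prodV f w) = prodV fLy w := fun w => by
    rw [map_prodV]; simp only [hfσ]
  obtain ⟨hlen, hz0, hnil, hzt⟩ : relW.length = 86 ∧
      (∀ i < 44, zSum (relW.getD i []) = 1) ∧
      (∀ i < 28, relW.getD (44 + i) [] = []) ∧
      ∀ i < 14, zSum (relW.getD (72 + i) []) = Multiplicative.ofAdd (zExp.getD i 0) := by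
    have h := relShape_ok
    simp only [relShape, Bool.and_eq_true, List.all_eq_true, decide_eq_true_eq, List.mem_range] at h
    exact ⟨h.1.1.1, h.1.1.2, h.1.2, h.2⟩
  let t : ℕ → Γ := fun i => prodV f (relW.getD (72 + i) [])
  have ht : ∀ i, t i ∈ σ.ker := fun i => by
    rw [MonoidHom.mem_ker, hσprod, List.getD_eq_getElem?_getD]
    rcases h : relW[72 + i]? with _ | w
    · rfl
    · exact relW_one (List.mem_of_getElem? h)
  have hpsi : ∀ g < 4, s (gG g) = f g := fun g hg => (if_pos hg).symm
  have hrel44 : ∀ j, prodV f (rel44 j) = 1 := fun j => by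
    have hlt : ∀ x ∈ rel44 j, x % 10 % 5 < 4 := by
      rcases lt_or_ge j 44 with hj | hj
      · have h44 : ((List.range 44).all fun j => (rel44 j).all fun x => Nat.blt (x % 10 % 5) 4) = true := by
          decide +kernel
        simpa [List.all_eq_true] using List.all_eq_true.1 h44 j (List.mem_range.2 hj)
      · have : rel44 j = [] := by
          rw [rel44, List.getD_eq_getElem?_getD, List.getElem?_eq_none (by simp; omega)]
          rfl
        simp [this]
    have e : prodV f (rel44 j) = s (prodV gG (rel44 j)) := by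
      rw [map_prodV, prodV, prodV]
      refine congrArg List.prod (List.map_congr_left fun x hx => ?_)
      have := hlt x hx
      simp only [letV]
      split
      · rw [hpsi _ (by omega)]
      · rw [hpsi _ (by omega)]
    rw [e, gG_rels, map_one]
  let C : Ctx Γ (Γ ⧸ s.range) :=
    { f := f
      psi := s
      psi_gen := hpsi
      t := t
      t_mem := fun i => hc (ht i)
      t_eq := fun _ _ => rfl
      h44 := hrel44
      p0 := ((1 : Γ) : Γ ⧸ s.range)
      fix := fun g hg => by
        rw [MulAction.Quotient.smul_coe, smul_eq_mul, mul_one, QuotientGroup.eq, mul_one]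
        exact inv_mem ⟨gG g, hpsi g hg⟩ }
  have hlabs : ∀ a ∈ eqLabs, C.lab a = 1 := by
    intro a ha
    obtain ⟨n, hn, rfl⟩ := List.mem_map.1 ha
    have hk := eqChk_ok
    simp only [eqChk, Bool.and_eq_true, List.all_eq_true] at hk
    obtain ⟨hlt, hS⟩ := hk.1 n hn
    rw [Nat.blt_eq] at hlt
    split at hS
    · rename_i j e hj
      obtain ⟨-, -, hfix⟩ := (fact_holds C hlt).1 j [] e hj
      rw [C.W_nil, one_smul] at hfix
      obtain ⟨g, hg⟩ := MulAction.exists_smul_eq Γ C.p0 (vert C j)
      rw [← hg, ← C.smul_lab, smul_left_cancel_iff] at hfix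
      have hmem : C.lab e ∈ s.range := by
        have h1 : ((C.lab e : Γ) : Γ ⧸ s.range) = ((1 : Γ) : Γ ⧸ s.range) := by
          have h2 : C.lab e • ((1 : Γ) : Γ ⧸ s.range) = ((1 : Γ) : Γ ⧸ s.range) := hfix.symm
          rwa [MulAction.Quotient.smul_coe, smul_eq_mul, mul_one] at h2
        simpa using QuotientGroup.eq.1 h1
      obtain ⟨m, hm⟩ := hmem
      have hker : C.lab e ∈ σ.ker := list_prod_mem fun x hx => by
        obtain ⟨i, -, rfl⟩ := List.mem_map.1 hx
        exact zpow_mem (ht i) _
      have hm1 : m = 1 := psiLy_injective (by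
        rw [map_one, ← hs, hm]; exact hker)
      rw [hj]
      show C.lab e = 1
      rw [← hm, hm1, map_one]
    · simp at hS
  set lam : Γ := t 9 * (t 8)⁻¹ with hlam
  have hlamk : lam ∈ σ.ker := mul_mem (ht 9) (inv_mem (ht 8))
  have hlamc := Subgroup.mem_center_iff.1 (hc hlamk)
  let Φ : Γ × Multiplicative ℤ →* Γ := MonoidHom.noncommCoprod (MonoidHom.id Γ) (zpowersHom Γ lam⁻¹)
    fun x n => by
      refine Commute.zpow_right ?_ _
      exact Commute.inv_right (hlamc x)
  let P : ℕ → Γ × Multiplicative ℤ := fun g => (f g, Multiplicative.ofAdd (if g = 4 then 1 else 0 : ℤ))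
  let f' : ℕ → Γ := fun g => Φ (P g)
  have hprod : ∀ w, prodV f' w = prodV f w * lam⁻¹ ^ (zSum w).toAdd := fun w => by
    rw [← map_prodV Φ P w]
    have h1 : (prodV P w).1 = prodV f w := by
      rw [show (prodV P w).1 = MonoidHom.fst _ _ (prodV P w) from rfl, map_prodV]; rfl
    have h2 : (prodV P w).2 = zSum w := by
      rw [show (prodV P w).2 = MonoidHom.snd _ _ (prodV P w) from rfl, map_prodV]; rfl
    rw [← h1, ← h2]
    rfl
  have hall : ∀ w ∈ relW, prodV f' w = 1 := by
    intro w hw
    obtain ⟨i, hi, rfl⟩ := List.getElem_of_mem hw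
    rw [hprod]
    have ei : relW[i] = relW.getD i [] := (List.getD_eq_getElem _ _ hi).symm
    rw [ei]
    rcases lt_or_ge i 44 with h1 | h1
    · rw [hz0 i h1, toAdd_one, zpow_zero, mul_one]
      have : relW.getD i [] = rel44 i := by
        rw [rel44, List.getD_eq_getElem?_getD, List.getD_eq_getElem?_getD, List.getElem?_take_of_lt h1]
      rw [this, hrel44]
    rcases lt_or_ge i 72 with h2 | h2
    · obtain ⟨k, rfl⟩ : ∃ k, i = 44 + k := ⟨i - 44, by omega⟩
      rw [hnil k (by omega)]
      simp [zSum]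
    · obtain ⟨k, rfl⟩ : ∃ k, i = 72 + k := ⟨i - 72, by omega⟩
      have hk : k < 14 := by omega
      rw [hzt k hk]
      show t k * lam⁻¹ ^ zExp.getD k 0 = 1
      rw [show t k = lam ^ zExp.getD k 0 from t_pow C hlabs hk, inv_zpow, mul_inv_cancel]
  let θ : Cfsg.Spor.Ly →* Γ := PresentedGroup.toGroup (lift_rels f' hall)
  have hθ : σ.comp θ = MonoidHom.id Cfsg.Spor.Ly := by
    refine PresentedGroup.ext fun g => ?_
    have e1 : θ (PresentedGroup.of g) = genV f' g := PresentedGroup.toGroup.of _
    have hf' : ∀ k, σ (f' k) = fLy k := fun k => by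
      show σ (f k * lam⁻¹ ^ (if k = 4 then (1 : ℤ) else 0)) = fLy k
      rw [map_mul, map_zpow, map_inv, MonoidHom.mem_ker.1 hlamk, inv_one, one_zpow, mul_one, hfσ]
    rw [MonoidHom.comp_apply, e1, MonoidHom.id_apply, genV, map_prodV]
    simp only [hf']
    exact (of_eq_genV g).symm
  exact ⟨θ, fun x => DFunLike.congr_fun hθ x⟩

theorem finite_ly : Finite Cfsg.Spor.Ly := by
  haveI := mt_finite
  haveI : MulAction.IsPretransitive Cfsg.Spor.Ly (Cfsg.Spor.Ly ⧸ hLy) := inferInstance
  have hgen : ∀ S : Subgroup Cfsg.Spor.Ly, (∀ g < 5, lyCtx.f g ∈ S) → (∀ i < 14, lyCtx.t i ∈ S) → S = ⊤ :=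
    fun S h _ => fLy_top S h
  haveI : Finite ↥hLy := Nat.finite_of_card_ne_zero (by rw [hLy_card]; norm_num)
  haveI : Finite (Cfsg.Spor.Ly ⧸ hLy) :=
    Finite.of_surjective (fun p : Fin 5 × Mt => lyCtx.psi p.2 • vert lyCtx p.1.1) fun q => by
      obtain ⟨j, hj, e, m, rfl⟩ := inU_all lyCtx hgen q
      exact ⟨(⟨j, hj⟩, m), by rw [lyCtx_lab, one_smul]⟩
  exact Finite.of_subgroup_quotient hLy

/-- The multiplier of the presented Lyons group is trivial. -/
theorem ly_multiplier : Cfsg.HasCyclicSchurMultiplier Cfsg.Spor.Ly 1 := by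
  haveI := finite_ly
  refine CfsgLib.Known.SL2Mult.hasTrivial fun Γ _ _ σ hσ z hz => ?_
  obtain ⟨θ, hθ⟩ := lift_of_central σ hσ.1 hσ.2.1
  have hle : commutator Γ ≤ θ.range := by
    rw [commutator_def, Subgroup.commutator_le]
    intro a _ b _
    rw [CfsgLib.Known.SL2Lift.comm_central_left hσ.2.1 (show σ a = σ (θ (σ a)) from (hθ _).symm),
      CfsgLib.Known.SL2Lift.comm_central_right hσ.2.1 (show σ b = σ (θ (σ b)) from (hθ _).symm),
      ← map_commutatorElement]
    exact ⟨_, rfl⟩
  obtain ⟨x, rfl⟩ := hle (hσ.2.2 hz)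
  have : x = 1 := by rw [← hθ x]; exact hz
  rw [this, map_one]

end CfsgLib.LyIndex
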