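import Mathlib.Data.List.Basic
import Mathlib.Data.Int.Notation

/-!
# Consequences of the relators that mention z (generated)
-/

set_option autoImplicit false

namespace CfsgLib.LyIndex

/-- The loops: the words between the letters z, the first acting first, and the label. -/
def loopTab : List (List (List ℕ) × List ℤ) := [
  ([[], [5, 5]], [0, 0, 0, 0, 0, 0, 0, 0, 1, 0, 0, 0, 0, 0]),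
  ([[5, 5], []], [0, 0, 0, 0, 0, 0, 0, 0, 1, 0, 0, 0, 0, 0]),
  ([[6, 6, 0, 1, 1], [6, 6, 0, 1, 1], [0, 0, 6, 6, 0, 1, 1]], [0, 0, 0, 0, 0, 0, 0, 0, 0, 1, 0, 0, 0, 0]),
  ([[0, 0, 6, 6, 0, 1, 1], [6, 6, 0, 1, 1], [6, 6, 0, 1, 1]], [0, 0, 0, 0, 0, 0, 0, 0, 0, 1, 0, 0, 0, 0]),
  ([[6, 6, 0, 1, 1], [0, 0, 6, 6, 0, 1, 1], [6, 6, 0, 1, 1]], [0, 0, 0, 0, 0, 0, 0, 0, 0, 1, 0, 0, 0, 0]),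
  ([[5, 7, 8, 0, 7, 6, 0, 7, 8, 5, 7, 0, 2, 6, 6, 7, 6, 5, 6, 6], [5, 3, 6, 7, 5, 1, 7, 8, 1, 7, 6, 5, 7, 0, 6, 0, 1, 0, 6], [7, 8, 5, 7, 5, 1, 7, 8]], [0, 0, 0, 0, 0, 0, 0, 0, 0, 0, 1, 0, 0, 0]),
  ([[7, 8, 5, 7, 5, 1, 7, 8], [5, 7, 8, 0, 7, 6, 0, 7, 8, 5, 7, 0, 2, 6, 6, 7, 6, 5, 6, 6], [5, 3, 6, 7, 5, 1, 7, 8, 1, 7, 6, 5, 7, 0, 6, 0, 1, 0, 6]], [0, 0, 0, 0, 0, 0, 0, 0, 0, 0, 1, 0, 0, 0]),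
  ([[5, 3, 6, 7, 5, 1, 7, 8, 1, 7, 6, 5, 7, 0, 6, 0, 1, 0, 6], [7, 8, 5, 7, 5, 1, 7, 8], [5, 7, 8, 0, 7, 6, 0, 7, 8, 5, 7, 0, 2, 6, 6, 7, 6, 5, 6, 6]], [0, 0, 0, 0, 0, 0, 0, 0, 0, 0, 1, 0, 0, 0]),
  ([[3], [5, 7, 8, 1, 5, 6, 7, 8, 1, 5, 6, 7, 6, 0, 6, 6, 0, 6], [8, 5, 5], [0, 1, 5, 1, 1, 5, 1, 1, 7, 0, 2, 1, 2, 6, 3, 2, 6, 6, 3, 2, 1, 2, 5, 5]], [0, 0, 0, 0, 0, 0, 0, 0, 2, 0, 0, 1, 0, 0]),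
  ([[0, 1, 5, 1, 1, 5, 1, 1, 7, 0, 2, 1, 2, 6, 3, 2, 6, 6, 3, 2, 1, 2, 5, 5], [3], [5, 7, 8, 1, 5, 6, 7, 8, 1, 5, 6, 7, 6, 0, 6, 6, 0, 6], [8, 5, 5]], [0, 0, 0, 0, 0, 0, 0, 0, 2, 0, 0, 1, 0, 0]),
  ([[8, 5, 5], [0, 1, 5, 1, 1, 5, 1, 1, 7, 0, 2, 1, 2, 6, 3, 2, 6, 6, 3, 2, 1, 2, 5, 5], [3], [5, 7, 8, 1, 5, 6, 7, 8, 1, 5, 6, 7, 6, 0, 6, 6, 0, 6]], [0, 0, 0, 0, 0, 0, 0, 0, 2, 0, 0, 1, 0, 0]),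
  ([[5, 7, 8, 1, 5, 6, 7, 8, 1, 5, 6, 7, 6, 0, 6, 6, 0, 6], [8, 5, 5], [0, 1, 5, 1, 1, 5, 1, 1, 7, 0, 2, 1, 2, 6, 3, 2, 6, 6, 3, 2, 1, 2, 5, 5], [3]], [0, 0, 0, 0, 0, 0, 0, 0, 2, 0, 0, 1, 0, 0]),
  ([[7, 6, 7, 8, 1, 1, 7, 8, 6, 7, 6, 6, 7, 1, 0, 1, 1, 0, 1, 5, 6, 5, 5], [0, 6, 6, 5, 2, 1, 7, 1, 5, 7, 7, 3, 2, 0, 2, 5, 2, 6, 8, 5, 5], [1, 0, 6, 5, 6, 6, 5, 6, 2, 1, 1, 2, 1, 3, 2, 6, 6, 3, 2, 1, 2], [8, 0, 2, 1, 2, 5, 7, 8, 0, 6, 5, 2, 5, 6, 6, 5, 1, 5]], [0, 0, 0, 0, 0, 0, 0, 0, 2, 0, 0, 0, 1, 0]),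
  ([[8, 0, 2, 1, 2, 5, 7, 8, 0, 6, 5, 2, 5, 6, 6, 5, 1, 5], [7, 6, 7, 8, 1, 1, 7, 8, 6, 7, 6, 6, 7, 1, 0, 1, 1, 0, 1, 5, 6, 5, 5], [0, 6, 6, 5, 2, 1, 7, 1, 5, 7, 7, 3, 2, 0, 2, 5, 2, 6, 8, 5, 5], [1, 0, 6, 5, 6, 6, 5, 6, 2, 1, 1, 2, 1, 3, 2, 6, 6, 3, 2, 1, 2]], [0, 0, 0, 0, 0, 0, 0, 0, 2, 0, 0, 0, 1, 0]),
  ([[1, 0, 6, 5, 6, 6, 5, 6, 2, 1, 1, 2, 1, 3, 2, 6, 6, 3, 2, 1, 2], [8, 0, 2, 1, 2, 5, 7, 8, 0, 6, 5, 2, 5, 6, 6, 5, 1, 5], [7, 6, 7, 8, 1, 1, 7, 8, 6, 7, 6, 6, 7, 1, 0, 1, 1, 0, 1, 5, 6, 5, 5], [0, 6, 6, 5, 2, 1, 7, 1, 5, 7, 7, 3, 2, 0, 2, 5, 2, 6, 8, 5, 5]], [0, 0, 0, 0, 0, 0, 0, 0, 2, 0, 0, 0, 1, 0]),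
  ([[0, 6, 6, 5, 2, 1, 7, 1, 5, 7, 7, 3, 2, 0, 2, 5, 2, 6, 8, 5, 5], [1, 0, 6, 5, 6, 6, 5, 6, 2, 1, 1, 2, 1, 3, 2, 6, 6, 3, 2, 1, 2], [8, 0, 2, 1, 2, 5, 7, 8, 0, 6, 5, 2, 5, 6, 6, 5, 1, 5], [7, 6, 7, 8, 1, 1, 7, 8, 6, 7, 6, 6, 7, 1, 0, 1, 1, 0, 1, 5, 6, 5, 5]], [0, 0, 0, 0, 0, 0, 0, 0, 2, 0, 0, 0, 1, 0]),
  ([[8, 6, 5, 5], [1, 1, 5, 6, 5, 1, 1, 7, 0, 2, 5, 7, 3, 7, 1, 1, 5, 2, 1, 5, 5], [1, 3], [7, 5, 2, 1, 7, 8, 2, 5, 2, 0, 2, 6, 5, 6, 5, 1]], [0, 0, 0, 0, 0, 0, 0, 0, 2, 0, 0, 0, 0, 1]),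
  ([[7, 5, 2, 1, 7, 8, 2, 5, 2, 0, 2, 6, 5, 6, 5, 1], [8, 6, 5, 5], [1, 1, 5, 6, 5, 1, 1, 7, 0, 2, 5, 7, 3, 7, 1, 1, 5, 2, 1, 5, 5], [1, 3]], [0, 0, 0, 0, 0, 0, 0, 0, 2, 0, 0, 0, 0, 1]),
  ([[1, 3], [7, 5, 2, 1, 7, 8, 2, 5, 2, 0, 2, 6, 5, 6, 5, 1], [8, 6, 5, 5], [1, 1, 5, 6, 5, 1, 1, 7, 0, 2, 5, 7, 3, 7, 1, 1, 5, 2, 1, 5, 5]], [0, 0, 0, 0, 0, 0, 0, 0, 2, 0, 0, 0, 0, 1]),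
  ([[1, 1, 5, 6, 5, 1, 1, 7, 0, 2, 5, 7, 3, 7, 1, 1, 5, 2, 1, 5, 5], [1, 3], [7, 5, 2, 1, 7, 8, 2, 5, 2, 0, 2, 6, 5, 6, 5, 1], [8, 6, 5, 5]], [0, 0, 0, 0, 0, 0, 0, 0, 2, 0, 0, 0, 0, 1])]

/-- The labels of the sixteen conjugations. -/
def tauW : List (List ℤ) := [
  [-1, 0, 0, 0, 0, 0, 0, 0, 0, 0, 0, 0, 0, 0],
  [0, -1, 0, 0, 0, 0, 0, 0, 0, 0, 0, 0, 0, 0],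
  [0, 0, -1, 0, 0, 0, 0, 0, 0, 0, 0, 0, 0, 0],
  [0, 0, 0, -1, 0, 0, 0, 0, 0, 0, 0, 0, 0, 0],
  [0, 0, 0, 0, -1, 0, 0, 0, 0, 0, 0, 0, 0, 0],
  [0, 0, 0, 0, 0, -1, 0, 0, 0, 0, 0, 0, 0, 0],
  [0, 0, 0, 0, 0, 0, -1, 0, 0, 0, 0, 0, 0, 0],
  [0, 0, 0, 0, 0, 0, 0, -1, 0, 0, 0, 0, 0, 0],
  [1, 0, 0, 0, 0, 0, 0, 0, 0, 0, 0, 0, 0, 0],
  [0, 1, 0, 0, 0, 0, 0, 0, 0, 0, 0, 0, 0, 0],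
  [0, 0, 1, 0, 0, 0, 0, 0, 0, 0, 0, 0, 0, 0],
  [0, 0, 0, 1, 0, 0, 0, 0, 0, 0, 0, 0, 0, 0],
  [0, 0, 0, 0, 1, 0, 0, 0, 0, 0, 0, 0, 0, 0],
  [0, 0, 0, 0, 0, 1, 0, 0, 0, 0, 0, 0, 0, 0],
  [0, 0, 0, 0, 0, 0, 1, 0, 0, 0, 0, 0, 0, 0],
  [0, 0, 0, 0, 0, 0, 0, 1, 0, 0, 0, 0, 0, 0]]

/-- Witnesses: conjugates of relators. -/
def witTab : List (List (List ℕ × ℕ × Bool)) := [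
  [([5, 6, 2, 5, 1, 2, 6, 0, 1, 0], 72, true)],
  [([6, 7, 6, 0, 7, 5, 1, 1], 73, true)],
  [([5, 6, 5, 7, 0, 1, 0], 74, true)],
  [([6, 5, 1, 7, 6, 0, 1], 75, true)],
  [([2, 1, 1, 7, 5, 6, 7, 1, 0, 6, 6], 76, true)],
  [([0, 0, 0], 77, true)],
  [([0, 0, 1, 0, 6], 78, true)],
  [([0, 1, 1, 5, 6, 6, 5], 79, true)],
  [([], 72, false)],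
  [([], 73, false)],
  [([], 74, false)],
  [([], 75, false)],
  [([], 76, false)],
  [([], 77, false)],
  [([], 78, false)],
  [([], 79, false)],
  [([9, 9], 80, false)],
  [([9], 80, false)],
  [([9, 6, 6, 5, 1, 1, 9, 6, 6, 5, 1, 1, 9, 6, 6, 5, 1, 1], 81, false)],
  [([9, 6, 6, 5, 1, 1], 81, false)],
  [([9, 6, 6, 5, 1, 1, 9, 6, 6, 5, 1, 1], 81, false)],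
  [([], 82, false)],
  [([9, 3, 2, 6, 0, 2, 0, 3, 2], 82, false)],
  [([9, 1, 5, 6, 5, 1, 5, 2, 0, 1, 2, 6, 3, 2, 6, 0, 2, 1, 8, 0, 9, 3, 2, 6, 0, 2, 0, 3, 2], 82, false)],
  [([9, 8, 9, 1, 5, 1, 1, 5, 1, 2, 1, 0, 6, 3, 2, 1, 0, 6, 3, 2, 0, 9, 0, 0, 3, 9, 0, 0], 83, false), ([9, 8, 9, 1, 5, 1, 1, 5, 1, 2, 1, 0, 6, 3, 2, 1, 0, 6, 3, 2, 0, 9, 0, 0, 3, 9, 0, 0, 7, 6, 7, 8, 1, 1, 7, 8, 1, 7, 6, 7, 5, 2, 6, 6, 0, 6, 6, 0, 6, 5, 9, 8, 9, 1, 5, 1, 1, 5, 1, 2, 1, 0, 6, 3, 2, 1, 0, 6, 3, 2, 0, 9], 80, false), ([9, 8, 9, 1, 5, 1, 1, 5, 1, 2, 1, 0, 6, 3, 2, 1, 0, 6, 3, 2, 0, 9, 0, 0, 3, 9, 0, 0, 7, 6, 7, 8, 1, 1, 7, 8, 1, 7, 6, 7, 5, 2, 6, 6, 0, 6, 6, 0, 6, 5, 9, 8,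 9, 1, 5, 1, 1, 5, 1, 2, 1, 0, 6, 3, 2, 1, 0, 6, 3, 2, 0, 9, 0, 0, 3, 9], 80, false)],
  [([9, 0, 0], 83, false), ([9, 0, 0, 7, 6, 7, 8, 1, 1, 7, 8, 1, 7, 6, 7, 5, 2, 6, 6, 0, 6, 6, 0, 6, 5, 9, 8, 9, 1, 5, 1, 1, 5, 1, 2, 1, 0, 6, 3, 2, 1, 0, 6, 3, 2, 0, 9], 80, false), ([9, 0, 0, 7, 6, 7, 8, 1, 1, 7, 8, 1, 7, 6, 7, 5, 2, 6, 6, 0, 6, 6, 0, 6, 5, 9, 8, 9, 1, 5, 1, 1, 5, 1, 2, 1, 0, 6, 3, 2, 1, 0, 6, 3, 2, 0, 9, 0, 0, 3, 9], 80, false)],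
  [([9, 0, 0, 3, 9, 0, 0], 83, false), ([9, 0, 0, 3, 9, 0, 0, 7, 6, 7, 8, 1, 1, 7, 8, 1, 7, 6, 7, 5, 2, 6, 6, 0, 6, 6, 0, 6, 5, 9, 8, 9, 1, 5, 1, 1, 5, 1, 2, 1, 0, 6, 3, 2, 1, 0, 6, 3, 2, 0, 9], 80, false), ([9, 0, 0, 3, 9, 0, 0, 7, 6, 7, 8, 1, 1, 7, 8, 1, 7, 6, 7, 5, 2, 6, 6, 0, 6, 6, 0, 6, 5, 9, 8, 9, 1, 5, 1, 1, 5, 1, 2, 1, 0, 6, 3, 2, 1, 0, 6, 3, 2, 0, 9, 0, 0, 3, 9], 80, false)],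
  [([9, 1, 5, 1, 1, 5, 1, 2, 1, 0, 6, 3, 2, 1, 0, 6, 3, 2, 0, 9, 0, 0, 3, 9, 0, 0], 83, false), ([9, 1, 5, 1, 1, 5, 1, 2, 1, 0, 6, 3, 2, 1, 0, 6, 3, 2, 0, 9, 0, 0, 3, 9, 0, 0, 7, 6, 7, 8, 1, 1, 7, 8, 1, 7, 6, 7, 5, 2, 6, 6, 0, 6, 6, 0, 6, 5, 9, 8, 9, 1, 5, 1, 1, 5, 1, 2, 1, 0, 6, 3, 2, 1, 0, 6, 3, 2, 0, 9], 80, false), ([9, 1, 5, 1, 1, 5, 1, 2, 1, 0, 6, 3, 2, 1, 0, 6, 3, 2, 0, 9, 0, 0, 3, 9, 0, 0, 7, 6, 7, 8, 1, 1, 7, 8, 1, 7, 6, 7, 5, 2, 6, 6, 0, 6, 6, 0, 6, 5, 9, 8, 9, 1, 5, 1, 1, 5, 1, 2, 1, 0, 6, 3, 2, 1, 0, 6, 3, 2, 0, 9, 0, 0, 3, 9], 80, false)],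
  [([9, 0, 0, 1, 0, 6, 5, 6, 6, 5, 6, 2, 1, 1, 2, 1, 3, 2, 6, 6, 3, 2, 1, 2, 9, 0, 0, 3, 1, 7, 0, 7, 5, 7, 8, 2, 2, 0, 6, 2, 6, 7, 0, 1, 1, 5, 9, 7, 6, 7, 8, 1, 1, 7, 8, 6, 7, 6, 6, 7, 1, 0, 1, 1, 0, 1, 5, 6, 9], 84, false), ([9, 0, 0, 1, 0, 6, 5, 6, 6, 5, 6, 2, 1, 1, 2, 1, 3, 2, 6, 6, 3, 2, 1, 2, 9, 0, 0, 3, 1, 7, 0, 7, 5, 7, 8, 2, 2, 0, 6, 2, 6, 7, 0, 1, 1, 5, 9, 7, 6, 7, 8, 1, 1, 7, 8, 6, 7, 6, 6, 7, 1, 0, 1, 1, 0, 1, 5, 6, 9, 0, 6, 0, 1, 1, 0, 7, 0, 1, 5, 3, 2, 0, 7, 6, 7, 5, 3, 9], 80, false), ([9, 0, 0, 1, 0, 6, 5, 6, 6, 5, 6, 2, 1, 1, 2, 1, 3, 2, 6, 6, 3, 2, 1, 2, 9, 0, 0, 3, 1, 7, 0, 7, 5, 7, 8, 2, 2, 0, 6, 2, 6, 7, 0, 1, 1, 5, 9, 7, 6, 7, 8, 1, 1,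 7, 8, 6, 7, 6, 6, 7, 1, 0, 1, 1, 0, 1, 5, 6, 9, 0, 6, 0, 1, 1, 0, 7, 0, 1, 5, 3, 2, 0, 7, 6, 7, 5, 3, 9, 0, 0, 1, 0, 6, 5, 6, 6, 5, 6, 2, 1, 1, 2, 1, 3, 2, 6, 6, 3, 2, 1, 2, 9], 80, false)],
  [([9], 84, false), ([9, 0, 6, 0, 1, 1, 0, 7, 0, 1, 5, 3, 2, 0, 7, 6, 7, 5, 3, 9], 80, false), ([9, 0, 6, 0, 1, 1, 0, 7, 0, 1, 5, 3, 2, 0, 7, 6, 7, 5, 3, 9, 0, 0, 1, 0, 6, 5, 6, 6, 5, 6, 2, 1, 1, 2, 1, 3, 2, 6, 6, 3, 2, 1, 2, 9], 80, false)],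
  [([9, 7, 6, 7, 8, 1, 1, 7, 8, 6, 7, 6, 6, 7, 1, 0, 1, 1, 0, 1, 5, 6, 9], 84, false), ([9, 7, 6, 7, 8, 1, 1, 7, 8, 6, 7, 6, 6, 7, 1, 0, 1, 1, 0, 1, 5, 6, 9, 0, 6, 0, 1, 1, 0, 7, 0, 1, 5, 3, 2, 0, 7, 6, 7, 5, 3, 9], 80, false), ([9, 7, 6, 7, 8, 1, 1, 7, 8, 6, 7, 6, 6, 7, 1, 0, 1, 1, 0, 1, 5, 6, 9, 0, 6, 0, 1, 1, 0, 7, 0, 1, 5, 3, 2, 0, 7, 6, 7, 5, 3, 9, 0, 0, 1, 0, 6, 5, 6, 6, 5, 6, 2, 1, 1, 2, 1, 3, 2, 6, 6, 3, 2, 1, 2, 9], 80, false)],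
  [([9, 0, 0, 3, 1, 7, 0, 7, 5, 7, 8, 2, 2, 0, 6, 2, 6, 7, 0, 1, 1, 5, 9, 7, 6, 7, 8, 1, 1, 7, 8, 6, 7, 6, 6, 7, 1, 0, 1, 1, 0, 1, 5, 6, 9], 84, false), ([9, 0, 0, 3, 1, 7, 0, 7, 5, 7, 8, 2, 2, 0, 6, 2, 6, 7, 0, 1, 1, 5, 9, 7, 6, 7, 8, 1, 1, 7, 8, 6, 7, 6, 6, 7, 1, 0, 1, 1, 0, 1, 5, 6, 9, 0, 6, 0, 1, 1, 0, 7, 0, 1, 5, 3, 2, 0, 7, 6, 7, 5, 3, 9], 80, false), ([9, 0, 0, 3, 1, 7, 0, 7, 5, 7, 8, 2, 2, 0, 6, 2, 6, 7, 0, 1, 1, 5, 9, 7, 6, 7, 8, 1, 1, 7, 8, 6, 7, 6, 6, 7, 1, 0, 1, 1, 0, 1, 5, 6, 9, 0, 6, 0, 1, 1, 0, 7, 0, 1, 5, 3, 2, 0, 7, 6, 7, 5, 3, 9, 0, 0, 1, 0, 6, 5, 6, 6, 5, 6, 2, 1, 1, 2, 1, 3, 2, 6, 6, 3, 2, 1, 2, 9], 80, false)],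
  [([9, 0, 0, 1, 3, 9, 0, 0, 6, 7, 0, 6, 6, 2, 8, 2, 0, 7, 5, 2, 6, 6, 0, 1, 0, 6, 6, 9, 8, 6, 9], 85, false), ([9, 0, 0, 1, 3, 9, 0, 0, 6, 7, 0, 6, 6, 2, 8, 2, 0, 7, 5, 2, 6, 6, 0, 1, 0, 6, 6, 9, 8, 6, 9, 6, 0, 1, 0, 1, 7, 5, 7, 0, 7, 3, 2, 6, 7, 0, 2, 9], 80, false), ([9, 0, 0, 1, 3, 9, 0, 0, 6, 7, 0, 6, 6, 2, 8, 2, 0, 7, 5, 2, 6, 6, 0, 1, 0, 6, 6, 9, 8, 6, 9, 6, 0, 1, 0, 1, 7, 5, 7, 0, 7, 3, 2, 6, 7, 0, 2, 9, 0, 0, 1, 3, 9], 80, false)],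
  [([9], 85, false), ([9, 6, 0, 1, 0, 1, 7, 5, 7, 0, 7, 3, 2, 6, 7, 0, 2, 9], 80, false), ([9, 6, 0, 1, 0, 1, 7, 5, 7, 0, 7, 3, 2, 6, 7, 0, 2, 9, 0, 0, 1, 3, 9], 80, false)],
  [([9, 8, 6, 9], 85, false), ([9, 8, 6, 9, 6, 0, 1, 0, 1, 7, 5, 7, 0, 7, 3, 2, 6, 7, 0, 2, 9], 80, false), ([9, 8, 6, 9, 6, 0, 1, 0, 1, 7, 5, 7, 0, 7, 3, 2, 6, 7, 0, 2, 9, 0, 0, 1, 3, 9], 80, false)],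
  [([9, 0, 0, 6, 7, 0, 6, 6, 2, 8, 2, 0, 7, 5, 2, 6, 6, 0, 1, 0, 6, 6, 9, 8, 6, 9], 85, false), ([9, 0, 0, 6, 7, 0, 6, 6, 2, 8, 2, 0, 7, 5, 2, 6, 6, 0, 1, 0, 6, 6, 9, 8, 6, 9, 6, 0, 1, 0, 1, 7, 5, 7, 0, 7, 3, 2, 6, 7, 0, 2, 9], 80, false), ([9, 0, 0, 6, 7, 0, 6, 6, 2, 8, 2, 0, 7, 5, 2, 6, 6, 0, 1, 0, 6, 6, 9, 8, 6, 9, 6, 0, 1, 0, 1, 7, 5, 7, 0, 7, 3, 2, 6, 7, 0, 2, 9, 0, 0, 1, 3, 9], 80, false)]]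

end CfsgLib.LyIndex
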