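import Cfsg.Agent.Lib.LyIndex.Decomp
import Cfsg.Agent.Lib.LyIndex.RelData
import Mathlib.GroupTheory.GroupAction.Basic

/-!
# Groups with the relators of the Lyons group up to central factors
-/

set_option autoImplicit false
set_option maxRecDepth 100000
set_option synthInstance.maxHeartbeats 400000

namespace CfsgLib.LyIndex

open CfsgLib.LyGTwo

/-- Five elements satisfying the first 44 relators, and the last fourteen up to central elements,
acting on a set with a point fixed by the first four. -/
structure Ctx (G : Type) (X : Type) [Group G] [MulAction G X] where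
  /-- the five elements -/
  f : ℕ → G
  /-- the map of G₂(5) -/
  psi : Mt →* G
  psi_gen : ∀ g < 4, psi (gG g) = f g
  /-- the central factors -/
  t : ℕ → G
  t_mem : ∀ i, t i ∈ Subgroup.center G
  t_eq : ∀ i < 14, prodV f (relW.getD (72 + i) []) = t i
  h44 : ∀ j, prodV f (rel44 j) = 1
  /-- the point -/
  p0 : X
  fix : ∀ g < 4, f g • p0 = p0

/-- Addition of labels. -/
def vadd (a b : List ℤ) : List ℤ := (List.range 14).map fun i => a.getD i 0 + b.getD i 0

/-- Opposite label. -/
def vneg (a : List ℤ) : List ℤ := (List.range 14).map fun i => -a.getD i 0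

/-- The zero label. -/
def vzero : List ℤ := List.replicate 14 0

/-- A unit label. -/
def vunit (i : ℕ) (s : ℤ) : List ℤ := (List.range 14).map fun k => if k = i then s else 0

namespace Ctx

variable {G X : Type} [Group G] [MulAction G X] (C : Ctx G X)

/-- z -/
def z : G := C.f 4

/-- The element of a word. -/
def W (w : List ℕ) : G := prodV C.f w

/-- The central element of a label. -/
def lab (e : List ℤ) : G := ((List.range 14).map fun i => C.t i ^ e.getD i 0).prod

theorem W_append (u v : List ℕ) : C.W (u ++ v) = C.W u * C.W v := prodV_append _ _ _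

theorem W_invW (w : List ℕ) : C.W (invW w) = (C.W w)⁻¹ := prodV_invW _ _

theorem W_nil : C.W [] = 1 := rfl

theorem W_z : C.W [4] = C.z := by simp [W, prodV, letV, z]

theorem W_zi : C.W [9] = C.z⁻¹ := by simp [W, prodV, letV, z]

theorem W_gv : ∀ {w : List ℕ}, okW w = true → C.W w = C.psi (gv w)
  | [], _ => by simp [W_nil, gv_nil]
  | g :: w, h => by
    simp only [okW, List.all_cons, Bool.and_eq_true] at h
    rw [gv_cons, map_mul, ← W_gv (w := w) h.2, W, prodV_cons]
    congr 1
    have hl := okG_lt h.1
    simp only [letV, Nat.mod_eq_of_lt hl]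
    split
    · rw [C.psi_gen g (by
        rcases eq_or_ne g 4 with rfl | h4
        · simp [okG] at h
        · omega)]
    · rw [map_inv, C.psi_gen (g - 5) (by
        rcases eq_or_ne g 9 with rfl | h4
        · simp [okG] at h
        · omega)]

theorem W_same {u v : List ℕ} (h : same u v = true) : C.W u = C.W v := by
  rw [C.W_gv (same_ok h).1, C.W_gv (same_ok h).2, gv_same h]

theorem lab_mem (e : List ℤ) : C.lab e ∈ Subgroup.center G :=
  list_prod_mem fun x hx => by
    obtain ⟨i, -, rfl⟩ := List.mem_map.1 hx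
    exact zpow_mem (C.t_mem i) _

theorem lab_comm (e : List ℤ) (g : G) : g * C.lab e = C.lab e * g :=
  Subgroup.mem_center_iff.1 (C.lab_mem e) g

theorem smul_lab (e : List ℤ) (g : G) (x : X) : g • C.lab e • x = C.lab e • g • x := by
  rw [← mul_smul, C.lab_comm, mul_smul]

theorem lab_map (a : ℕ → ℤ) :
    C.lab ((List.range 14).map a) = ((List.range 14).map fun i => C.t i ^ a i).prod := by
  rw [lab]
  refine congrArg List.prod (List.map_congr_left fun i hi => ?_)
  have hi' := List.mem_range.1 hi
  simp [List.getD_eq_getElem?_getD, hi']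

theorem prod_pow_add : ∀ (l : List ℕ) (a b : ℕ → ℤ),
    (l.map fun i => C.t i ^ (a i + b i)).prod =
      (l.map fun i => C.t i ^ a i).prod * (l.map fun i => C.t i ^ b i).prod
  | [], _, _ => by simp
  | i :: l, a, b => by
    simp only [List.map_cons, List.prod_cons]
    rw [prod_pow_add l a b, zpow_add]
    have hc : ∀ g : G, g * C.t i ^ b i = C.t i ^ b i * g :=
      Subgroup.mem_center_iff.1 (zpow_mem (C.t_mem i) _)
    simp only [mul_assoc]
    rw [← mul_assoc (C.t i ^ b i), ← hc, mul_assoc]

theorem lab_add (a b : List ℤ) : C.lab (vadd a b) = C.lab a * C.lab b := by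
  rw [vadd, lab_map, prod_pow_add]
  rfl

theorem lab_zero : C.lab vzero = 1 := by
  refine List.prod_eq_one fun x hx => ?_
  obtain ⟨i, hi, rfl⟩ := List.mem_map.1 hx
  have hi' := List.mem_range.1 hi
  interval_cases i <;> simp [vzero]

theorem lab_neg (a : List ℤ) : C.lab (vneg a) = (C.lab a)⁻¹ := by
  refine eq_inv_of_mul_eq_one_left ?_
  rw [← C.lab_add]
  refine List.prod_eq_one fun x hx => ?_
  obtain ⟨i, hi, rfl⟩ := List.mem_map.1 hx
  have hi' := List.mem_range.1 hi
  simp [vadd, vneg, List.getD_eq_getElem?_getD, hi']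

theorem lab_unit {i : ℕ} (hi : i < 14) (s : ℤ) : C.lab (vunit i s) = C.t i ^ s := by
  rw [vunit, lab_map]
  have e : (fun k => C.t k ^ (if k = i then s else 0)) = fun k => if k = i then C.t i ^ s else 1 := by
    funext k
    split
    · rename_i h; rw [h]
    · rw [zpow_zero]
  rw [e]
  interval_cases i <;> simp [List.range_succ]

end Ctx

/-- One conjugate of a relator. -/
def conjWord (p : List ℕ × ℕ × Bool) : List ℕ :=
  p.1 ++ (if p.2.2 then invW (relW.getD p.2.1 []) else relW.getD p.2.1 []) ++ invW p.1

/-- The label of one conjugate. -/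
def conjLab (p : List ℕ × ℕ × Bool) : List ℤ := vunit (p.2.1 - 72) (if p.2.2 then -1 else 1)

/-- The label of a product of conjugates. -/
def witLab : List (List ℕ × ℕ × Bool) → List ℤ
  | [] => vzero
  | p :: l => vadd (conjLab p) (witLab l)

/-- A word is freely a product of conjugates of the last fourteen relators with the given label. -/
def witChk (w : List ℕ) (e : List ℤ) (l : List (List ℕ × ℕ × Bool)) : Bool :=
  (l.all fun p => Nat.ble 72 p.2.1 && Nat.blt p.2.1 86) &&
    decide (fred w = fred (l.flatMap conjWord)) && decide (witLab l = e)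

theorem Ctx.witChk_sound {G X : Type} [Group G] [MulAction G X] (C : Ctx G X) {w : List ℕ} {e : List ℤ}
    {l : List (List ℕ × ℕ × Bool)} (h : witChk w e l = true) : C.W w = C.lab e := by
  simp only [witChk, Bool.and_eq_true, List.all_eq_true, decide_eq_true_eq, Nat.blt_eq, Nat.ble_eq] at h
  obtain ⟨⟨hj, hw⟩, rfl⟩ := h
  have e1 := congrArg (prodV C.f) hw
  rw [prodV_fred, prodV_fred] at e1
  rw [Ctx.W, e1]
  clear e1 hw
  induction l with
  | nil => rw [witLab, C.lab_zero]; rfl
  | cons p l ih =>
    rw [List.flatMap_cons, prodV_append, witLab, C.lab_add, ih fun q hq => hj q (List.mem_cons_of_mem _ hq)]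
    congr 1
    obtain ⟨h1, h2⟩ := hj p List.mem_cons_self
    have hc : ∀ g, g * C.t (p.2.1 - 72) = C.t (p.2.1 - 72) * g := Subgroup.mem_center_iff.1 (C.t_mem _)
    have hr : prodV C.f (relW.getD p.2.1 []) = C.t (p.2.1 - 72) := by
      rw [← C.t_eq _ (show p.2.1 - 72 < 14 by omega), Nat.add_sub_cancel' h1]
    rw [conjWord, prodV_append, prodV_append, prodV_invW, conjLab, C.lab_unit (by omega)]
    by_cases hb : p.2.2
    · have hci : ∀ g : G, g * (C.t (p.2.1 - 72))⁻¹ = (C.t (p.2.1 - 72))⁻¹ * g :=
        Subgroup.mem_center_iff.1 (inv_mem (C.t_mem _))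
      simp only [hb, if_true, prodV_invW, hr, hci]
      simp
    · simp only [hb, if_false, Bool.false_eq_true, hr, hc]
      simp

/-- The word of a loop. -/
def loopWord : List (List ℕ) → List ℕ
  | [] => []
  | g :: gs => loopWord gs ++ g ++ [4]

/-- A loop. -/
def loopG (i : ℕ) : List (List ℕ) := (loopTab.getD i ([], [])).1

/-- The label of a loop. -/
def loopR (i : ℕ) : List ℤ := (loopTab.getD i ([], [])).2

/-- A label of a conjugation. -/
def tau1 (g : ℕ) : List ℤ := tauW.getD g []

/-- The witnesses are right. -/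
def relChkAll : Bool :=
  ((List.range 16).all fun g =>
    witChk ([9] ++ invW (kW.getD g []) ++ [4] ++ xW.getD g []) (tau1 g) (witTab.getD g []) &&
      okW (kW.getD g [])) &&
  ((List.range 20).all fun i =>
    witChk (loopWord (loopG i)) (loopR i) (witTab.getD (16 + i) []) && (loopG i).all okW)

theorem relChkAll_ok : relChkAll = true := by decide +kernel

variable {G X : Type} [Group G] [MulAction G X] (C : Ctx G X)

theorem Ctx.z_conj {g : ℕ} (hg : g < 16) :
    C.z * C.W (xW.getD g []) = C.W (kW.getD g []) * C.z * C.lab (tau1 g) ∧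
      okW (kW.getD g []) = true := by
  have h := relChkAll_ok
  simp only [relChkAll, Bool.and_eq_true] at h
  have h1 := List.all_eq_true.1 h.1 g (List.mem_range.2 hg)
  simp only [Bool.and_eq_true] at h1
  refine ⟨?_, h1.2⟩
  have e := C.witChk_sound h1.1
  rw [C.W_append, C.W_append, C.W_append, C.W_zi, C.W_z, C.W_invW] at e
  rw [← e]
  group

theorem Ctx.loop_val {i : ℕ} (hi : i < 20) :
    C.W (loopWord (loopG i)) = C.lab (loopR i) ∧ ∀ g ∈ loopG i, okW g = true := by
  have h := relChkAll_ok
  simp only [relChkAll, Bool.and_eq_true] at h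
  have h1 := List.all_eq_true.1 h.2 i (List.mem_range.2 hi)
  simp only [Bool.and_eq_true] at h1
  exact ⟨C.witChk_sound h1.1, List.all_eq_true.1 h1.2⟩

end CfsgLib.LyIndex
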