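import Cfsg.Agent.Lib.LyIndex.ChainData

/-!
# Reading equations of words from five points
-/

set_option autoImplicit false
set_option maxRecDepth 100000
set_option synthInstance.maxHeartbeats 400000

namespace CfsgLib.LyIndex

open CfsgLib.LyGTwo

/-- The five points. -/
def base : List ℕ := [0, 1, 4, 5, 6]

/-- Two words have the same image of each of the five points. -/
def same (u v : List ℕ) : Bool :=
  okW u && okW v && base.all fun b => Nat.beq (img u b) (img v b)

theorem chain_checks : chainOk [] hChain = true ∧ chainSize hChain = 5859000000 ∧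
    chainPts [] hChain = base.reverse := by
  refine ⟨?_, ?_, ?_⟩ <;> decide +kernel

theorem fix_base : fixOf base = ⊥ := by
  haveI := mt_finite
  obtain ⟨h1, h2, h3⟩ := chain_checks
  have := chain_bound ⊤ h1 (fun _ _ w _ => Subgroup.mem_top _)
  rw [h2, h3, top_inf_eq, top_inf_eq, fix_nil, Subgroup.card_top, gTwo_card] at this
  have hpos : 0 < Nat.card (fixOf base.reverse) := Nat.card_pos
  have h : fixOf base.reverse = ⊥ := Subgroup.card_eq_one.1 (by omega)
  have e : fixOf base = fixOf base.reverse := by
    ext m
    simp [fixOf]
  rw [e, h]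

theorem base_lt : ∀ b ∈ base, b < 3906 := by decide

theorem okW_append {u v : List ℕ} : okW (u ++ v) = true ↔ okW u = true ∧ okW v = true := by
  simp [okW]

/-- Equal images give equal elements. -/
theorem gv_same {u v : List ℕ} (h : same u v = true) : gv u = gv v := by
  simp only [same, Bool.and_eq_true, List.all_eq_true, Nat.beq_eq] at h
  obtain ⟨⟨hu, hv⟩, hb⟩ := h
  have hm : gv v * (gv u)⁻¹ ∈ fixOf base := by
    intro b hb'
    rw [mul_smul, (img_spec hu (base_lt b hb')).2, hb b hb', ← (img_spec hv (base_lt b hb')).2,
      smul_inv_smul]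
  rw [fix_base, Subgroup.mem_bot, mul_inv_eq_one] at hm
  exact hm.symm

theorem same_ok {u v : List ℕ} (h : same u v = true) : okW u = true ∧ okW v = true := by
  simp only [same, Bool.and_eq_true] at h
  exact h.1

end CfsgLib.LyIndex
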