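import Cfsg.Agent.Lib.LyGTwo.GSide

/-!
# The action of G₂(5) on 3906 cosets

The table of the last stage of the order bound is the coset action of a subgroup of order at most
1500000, so its 3906 points are all different.
-/

set_option autoImplicit false
set_option maxRecDepth 100000
set_option synthInstance.maxHeartbeats 400000
set_option maxHeartbeats 1000000

namespace CfsgLib.LyIndex

open CfsgLib.LyGTwo Cfsg.Lie

local instance : Fact (Nat.Prime 5) := ⟨by norm_num⟩

/-- G₂(5). -/
abbrev Mt : Type := ↥(chevG2.group (ZMod 5))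

/-- The element of a word. -/
noncomputable def gv (w : List ℕ) : Mt := prodV gG w

/-- A letter other than z and its inverse. -/
def okG (g : ℕ) : Bool := Nat.blt g 9 && !Nat.beq g 4

/-- A word in the letters other than z. -/
def okW (w : List ℕ) : Bool := w.all okG

/-- The column of a letter. -/
def col (g : ℕ) : ℕ := if g < 4 then g else g + 4

/-- The image of a point under a letter. -/
def step (i g : ℕ) : ℕ := certThree.tbl i (col g)

/-- The image of a point under a word. -/
def img (w : List ℕ) (i : ℕ) : ℕ := w.foldl step i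

theorem col_checks : ((List.range 10).all fun g =>
    !okG g || (Nat.blt (col g) certThree.ng && decide (stW ixThree (col g) = [g]))) = true := by
  decide +kernel

theorem okG_lt {g : ℕ} (h : okG g = true) : g < 10 := by
  simp [okG] at h; omega

theorem col_spec {g : ℕ} (h : okG g = true) :
    col g < certThree.ng ∧ stE gG ixThree (col g) = letV gG g := by
  have := List.all_eq_true.1 col_checks g (List.mem_range.2 (okG_lt h))
  simp only [h, Bool.not_true, Bool.false_or, Bool.and_eq_true, Nat.blt_eq, decide_eq_true_eq] at this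
  exact ⟨this.1, by rw [stE, this.2]; simp [prodV]⟩

/-- The subgroup of the cosets. -/
noncomputable def Pt : Subgroup Mt := Subgroup.closure (stE gG ixTwo '' {g | g < certTwo.ng})

theorem rels_ok {j : ℕ} : prodV gG (rel44 j) = 1 := gG_rels j

theorem subs_two : certTwo.subs.all (fun w => match w with
    | [g] => (List.range certOne.ng).any fun h => decide (stW ixTwo g = stW ixOne h)
    | _ => false) = true := by decide +kernel

theorem subs_three : certThree.subs.all (fun w => match w with
    | [g] => (List.range certTwo.ng).any fun h => decide (stW ixThree g = stW ixTwo h)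
    | _ => false) = true := by decide +kernel

theorem subs_one : certOne.subs = [[4]] ∧ certOne.n = 625 ∧ certTwo.n = 480 ∧ certThree.n = 3906 ∧
    [4, 4, 4, 4, 4] ∈ certOne.rels := by decide +kernel

theorem pt_card : Finite ↥Pt ∧ Nat.card ↥Pt ≤ 1500000 := by
  obtain ⟨r1, r2, -, i1, i2, -⟩ := chks_ok
  obtain ⟨hs1, n1, n2, -, hm⟩ := subs_one
  have hfive : (stE gG ixOne 4) ^ 5 = 1 := by
    have := relChk_sound gG gG_rels ixOne r1 [4, 4, 4, 4, 4] hm
    simpa [pow_succ, mul_assoc] using this
  have hfin : IsOfFinOrder (stE gG ixOne 4) := isOfFinOrder_iff_pow_eq_one.2 ⟨5, by norm_num, hfive⟩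
  haveI : Finite ↥(Subgroup.zpowers (stE gG ixOne 4)) := hfin.finite_zpowers.to_subtype
  have c0 : Nat.card ↥(Subgroup.zpowers (stE gG ixOne 4)) ≤ 5 := by
    rw [Nat.card_zpowers]
    exact orderOf_le_of_pow_eq_one (by norm_num) hfive
  obtain ⟨f1, c1⟩ := stage_bound certOne checkOne (by omega) (stE gG ixOne)
    (fun g hg => (invChk_sound gG i1 hg).2) (fun g hg => (invChk_sound gG i1 hg).1)
    (relChk_sound gG gG_rels ixOne r1) (Subgroup.zpowers (stE gG ixOne 4)) (by
      intro w hw
      rw [hs1, List.mem_singleton] at hw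
      subst hw
      simp)
  haveI := f1
  obtain ⟨f2, c2⟩ := stage_bound certTwo checkTwo (by omega) (stE gG ixTwo)
    (fun g hg => (invChk_sound gG i2 hg).2) (fun g hg => (invChk_sound gG i2 hg).1)
    (relChk_sound gG gG_rels ixTwo r2) (Subgroup.closure (stE gG ixOne '' {g | g < certOne.ng})) (by
      intro w hw
      have h := List.all_eq_true.1 subs_two w hw
      split at h
      · rename_i g
        obtain ⟨k, hk, e⟩ := List.any_eq_true.1 h
        refine Subgroup.subset_closure ⟨k, List.mem_range.1 hk, ?_⟩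
        simp [stE, of_decide_eq_true e]
      · simp at h)
  refine ⟨f2, c2.trans ?_⟩
  rw [n2]
  rw [n1] at c1
  omega

theorem ng_three_checks : invChk certThree ixThree = true := chks_ok.2.2.2.2.2

/-- The left action by the inverse of a letter of the stage. -/
noncomputable def tgen (g : ℕ) : Mt := (stE gG ixThree g)⁻¹

/-- The points. -/
noncomputable def pnt (i : ℕ) : Mt ⧸ Pt :=
  CosetCert.pt certThree tgen ((1 : Mt) : Mt ⧸ Pt) i

theorem table_spec : pnt 0 = ((1 : Mt) : Mt ⧸ Pt) ∧ ∀ i g, i < certThree.n → g < certThree.ng →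
    certThree.tbl i g < certThree.n ∧ tgen g • pnt i = pnt (certThree.tbl i g) := by
  obtain ⟨-, -, r3, -, -, i3⟩ := chks_ok
  refine CosetCert.check_sound checkThree (fun g hg => ?_) (fun w hw => ?_) (fun w hw => ?_)
  · rw [tgen, tgen, (invChk_sound gG i3 hg).2]
  · rw [show (CosetCert.act tgen w : Mt) = _ from act_inv (stE gG ixThree) w,
      relChk_sound gG gG_rels ixThree r3 w hw, inv_one]
  · rw [show (CosetCert.act tgen w : Mt) = _ from act_inv (stE gG ixThree) w,
      MulAction.Quotient.smul_coe, smul_eq_mul, mul_one, QuotientGroup.eq, inv_inv, mul_one]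
    have h := List.all_eq_true.1 subs_three w hw
    split at h
    · rename_i g
      obtain ⟨k, hk, e⟩ := List.any_eq_true.1 h
      refine Subgroup.subset_closure ⟨k, List.mem_range.1 hk, ?_⟩
      simp [stE, of_decide_eq_true e]
    · simp at h

theorem step_spec {g i : ℕ} (hg : okG g = true) (hi : i < 3906) :
    step i g < 3906 ∧ (letV gG g)⁻¹ • pnt i = pnt (step i g) := by
  obtain ⟨-, -, -, hn, -⟩ := subs_one
  obtain ⟨h1, h2⟩ := col_spec hg
  have := table_spec.2 i (col g) (hn ▸ hi) h1
  rw [hn, tgen, h2] at this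
  exact this

theorem gv_cons (g : ℕ) (w : List ℕ) : gv (g :: w) = letV gG g * gv w := prodV_cons _ _ _

theorem gv_nil : gv [] = 1 := rfl

theorem gv_append (u w : List ℕ) : gv (u ++ w) = gv u * gv w := prodV_append _ _ _

theorem gv_invW (w : List ℕ) : gv (invW w) = (gv w)⁻¹ := prodV_invW _ _

theorem img_spec : ∀ {w : List ℕ}, okW w = true → ∀ {i : ℕ}, i < 3906 →
    img w i < 3906 ∧ (gv w)⁻¹ • pnt i = pnt (img w i)
  | [], _, i, hi => ⟨hi, by rw [gv_nil, inv_one, one_smul]; rfl⟩
  | g :: w, h, i, hi => by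
    simp only [okW, List.all_cons, Bool.and_eq_true] at h
    obtain ⟨h1, h2⟩ := step_spec h.1 hi
    obtain ⟨h3, h4⟩ := img_spec (w := w) h.2 h1
    refine ⟨h3, ?_⟩
    rw [gv_cons, mul_inv_rev, mul_smul, h2, h4]
    rfl

theorem pnt_surj (x : Mt ⧸ Pt) : ∃ i < 3906, pnt i = x := by
  have key : ∀ m : Mt, ∀ i < 3906, (∃ j < 3906, m • pnt i = pnt j) ∧ ∃ j < 3906, m⁻¹ • pnt i = pnt j := by
    intro m
    have hm : m ∈ Subgroup.closure (gG '' {g | g < 4}) := gG_top ▸ Subgroup.mem_top m
    induction hm using Subgroup.closure_induction with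
    | mem x hx =>
      obtain ⟨g, hg, rfl⟩ := hx
      have hg' : g < 4 := hg
      intro i hi
      have h1 := step_spec (g := g + 5) (by interval_cases g <;> rfl) hi
      have h2 := step_spec (g := g) (by interval_cases g <;> rfl) hi
      have e1 : letV gG (g + 5) = (gG g)⁻¹ := by
        rw [letV, if_neg (by omega)]
        congr 2; omega
      have e2 : letV gG g = gG g := by
        rw [letV, if_pos (by omega)]
        congr 1; omega
      rw [e1, inv_inv] at h1
      rw [e2] at h2
      exact ⟨⟨_, h1⟩, ⟨_, h2⟩⟩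
    | one => exact fun i hi => ⟨⟨i, hi, one_smul _ _⟩, ⟨i, hi, by rw [inv_one, one_smul]⟩⟩
    | mul x y _ _ hx hy =>
      intro i hi
      obtain ⟨j, hj, e1⟩ := (hy i hi).1
      obtain ⟨k, hk, e2⟩ := (hx j hj).1
      obtain ⟨j', hj', e3⟩ := (hx i hi).2
      obtain ⟨k', hk', e4⟩ := (hy j' hj').2
      exact ⟨⟨k, hk, by rw [mul_smul, e1, e2]⟩, ⟨k', hk', by rw [mul_inv_rev, mul_smul, e3, e4]⟩⟩
    | inv x _ hx => exact fun i hi => ⟨(hx i hi).2, by rw [inv_inv]; exact (hx i hi).1⟩
  obtain ⟨m, rfl⟩ := QuotientGroup.mk_surjective x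
  obtain ⟨j, hj, e⟩ := (key m 0 (by norm_num)).1
  exact ⟨j, hj, by rw [← e, table_spec.1, MulAction.Quotient.smul_coe, smul_eq_mul, mul_one]⟩

theorem cosets_card : Nat.card (Mt ⧸ Pt) = 3906 ∧ Nat.card ↥Pt = 1500000 := by
  obtain ⟨hf, hc⟩ := pt_card
  haveI : Finite Mt := Nat.finite_of_card_ne_zero (by rw [gTwo_card]; norm_num)
  have h1 : Nat.card (Mt ⧸ Pt) ≤ 3906 := by
    refine (Nat.card_le_card_of_surjective (fun i : Fin 3906 => pnt i) ?_).trans_eq (Nat.card_fin _)
    intro x
    obtain ⟨i, hi, e⟩ := pnt_surj x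
    exact ⟨⟨i, hi⟩, e⟩
  have h2 := Subgroup.card_eq_card_quotient_mul_card_subgroup Pt
  rw [gTwo_card] at h2
  have : 0 < Nat.card ↥Pt := Nat.card_pos
  constructor <;> nlinarith

theorem pnt_inj {i j : ℕ} (hi : i < 3906) (hj : j < 3906) (h : pnt i = pnt j) : i = j := by
  haveI : Finite Mt := Nat.finite_of_card_ne_zero (by rw [gTwo_card]; norm_num)
  have hs : Function.Surjective (fun i : Fin 3906 => pnt i) := fun x => by
    obtain ⟨i, hi, e⟩ := pnt_surj x
    exact ⟨⟨i, hi⟩, e⟩
  have := ((Nat.bijective_iff_surjective_and_card _).2 ⟨hs, by rw [Nat.card_fin, cosets_card.1]⟩).1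
    (a₁ := ⟨i, hi⟩) (a₂ := ⟨j, hj⟩) h
  simpa using this

/-- The stabiliser of the first point. -/
theorem fix_zero_iff {w : List ℕ} (h : okW w = true) : img w 0 = 0 ↔ gv w ∈ Pt := by
  obtain ⟨h1, h2⟩ := img_spec h (i := 0) (by norm_num)
  rw [table_spec.1, MulAction.Quotient.smul_coe, smul_eq_mul, mul_one] at h2
  constructor
  · intro e
    rw [e, table_spec.1, QuotientGroup.eq, inv_inv, mul_one] at h2
    exact h2
  · intro e
    refine pnt_inj h1 (by norm_num) ?_
    rw [← h2, table_spec.1, QuotientGroup.eq, inv_inv, mul_one]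
    exact e

theorem exists_word (m : Mt) : ∃ w : List ℕ, okW w = true ∧ gv w = m := by
  have hm : m ∈ Subgroup.closure (gG '' {g | g < 4}) := gG_top ▸ Subgroup.mem_top m
  induction hm using Subgroup.closure_induction with
  | mem x hx =>
    obtain ⟨g, hg, rfl⟩ := hx
    have hg' : g < 4 := hg
    refine ⟨[g], by interval_cases g <;> rfl, ?_⟩
    simp [gv, prodV, letV, Nat.mod_eq_of_lt (show g < 10 by omega), show g < 5 by omega]
  | one => exact ⟨[], rfl, rfl⟩
  | mul x y _ _ hx hy =>
    obtain ⟨u, hu, rfl⟩ := hx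
    obtain ⟨v, hv, rfl⟩ := hy
    refine ⟨u ++ v, ?_, gv_append u v⟩
    simp only [okW, List.all_append] at *
    rw [hu, hv]; rfl
  | inv x _ hx =>
    obtain ⟨u, hu, rfl⟩ := hx
    refine ⟨invW u, ?_, gv_invW u⟩
    simp only [okW, List.all_eq_true, invW, List.mem_map, List.mem_reverse] at *
    rintro _ ⟨g, hg, rfl⟩
    have := hu g hg
    have hl := okG_lt this
    interval_cases g <;> first | rfl | exact absurd this (by decide)

end CfsgLib.LyIndex
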